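import Cfsg.Agent.Lib.ChainEight.Defs

/-!
# Chain length eight: elementary consequences of the interface
-/

set_option autoImplicit false

namespace CfsgLib.ChainEight

open Subgroup

universe u

variable {G : Type u} [Group G] [Finite G]

/-- An element of odd order centralizing `t` makes `t` bad. -/
theorem not_good_of_odd {t x : G} (hx : Odd (orderOf x)) (hx1 : x ≠ 1) (hc : x * t = t * x) :
    ¬ Good t := by
  intro h
  obtain ⟨k, hk⟩ := h ⟨x, mem_centralizer_singleton_iff.2 hc⟩
  have h1 : orderOf x ∣ 2 ^ k := orderOf_dvd_of_pow_eq_one (by simpa using congrArg Subtype.val hk)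
  obtain ⟨j, -, hj⟩ := (Nat.dvd_prime_pow Nat.prime_two).1 h1
  rcases Nat.eq_zero_or_pos j with rfl | hj0
  · exact hx1 (orderOf_eq_one_iff.1 (by simpa using hj))
  · rw [hj] at hx
    exact Nat.not_even_iff_odd.2 hx ((Nat.even_pow' hj0.ne').2 even_two)

/-- Conjugates of good elements are good. -/
theorem Good.conj {t : G} (h : Good t) (g : G) : Good (g * t * g⁻¹) := by
  intro ⟨a, ha⟩
  have hm : g⁻¹ * a * g ∈ centralizer ({t} : Set G) := by
    have h1 := mem_centralizer_singleton_iff.1 ha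
    rw [mem_centralizer_singleton_iff]
    calc g⁻¹ * a * g * t = g⁻¹ * (a * (g * t * g⁻¹)) * g := by group
      _ = g⁻¹ * (g * t * g⁻¹ * a) * g := by rw [h1]
      _ = t * (g⁻¹ * a * g) := by group
  obtain ⟨k, hk⟩ := h ⟨_, hm⟩
  refine ⟨k, Subtype.ext ?_⟩
  have h2 : (g⁻¹ * a * g) ^ (2 ^ k) = 1 := by simpa using congrArg Subtype.val hk
  have h3 : g⁻¹ * a ^ (2 ^ k) * g = 1 := by
    have := conj_pow (i := 2 ^ k) (a := g⁻¹) (b := a)
    rw [inv_inv] at this
    rw [← this, h2]
  simpa [mul_inv_eq_one, inv_mul_eq_one] using (show a ^ (2 ^ k) = 1 by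
    calc a ^ (2 ^ k) = g * (g⁻¹ * a ^ (2 ^ k) * g) * g⁻¹ := by group
      _ = 1 := by rw [h3]; group)

theorem Eight.good_central (h : Eight G) {S : Sylow 2 G} {z : G} (hz : z ∈ (S : Subgroup G))
    (hz1 : z ≠ 1) (hc : ∀ a ∈ (S : Subgroup G), a * z = z * a) : Good z := by
  unfold Good
  rw [h.cent S z hz hz1 hc]
  exact S.isPGroup'

theorem Eight.exists_central (h : Eight G) (S : Sylow 2 G) :
    ∃ z ∈ (S : Subgroup G), orderOf z = 2 ∧ ∀ a ∈ (S : Subgroup G), a * z = z * a := by
  haveI : Fact (Nat.Prime 2) := ⟨Nat.prime_two⟩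
  haveI : Nontrivial (S : Subgroup G) := by
    rw [Subgroup.nontrivial_iff_ne_bot]
    intro hb
    have := h.card_syl S
    rw [hb] at this
    simp at this
  haveI := S.isPGroup'.center_nontrivial
  obtain ⟨n, hn⟩ := (S.isPGroup'.to_subgroup (center (S : Subgroup G))).exists_card_eq
  have h2 : 2 ∣ Nat.card (center (S : Subgroup G)) := by
    rw [hn]
    refine dvd_pow_self 2 fun h0 => ?_
    have := Finite.one_lt_card (α := center (S : Subgroup G))
    rw [hn, h0] at this
    simp at this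
  obtain ⟨z, hz⟩ := exists_prime_orderOf_dvd_card' 2 h2
  refine ⟨((z : (S : Subgroup G)) : G), (z : (S : Subgroup G)).2, by rw [Subgroup.orderOf_coe, Subgroup.orderOf_coe]; exact hz, fun a ha => ?_⟩
  exact congrArg Subtype.val (mem_center_iff.1 z.2 ⟨a, ha⟩)

variable {S : Sylow 2 G} {D T : Subgroup G}

theorem Loc.T_le (h : Loc S D T) : T ≤ normalizer (D : Set G) := h.inf_norm ▸ inf_le_right

theorem Loc.D_le_S (h : Loc S D T) : D ≤ (S : Subgroup G) := h.le_T.trans h.le_S

theorem Loc.T_lt (h : Loc S D T) : T < (S : Subgroup G) := by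
  refine lt_of_le_of_ne h.le_S fun he => ?_
  have h1 := h.eight.norm S D h.ne_bot h.D_le_S (he ▸ h.T_le)
  exact h.not_two (h1 ▸ S.isPGroup')

theorem Loc.mem_T (h : Loc S D T) {a : G} (ha : a ∈ (S : Subgroup G))
    (hn : a ∈ normalizer (D : Set G)) : a ∈ T := h.inf_norm ▸ ⟨ha, hn⟩

/-- An element of `S` normalizing `T`, outside `T`, with square in `T`. -/
theorem Loc.exists_g (h : Loc S D T) : ∃ g ∈ (S : Subgroup G), g ∉ T ∧ g * g ∈ T ∧
    g ∈ normalizer (T : Set G) := by
  haveI : Fact (Nat.Prime 2) := ⟨Nat.prime_two⟩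
  have hlt : T.subgroupOf (S : Subgroup G) < ⊤ := by
    rw [lt_top_iff_ne_top, Ne, Subgroup.subgroupOf_eq_top]
    exact fun hle => h.T_lt.ne (le_antisymm h.le_S hle)
  have hnc := haveI := S.isPGroup'.isNilpotent; normalizerCondition_of_isNilpotent _ hlt
  obtain ⟨a, haN, haT⟩ := SetLike.exists_of_lt hnc
  obtain ⟨k, hk⟩ := S.isPGroup' a
  classical
  have hex : ∃ j, a ^ (2 ^ j) ∈ T.subgroupOf (S : Subgroup G) := ⟨k, by rw [hk]; exact one_mem _⟩
  obtain ⟨j, hj⟩ := Nat.exists_eq_succ_of_ne_zero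
    (fun h0 : Nat.find hex = 0 => haT (by simpa [h0] using Nat.find_spec hex))
  set b := a ^ (2 ^ j) with hb
  have hbT : b ∉ T.subgroupOf (S : Subgroup G) := fun hm => Nat.find_min hex (by omega) hm
  have hb2 : b * b ∈ T.subgroupOf (S : Subgroup G) := by
    have := Nat.find_spec hex
    rwa [hj, Nat.succ_eq_add_one, pow_succ, pow_mul, sq] at this
  have hbN : b ∈ normalizer (T.subgroupOf (S : Subgroup G) : Set (S : Subgroup G)) := pow_mem haN _
  refine ⟨b, b.2, fun hm => hbT hm, hb2, ?_⟩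
  rw [mem_normalizer_iff] at hbN ⊢
  intro t
  constructor
  · intro ht
    exact (hbN ⟨t, h.le_S ht⟩).1 ht
  · intro ht
    have htS : t ∈ (S : Subgroup G) := by
      have := mul_mem (mul_mem (inv_mem b.2) (h.le_S ht)) b.2
      simpa [mul_assoc] using this
    exact (hbN ⟨t, htS⟩).2 ht

theorem Loc.central_mem (h : Loc S D T) {z : G} (hz : ∀ a ∈ (S : Subgroup G), a * z = z * a) :
    z ∈ D :=
  h.centric fun a ha => hz a (h.D_le_S ha)

theorem Par.x_ne {C : Subgroup G} {x u s z0 : G} (h : Par S D T C x u s z0) : x ≠ 1 := by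
  intro hx
  have := h.conj_x
  rw [hx] at this
  simp only [one_mul, inv_one, mul_one] at this
  exact h.u_notMem (by
    exfalso
    have h1 : u * s * (u * s) = u := h.z0_eq ▸ this
    have hu : u * u = 1 := by rw [← sq, ← h.u_two, pow_orderOf_eq_one]
    have hs : s * s = 1 := by rw [← sq, ← h.s_two, pow_orderOf_eq_one]
    have hcomm : u * z0 = z0 * u := h.comm u h.u_mem z0 h.z0_mem
    have h2 : s * u * s = 1 := mul_left_cancel (a := u) (by
      rw [mul_one]; simpa [mul_assoc] using h1)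
    have h3 : u = 1 := by
      calc u = s * (s * u * s) * s := by simp [mul_assoc, hs]; simp [← mul_assoc, hs]
        _ = 1 := by rw [h2, mul_one, hs]
    have := h.u_two
    rw [h3, orderOf_one] at this
    omega)

theorem Par.bad {C : Subgroup G} {x u s z0 : G} (h : Par S D T C x u s z0) {c : G} (hc : c ∈ C) :
    ¬ Good c :=
  not_good_of_odd h.x_odd h.x_ne (h.C_x c hc)

end CfsgLib.ChainEight
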