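import Cfsg.Agent.Lib.ChainEight.Basic
import Cfsg.Agent.S0200

/-!
# Chain length eight: the subgroup `D` is abelian
-/

set_option autoImplicit false
set_option linter.unusedSectionVars false
set_option linter.unusedVariables false
set_option linter.unusedSimpArgs false
set_option linter.style.haveILetI false
set_option linter.unnecessarySeqFocus false

namespace CfsgLib.ChainEight

open Subgroup

universe u

variable {G : Type u} [Group G]

/-- the commutator of two elements -/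
def kap (a b : G) : G := a * b * a⁻¹ * b⁻¹

theorem kap_conj (g a b : G) :
    g * kap a b * g⁻¹ = kap (g * a * g⁻¹) (g * b * g⁻¹) := by
  simp only [kap]; group

theorem kap_eq_one_iff {a b : G} : kap a b = 1 ↔ a * b = b * a := by
  constructor
  · intro h
    calc a * b = kap a b * (b * a) := by simp only [kap]; group
      _ = b * a := by rw [h, one_mul]
  · intro h
    simp only [kap]
    rw [h]; group

theorem kap_swap (a b : G) : kap b a = (kap a b)⁻¹ := by
  simp only [kap]; group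

/-- central factors do not change a commutator -/
theorem kap_mul {p q z w : G} (h1 : z * q = q * z) (h2 : z * w = w * z) (h3 : w * p = p * w) :
    kap (p * z) (q * w) = kap p q := by
  have hz : z * (q * w) = q * w * z := by rw [← mul_assoc, h1, mul_assoc, h2, ← mul_assoc]
  have hw : w * p⁻¹ = p⁻¹ * w := by
    calc w * p⁻¹ = p⁻¹ * (p * w) * p⁻¹ := by group
      _ = p⁻¹ * (w * p) * p⁻¹ := by rw [h3]
      _ = p⁻¹ * w := by group
  calc kap (p * z) (q * w) = p * (z * (q * w)) * z⁻¹ * p⁻¹ * w⁻¹ * q⁻¹ := by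
        simp only [kap]; group
    _ = p * q * (w * p⁻¹) * w⁻¹ * q⁻¹ := by rw [hz]; group
    _ = kap p q := by rw [hw]; simp only [kap]; group

variable [Finite G]

/-- Four distinct cosets of a subgroup of index four exhaust the group. -/
theorem four_cosets {K Z : Subgroup G} (hcard : Nat.card K ≤ 4 * Nat.card Z) (hZK : Z ≤ K)
    {a b c : G} (ha : a ∈ K) (hb : b ∈ K) (hc : c ∈ K) (ha' : a ∉ Z) (hb' : b ∉ Z) (hc' : c ∉ Z)
    (hab : a⁻¹ * b ∉ Z) (hac : a⁻¹ * c ∉ Z) (hbc : b⁻¹ * c ∉ Z) :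
    ∀ k ∈ K, k ∈ Z ∨ a⁻¹ * k ∈ Z ∨ b⁻¹ * k ∈ Z ∨ c⁻¹ * k ∈ Z := by
  classical
  have hidx : (Z.subgroupOf K).index ≤ 4 := by
    have h := card_mul_index (Z.subgroupOf K)
    rw [Nat.card_congr (subgroupOfEquivOfLe hZK).toEquiv] at h
    have hZ : 0 < Nat.card Z := Nat.card_pos
    by_contra hlt
    have : Nat.card Z * 5 ≤ Nat.card Z * (Z.subgroupOf K).index :=
      Nat.mul_le_mul_left _ (by omega)
    omega
  intro k hk
  by_contra hcon
  simp only [not_or] at hcon
  obtain ⟨k1, k2, k3, k4⟩ := hcon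
  let r : Fin 5 → K := ![1, ⟨a, ha⟩, ⟨b, hb⟩, ⟨c, hc⟩, ⟨k, hk⟩]
  let f : Fin 5 → (K : Subgroup G) ⧸ Z.subgroupOf K := fun i => QuotientGroup.mk (r i)
  have hf : Function.Injective f := by
    intro i j hij
    have h1 : ((r i : K) : G)⁻¹ * (r j : K) ∈ Z := mem_subgroupOf.1 (QuotientGroup.eq.1 hij)
    have h2 : ((r j : K) : G)⁻¹ * (r i : K) ∈ Z := mem_subgroupOf.1 (QuotientGroup.eq.1 hij.symm)
    fin_cases i <;> fin_cases j <;> first
      | rfl
      | (exfalso
         simp [r] at h1 h2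
         simp_all)
  have := Nat.card_le_card_of_injective f hf
  rw [Nat.card_fin] at this
  simp only [Subgroup.index] at hidx
  omega

/-- In a group with centre of index four all commutators are powers of one of them. -/
theorem comm_pair {K Z : Subgroup G} (hZK : Z ≤ K) (hcard : Nat.card K ≤ 4 * Nat.card Z)
    (hZ : ∀ z ∈ Z, ∀ k ∈ K, z * k = k * z) {a b : G} (ha : a ∈ K) (hb : b ∈ K)
    (hab : a * b ≠ b * a) :
    kap a b ∈ Z ∧ ∀ p ∈ K, ∀ q ∈ K, kap p q = 1 ∨ kap p q = kap a b ∨ kap p q = (kap a b)⁻¹ := by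
  have haZ : a ∉ Z := fun h => hab (hZ a h b hb)
  have hbZ : b ∉ Z := fun h => hab (hZ b h a ha).symm
  have hab' : a * b ∈ K := mul_mem ha hb
  have habZ : a * b ∉ Z := fun h => hab (by
    have := hZ _ h a ha
    calc a * b = a⁻¹ * (a * (a * b)) := by group
      _ = a⁻¹ * (a * b * a) := by rw [this]
      _ = b * a := by group)
  have h4 := four_cosets hcard hZK ha hb hab' haZ hbZ habZ
    (fun h => hab (by
      have := hZ _ h a ha
      calc a * b = a * a * (a⁻¹ * b) := by group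
        _ = a * (a⁻¹ * b * a) := by rw [mul_assoc a a, this]
        _ = b * a := by group))
    (fun h => hbZ (by simpa [mul_assoc] using h))
    (fun h => haZ (by
      have h2 := hZ _ h b hb
      have e : a = b⁻¹ * (a * b) := by
        calc a = (b⁻¹ * (a * b) * b) * b⁻¹ * 1 := by rw [h2]; group
          _ = b⁻¹ * (a * b) := by group
      rw [e]; exact h))
  have hcab : kap a b ∈ Z := by
    rcases h4 (b * a) (mul_mem hb ha) with h | h | h | h
    · refine absurd ?_ hab
      have := hZ _ h b hb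
      calc a * b = b⁻¹ * (b * a * b) := by group
        _ = b⁻¹ * (b * (b * a)) := by rw [this]
        _ = b * a := by group
    · refine absurd ?_ hbZ
      have h2 := hZ _ h a ha
      have e : b = a⁻¹ * (b * a) := by
        calc b = (a * (a⁻¹ * (b * a))) * a⁻¹ := by group
          _ = (a⁻¹ * (b * a) * a) * a⁻¹ := by rw [← h2]
          _ = a⁻¹ * (b * a) := by group
      rw [e]; exact h
    · exact absurd (by simpa [mul_assoc] using h) haZ
    · have h2 := hZ _ h _ hab'
      have e : kap a b = ((a * b)⁻¹ * (b * a))⁻¹ := by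
        have h3 : (a * b) * ((a * b)⁻¹ * (b * a))⁻¹ = ((a * b)⁻¹ * (b * a))⁻¹ * (a * b) :=
          (hZ _ (inv_mem h) _ hab').symm
        calc kap a b = (a * b) * ((a * b)⁻¹ * (b * a))⁻¹ * (a * b)⁻¹ := by simp only [kap]; group
          _ = ((a * b)⁻¹ * (b * a))⁻¹ := by rw [h3]; group
      rw [e]
      exact inv_mem h
  refine ⟨hcab, fun p hp q hq => ?_⟩
  obtain ⟨p0, wp, hp0, hwp, rfl⟩ : ∃ p0 w, (p0 = 1 ∨ p0 = a ∨ p0 = b ∨ p0 = a * b) ∧ w ∈ Z ∧
      p = p0 * w := by
    rcases h4 p hp with h | h | h | h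
    · exact ⟨1, p, Or.inl rfl, h, (one_mul p).symm⟩
    · exact ⟨a, _, Or.inr (Or.inl rfl), h, by group⟩
    · exact ⟨b, _, Or.inr (Or.inr (Or.inl rfl)), h, by group⟩
    · exact ⟨a * b, _, Or.inr (Or.inr (Or.inr rfl)), h, by group⟩
  obtain ⟨q0, wq, hq0, hwq, rfl⟩ : ∃ q0 w, (q0 = 1 ∨ q0 = a ∨ q0 = b ∨ q0 = a * b) ∧ w ∈ Z ∧
      q = q0 * w := by
    rcases h4 q hq with h | h | h | h
    · exact ⟨1, q, Or.inl rfl, h, (one_mul q).symm⟩
    · exact ⟨a, _, Or.inr (Or.inl rfl), h, by group⟩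
    · exact ⟨b, _, Or.inr (Or.inr (Or.inl rfl)), h, by group⟩
    · exact ⟨a * b, _, Or.inr (Or.inr (Or.inr rfl)), h, by group⟩
  have hmem : ∀ r : G, r = 1 ∨ r = a ∨ r = b ∨ r = a * b → r ∈ K := by
    rintro r (rfl | rfl | rfl | rfl)
    exacts [one_mem _, ha, hb, hab']
  rw [kap_mul (hZ _ hwp _ (hmem _ hq0)) (hZ _ hwp _ (hZK hwq)) (hZ _ hwq _ (hmem _ hp0))]
  -- the table of the commutators of the representatives
  have hcK : ∀ k ∈ K, k * kap a b = kap a b * k := fun k hk => (hZ _ hcab k hk).symm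
  have e1 : kap a (a * b) = kap a b := by
    calc kap a (a * b) = a * kap a b * a⁻¹ := by simp only [kap]; group
      _ = kap a b := by rw [hcK a ha]; group
  have e2 : kap (a * b) b = kap a b := by simp only [kap]; group
  have e3 : kap (a * b) a = (kap a b)⁻¹ := by rw [kap_swap, e1]
  have e4 : kap b (a * b) = (kap a b)⁻¹ := by rw [kap_swap, e2]
  have e5 : kap b a = (kap a b)⁻¹ := kap_swap a b
  have self : ∀ r : G, kap r r = 1 := fun r => kap_eq_one_iff.2 rfl
  have one1 : ∀ r : G, kap 1 r = 1 := fun r => kap_eq_one_iff.2 (by simp)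
  have one2 : ∀ r : G, kap r 1 = 1 := fun r => kap_eq_one_iff.2 (by simp)
  rcases hp0 with rfl | rfl | rfl | rfl <;> rcases hq0 with rfl | rfl | rfl | rfl <;>
    first
      | exact Or.inl (self _)
      | exact Or.inl (one1 _)
      | exact Or.inl (one2 _)
      | exact Or.inr (Or.inl rfl)
      | exact Or.inr (Or.inl e1)
      | exact Or.inr (Or.inl e2)
      | exact Or.inr (Or.inr e3)
      | exact Or.inr (Or.inr e4)
      | exact Or.inr (Or.inr e5)

/-- An element of odd order with a 2-power correction fixes what it moves by a fixed element. -/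
theorem fix_ext {D : Subgroup G} (hD : IsPGroup 2 D) {x z h : G} (hx : Odd (orderOf x))
    (hh : h ∈ D) (hc : x * h = h * x) (e : x * z * x⁻¹ = z * h) : x * z = z * x := by
  have key : ∀ k : ℕ, x ^ k * z * (x ^ k)⁻¹ = z * h ^ k := by
    intro k
    induction k with
    | zero => simp
    | succ k ih =>
      have hcf : x * h ^ k * x⁻¹ = h ^ k := by
        rw [(Commute.pow_right hc k).eq, mul_inv_cancel_right]
      calc x ^ (k + 1) * z * (x ^ (k + 1))⁻¹ = x * (x ^ k * z * (x ^ k)⁻¹) * x⁻¹ := by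
            rw [pow_succ']; group
        _ = (x * z * x⁻¹) * (x * h ^ k * x⁻¹) := by rw [ih]; group
        _ = z * h ^ (k + 1) := by rw [e, hcf, mul_assoc, ← pow_succ']
  have h1 : h ^ orderOf x = 1 := by
    have := key (orderOf x)
    rw [pow_orderOf_eq_one, one_mul, inv_one, mul_one, left_eq_mul] at this
    exact this
  obtain ⟨j, hj⟩ := hD ⟨h, hh⟩
  have h2 : h ^ (2 ^ j) = 1 := by simpa using congrArg Subtype.val hj
  have h3 : h = 1 := by
    have hco : Nat.Coprime (orderOf x) (2 ^ j) := (Nat.coprime_two_right.2 hx).pow_right j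
    rw [← pow_one h, ← hco.gcd_eq_one]
    exact pow_gcd_eq_one.2 ⟨h1, h2⟩
  rw [h3, mul_one] at e
  exact mul_inv_eq_iff_eq_mul.1 e

variable {S : Sylow 2 G} {D T : Subgroup G}

theorem Loc.isPGroup_D (h : Loc S D T) : IsPGroup 2 D := S.isPGroup'.to_le h.D_le_S

theorem Loc.conj_D (h : Loc S D T) {n a : G} (hn : n ∈ normalizer (D : Set G)) (ha : a ∈ D) :
    n * a * n⁻¹ ∈ D := (mem_normalizer_iff.1 hn a).1 ha

theorem Loc.conj_cent (h : Loc S D T) {n a : G} (hn : n ∈ normalizer (D : Set G))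
    (ha : a ∈ centralizer (D : Set G)) : n * a * n⁻¹ ∈ centralizer (D : Set G) := by
  rw [mem_centralizer_iff] at ha ⊢
  intro d hd
  have hd' := ha _ (h.conj_D (inv_mem hn) hd)
  calc d * (n * a * n⁻¹) = n * (n⁻¹ * d * n⁻¹⁻¹ * a) * n⁻¹ := by group
    _ = n * (a * (n⁻¹ * d * n⁻¹⁻¹)) * n⁻¹ := by rw [hd']
    _ = n * a * n⁻¹ * d := by group

/-- the standing data -/
structure Odd' (S : Sylow 2 G) (D T : Subgroup G) (z x : G) : Prop where
  z_mem : z ∈ centralizer (D : Set G)
  z_two : z * z = 1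
  z_ne : z ≠ 1
  z_central : ∀ a ∈ (S : Subgroup G), a * z = z * a
  x_mem : x ∈ normalizer (D : Set G)
  x_odd : Odd (orderOf x)
  x_ne : x ≠ 1

theorem eq_one_of_comm (h : Loc S D T) {z : G} (hz : z ∈ (S : Subgroup G)) (hz1 : z ≠ 1)
    (hc : ∀ a ∈ (S : Subgroup G), a * z = z * a) {x : G} (hx : Odd (orderOf x))
    (hxz : x * z = z * x) : x = 1 := by
  by_contra h1
  exact not_good_of_odd hx h1 hxz (h.eight.good_central hz hz1 hc)

theorem Odd'.moves {z x : G} (o : Odd' S D T z x) (h : Loc S D T) : x * z ≠ z * x := fun e =>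
  o.x_ne (eq_one_of_comm h (h.D_le_S (h.centric o.z_mem)) o.z_ne o.z_central o.x_odd e)

theorem Odd'.sq {z x : G} (o : Odd' S D T z x) : Odd' S D T z (x * x) where
  z_mem := o.z_mem
  z_two := o.z_two
  z_ne := o.z_ne
  z_central := o.z_central
  x_mem := mul_mem o.x_mem o.x_mem
  x_odd := o.x_odd.of_dvd_nat (by rw [← pow_two]; exact orderOf_pow_dvd 2)
  x_ne := fun e => by
    have h2 : orderOf x ∣ 2 := orderOf_dvd_of_pow_eq_one (by rw [pow_two]; exact e)
    have hcop : Nat.Coprime (orderOf x) 2 := Nat.coprime_two_right.2 o.x_odd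
    exact o.x_ne (orderOf_eq_one_iff.1 (hcop.eq_one_of_dvd h2))

theorem sq_comm {x c : G} (hx : Odd (orderOf x)) (h : x * x * c = c * (x * x)) : x * c = c * x := by
  have hc : Commute (x * x) c := h
  obtain ⟨k, hk⟩ := hx
  have e : (x * x) ^ (k + 1) = x := by
    rw [← pow_two, ← pow_mul, show 2 * (k + 1) = orderOf x + 1 by omega, pow_succ,
      pow_orderOf_eq_one, one_mul]
  have := hc.pow_left (k + 1)
  rwa [e] at this

/-- the involutions of the centre -/
def vee (D : Subgroup G) : Subgroup G where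
  carrier := {a | a ∈ centralizer (D : Set G) ∧ a * a = 1 ∧
    ∀ b ∈ centralizer (D : Set G), b * a = a * b}
  one_mem' := ⟨one_mem _, one_mul 1, fun b _ => by simp⟩
  mul_mem' := fun {a b} ha hb => ⟨mul_mem ha.1 hb.1, by
    calc a * b * (a * b) = a * (b * a) * b := by group
      _ = a * a * (b * b) := by rw [ha.2.2 b hb.1]; group
      _ = 1 := by rw [ha.2.1, hb.2.1, one_mul], fun c hc => by
    rw [← mul_assoc, ha.2.2 c hc, mul_assoc, hb.2.2 c hc, ← mul_assoc]⟩
  inv_mem' := fun {a} ha => by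
    rw [inv_eq_of_mul_eq_one_right ha.2.1]
    exact ha

theorem Loc.cent_comm (h : Loc S D T) {a b : G} (ha : a ∈ centralizer (D : Set G)) (hb : b ∈ D) :
    b * a = a * b := mem_centralizer_iff.1 ha b hb

theorem Loc.mem_vee (h : Loc S D T) {a : G} (ha : a ∈ centralizer (D : Set G)) (h2 : a * a = 1) :
    a ∈ vee D := ⟨ha, h2, fun _ hb => h.cent_comm ha (h.centric hb)⟩

theorem Loc.conj_vee (h : Loc S D T) {n a : G} (hn : n ∈ normalizer (D : Set G)) (ha : a ∈ vee D) :
    n * a * n⁻¹ ∈ vee D :=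
  h.mem_vee (h.conj_cent hn ha.1) (by
    calc n * a * n⁻¹ * (n * a * n⁻¹) = n * (a * a) * n⁻¹ := by group
      _ = 1 := by rw [ha.2.1]; group)

theorem Odd'.four_le {z x : G} (o : Odd' S D T z x) (h : Loc S D T) :
    4 ≤ Nat.card (vee D) := by
  have hz : z ∈ vee D := h.mem_vee o.z_mem o.z_two
  have hy : x * z * x⁻¹ ∈ vee D := h.conj_vee o.x_mem hz
  have hne : x * z * x⁻¹ ≠ z := fun e => o.moves h (mul_inv_eq_iff_eq_mul.1 e)
  have hy1 : x * z * x⁻¹ ≠ 1 := fun e => o.z_ne (by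
    calc z = x⁻¹ * (x * z * x⁻¹) * x := by group
      _ = 1 := by rw [e]; group)
  let f : Fin 3 → vee D := ![1, ⟨z, hz⟩, ⟨_, hy⟩]
  have hf : Function.Injective f := by
    intro i j hij
    have e := congrArg Subtype.val hij
    fin_cases i <;> fin_cases j <;> first
      | rfl
      | exact absurd e o.z_ne | exact absurd e.symm o.z_ne
      | exact absurd e hy1 | exact absurd e.symm hy1
      | exact absurd e hne | exact absurd e.symm hne
  have h3 := Nat.card_le_card_of_injective f hf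
  rw [Nat.card_fin] at h3
  obtain ⟨k, hk⟩ := IsPGroup.iff_card.1
    (h.isPGroup_D.to_le (show vee D ≤ D from fun a ha => h.centric ha.1))
  rcases k with _ | _ | k <;> simp_all [pow_succ] <;>
    (have := Nat.one_le_two_pow (n := k); omega)

/-- If the centre has only three involutions, none of its nontrivial elements is fixed by `x`. -/
theorem Odd'.no_fixed {z x : G} (o : Odd' S D T z x) (h : Loc S D T)
    (hV : Nat.card (vee D) ≤ 4) {c : G} (hc : c ∈ centralizer (D : Set G)) (hc1 : c ≠ 1)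
    (hfix : x * c = c * x) : False := by
  obtain ⟨j, hj⟩ := h.isPGroup_D ⟨c, h.centric hc⟩
  have hj' : c ^ (2 ^ j) = 1 := by simpa using congrArg Subtype.val hj
  clear hj
  induction j generalizing c with
  | zero => exact hc1 (by simpa using hj')
  | succ j ih =>
    by_cases h2 : c * c = 1
    swap
    · exact ih (mul_mem hc hc) h2 ((Commute.mul_right hfix hfix).eq)
        (by rw [← pow_two, ← pow_mul, ← pow_succ']; exact hj')
    have hcV : c ∈ vee D := h.mem_vee hc h2
    obtain ⟨y, hy⟩ : ∃ y, y = x * z * x⁻¹ := ⟨_, rfl⟩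
    have hz : z ∈ vee D := h.mem_vee o.z_mem o.z_two
    have hyV : y ∈ vee D := hy ▸ h.conj_vee o.x_mem hz
    have hyz : y ≠ z := fun e => o.moves h (mul_inv_eq_iff_eq_mul.1 (hy ▸ e))
    have hy1 : y ≠ 1 := fun e => o.z_ne (by
      calc z = x⁻¹ * (x * z * x⁻¹) * x := by group
        _ = 1 := by rw [← hy, e]; group)
    have hcz : c ≠ z := fun e => o.moves h (e ▸ hfix)
    have hcy : c ≠ y := fun e => o.moves h (by
      have h' : x * y * x⁻¹ = y := by rw [← e, hfix, mul_inv_cancel_right]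
      rw [hy] at h'
      calc x * z = x⁻¹ * (x * (x * z * x⁻¹) * x⁻¹) * (x * x) := by group
        _ = x⁻¹ * (x * z * x⁻¹) * (x * x) := by rw [h']
        _ = z * x := by group)
    have hzy : z * y ≠ 1 ∧ z * y ≠ z ∧ z * y ≠ y :=
      ⟨fun e => hyz (by rw [← inv_eq_of_mul_eq_one_right e, inv_eq_of_mul_eq_one_right o.z_two]),
        fun e => hy1 (mul_left_cancel (e.trans (mul_one z).symm)),
        fun e => o.z_ne (mul_right_cancel (e.trans (one_mul y).symm))⟩
    have hczy : c ≠ z * y := fun e => by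
      have h' : x * y * x⁻¹ = z := by
        have h1 : x * (z * y) * x⁻¹ = z * y := by rw [← e, hfix, mul_inv_cancel_right]
        have h2' : y * (x * y * x⁻¹) = y * z := by
          have h3 : y * (x * y * x⁻¹) = x * (z * y) * x⁻¹ := by rw [hy]; group
          rw [h3, h1, hyV.2.2 z o.z_mem]
        exact mul_left_cancel h2'
      refine o.sq.moves h ?_
      rw [hy] at h'
      refine mul_inv_eq_iff_eq_mul.1 ?_
      calc x * x * z * (x * x)⁻¹ = x * (x * z * x⁻¹) * x⁻¹ := by group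
        _ = z := h'
    let f : Fin 5 → vee D := ![1, ⟨z, hz⟩, ⟨y, hyV⟩, ⟨z * y, mul_mem hz hyV⟩, ⟨c, hcV⟩]
    have hf : Function.Injective f := by
      intro i j hij
      have e := congrArg Subtype.val hij
      fin_cases i <;> fin_cases j <;> first
        | rfl
        | exact absurd e o.z_ne | exact absurd e.symm o.z_ne
        | exact absurd e hy1 | exact absurd e.symm hy1
        | exact absurd e hyz | exact absurd e.symm hyz
        | exact absurd e hc1 | exact absurd e.symm hc1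
        | exact absurd e hcz | exact absurd e.symm hcz
        | exact absurd e hcy | exact absurd e.symm hcy
        | exact absurd e hczy | exact absurd e.symm hczy
        | exact absurd e hzy.1 | exact absurd e.symm hzy.1
        | exact absurd e hzy.2.1 | exact absurd e.symm hzy.2.1
        | exact absurd e hzy.2.2 | exact absurd e.symm hzy.2.2
    have := Nat.card_le_card_of_injective f hf
    rw [Nat.card_fin] at this
    omega

theorem mem_conj {g a : G} : a ∈ D.map (MulAut.conj g).toMonoidHom ↔ g⁻¹ * a * g ∈ D := by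
  constructor
  · rintro ⟨d, hd, rfl⟩
    simpa [MulAut.conj_apply, mul_assoc] using hd
  · exact fun h => ⟨_, h, by simp [MulAut.conj_apply, mul_assoc]⟩

theorem card_half {P D : Subgroup G} (hle : P ≤ D) (hD : Nat.card D = 32)
    (h16 : 16 ≤ Nat.card P) (hne : P ≠ D) : Nat.card P = 16 := by
  have hd := card_dvd_of_le hle
  have hlt : Nat.card P < 32 := by
    rw [← hD]
    exact lt_of_le_of_ne (Nat.le_of_dvd Nat.card_pos hd) fun e =>
      hne (Subgroup.eq_of_le_of_card_ge hle e.ge)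
  rw [hD] at hd
  obtain ⟨k, hk, e⟩ := (Nat.dvd_prime_pow Nat.prime_two).1 (show Nat.card P ∣ 2 ^ 5 by simpa using hd)
  interval_cases k <;> omega

/-- Two subgroups of order sixteen of a group of order 32 meet in at least eight elements. -/
theorem card_inf_ge {P Q D : Subgroup G} (hP : P ≤ D) (hQ : Q ≤ D) (hD : Nat.card D = 32)
    (hP16 : Nat.card P = 16) (hQ16 : Nat.card Q = 16) : 8 ≤ Nat.card (P ⊓ Q : Subgroup G) := by
  have hidx : ∀ R : Subgroup G, R ≤ D → Nat.card R = 16 → R.relIndex D = 2 := by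
    intro R hR h16
    have := card_mul_index (R.subgroupOf D)
    rw [Nat.card_congr (subgroupOfEquivOfLe hR).toEquiv, h16, hD] at this
    show (R.subgroupOf D).index = 2
    omega
  have h1 : (P ⊓ Q).relIndex D ≤ 4 := by
    refine relIndex_inf_le.trans ?_
    rw [hidx P hP hP16, hidx Q hQ hQ16]
  have h2 := card_mul_index ((P ⊓ Q).subgroupOf D)
  rw [Nat.card_congr (subgroupOfEquivOfLe ((inf_le_left : P ⊓ Q ≤ P).trans hP)).toEquiv, hD] at h2
  change Nat.card (P ⊓ Q : Subgroup G) * (P ⊓ Q).relIndex D = 32 at h2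
  nlinarith

/-- In a group of order 32 with a two-element complement set: products stay. -/
theorem mul_mem_half {P D : Subgroup G} (hle : P ≤ D) (hc : 2 * Nat.card P = Nat.card D) {a b : G}
    (ha : a ∈ D) (hb : b ∈ D) (ha' : a ∉ P) (hb' : b ∉ P) : a * b ∈ P := by
  have hidx : (P.subgroupOf D).index = 2 := by
    have := card_mul_index (P.subgroupOf D)
    rw [Nat.card_congr (subgroupOfEquivOfLe hle).toEquiv] at this
    have hp : 0 < Nat.card P := Nat.card_pos
    nlinarith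
  exact (mul_mem_iff_of_index_two hidx (a := (⟨a, ha⟩ : D)) (b := ⟨b, hb⟩)).2
    ⟨fun h => absurd h ha', fun h => absurd h hb'⟩

/-- The subgroup `D` is abelian. -/
theorem comm_of : CommStmt.{u} := by
  intro G _ _ S D T h a ha b hb
  by_contra hab
  have hL := h.toLoc
  obtain ⟨z, hzS, hz2, hzc⟩ := hL.eight.exists_central S
  have hzz : z * z = 1 := by rw [← pow_two, ← hz2, pow_orderOf_eq_one]
  have hz1 : z ≠ 1 := fun e => by rw [e, orderOf_one] at hz2; norm_num at hz2
  have hzC : z ∈ centralizer (D : Set G) :=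
    mem_centralizer_iff.2 fun d hd => hzc d (hL.D_le_S hd)
  have hsT : ∃ s, s ∈ T ∧ s ∉ D := by
    by_contra hc
    simp only [not_exists, not_and, not_not] at hc
    have := card_dvd_of_le (show T ≤ D from hc)
    have h2 := h.card_T
    have : Nat.card T ≤ Nat.card D := Nat.le_of_dvd Nat.card_pos this
    have : 0 < Nat.card D := Nat.card_pos
    omega
  obtain ⟨s₀, hs₀, hs₀'⟩ := hsT
  obtain ⟨x, hxN, hxp, hxodd, -⟩ := h.inverted s₀ hs₀ hs₀'
  have o : Odd' S D T z x := ⟨hzC, hzz, hz1, hzc, hxN, hxodd, fun e => by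
    rw [e, orderOf_one] at hxp; exact Nat.not_prime_one hxp⟩
  have hV4 := o.four_le hL
  have hVZ : vee D ≤ centralizer (D : Set G) := fun a ha => ha.1
  have hZcard : 4 ≤ Nat.card (centralizer (D : Set G)) :=
    hV4.trans (Nat.le_of_dvd Nat.card_pos (card_dvd_of_le hVZ))
  have hZD : centralizer (D : Set G) ≤ D := hL.centric
  have hZcomm : ∀ w ∈ centralizer (D : Set G), ∀ k ∈ D, w * k = k * w := fun w hw k hk =>
    (hL.cent_comm hw hk).symm
  -- the order of `D` is 16 or 32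
  obtain ⟨n, hn⟩ := IsPGroup.iff_card.1 hL.isPGroup_D
  obtain ⟨m, hm⟩ := IsPGroup.iff_card.1 (hL.isPGroup_D.to_le hZD)
  have hmn : m + 2 ≤ n := by
    have haZ : a ∉ centralizer (D : Set G) := fun e => hab (hZcomm a e b hb)
    have hle : Nat.card (centralizer (D : Set G)) ≤ Nat.card D :=
      Nat.le_of_dvd Nat.card_pos (card_dvd_of_le hZD)
    rw [hn, hm] at hle
    have hmn' : m ≤ n := (Nat.pow_le_pow_iff_right (by norm_num)).1 hle
    by_contra hlt
    rcases Nat.eq_or_lt_of_le hmn' with e | e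
    · exact haZ ((Subgroup.eq_of_le_of_card_ge hZD (by rw [hn, hm, e])).symm ▸ ha)
    · have hbZ : b ∉ centralizer (D : Set G) := fun e' => hab (hZcomm b e' a ha).symm
      have hab2 : a⁻¹ * b ∈ centralizer (D : Set G) := mul_mem_half hZD
        (by rw [hn, hm, show n = m + 1 by omega]; ring) (inv_mem ha) hb
        (fun e' => haZ (inv_mem_iff.1 e')) hbZ
      refine hab ?_
      calc a * b = a * (a * (a⁻¹ * b)) := by group
        _ = a * ((a⁻¹ * b) * a) := by rw [hZcomm _ hab2 a ha]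
        _ = b * a := by group
  have hm2 : 2 ≤ m := (Nat.pow_le_pow_iff_right (by norm_num : 1 < 2)).1
    (by rw [← hm]; exact hZcard)
  have hn5 : n ≤ 5 := (Nat.pow_le_pow_iff_right (by norm_num : 1 < 2)).1
    (by rw [← hn]; exact h.card_D_le)
  obtain rfl | rfl : n = 4 ∨ n = 5 := by omega
  · -- order sixteen
    obtain rfl : m = 2 := by omega
    obtain ⟨hcZ, hall⟩ := comm_pair hZD (by rw [hn, hm]; norm_num) hZcomm ha hb hab
    have hc1 : kap a b ≠ 1 := fun e => hab (kap_eq_one_iff.1 e)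
    have hxc : x * x * kap a b = kap a b * (x * x) := by
      have h1 := hall _ (hL.conj_D hxN ha) _ (hL.conj_D hxN hb)
      rw [← kap_conj] at h1
      rw [← mul_inv_eq_iff_eq_mul]
      rcases h1 with e | e | e
      · exact absurd (by simpa using e) hc1
      · calc x * x * kap a b * (x * x)⁻¹ = x * (x * kap a b * x⁻¹) * x⁻¹ := by group
          _ = kap a b := by rw [e, e]
      · calc x * x * kap a b * (x * x)⁻¹ = x * (x * kap a b * x⁻¹) * x⁻¹ := by group
          _ = x * (kap a b)⁻¹ * x⁻¹ := by rw [e]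
          _ = (x * kap a b * x⁻¹)⁻¹ := by group
          _ = kap a b := by rw [e, inv_inv]
    refine o.no_fixed hL ?_ hcZ hc1 (sq_comm hxodd hxc)
    have := Nat.le_of_dvd Nat.card_pos (card_dvd_of_le hVZ)
    rw [hm] at this
    simpa using this
  -- order 32
  have hD32 : Nat.card D = 32 := by rw [hn]; norm_num
  have hT64 : Nat.card T = 64 := by rw [h.card_T, hD32]
  obtain ⟨g, hgS, hgT, hg2, hgN⟩ := hL.exists_g
  have hS2 : ∀ w ∈ (S : Subgroup G), w ∈ T ∨ g⁻¹ * w ∈ T := fun w hw => by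
    by_contra hc
    simp only [not_or] at hc
    exact hc.2 (mul_mem_half hL.le_S (by rw [hT64, hL.eight.card_syl S]) (inv_mem hgS) hw
      (fun e => hgT (inv_mem_iff.1 e)) hc.1)
  have hgD : g ∉ normalizer (D : Set G) := fun e => hgT (hL.mem_T hgS e)
  have hTD : ∀ t ∈ T, t ∈ normalizer (D : Set G) := fun t ht => hL.T_le ht
  obtain ⟨D', hD'⟩ : ∃ D' : Subgroup G, D' = D.map (MulAut.conj g).toMonoidHom := ⟨_, rfl⟩
  have hD'T : D' ≤ T := by
    intro w hw
    rw [hD', mem_conj] at hw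
    have := (mem_normalizer_iff.1 hgN _).1 (hL.le_T hw)
    simpa [mul_assoc] using this
  have hD'32 : Nat.card D' = 32 := by
    rw [hD', card_map_of_injective (MulAut.conj g).injective, hD32]
  obtain ⟨P, hP⟩ : ∃ P : Subgroup G, P = D ⊓ D' := ⟨_, rfl⟩
  have hPD : P ≤ D := hP ▸ inf_le_left
  have hPD' : P ≤ D' := hP ▸ inf_le_right
  have hPne : P ≠ D := by
    intro e
    refine hgD ?_
    have hDD : D = D' := Subgroup.eq_of_le_of_card_ge (e ▸ hPD') (by rw [hD32, hD'32])
    rw [mem_normalizer_iff]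
    intro d
    constructor
    · intro hd
      rw [hDD, hD', mem_conj]
      simpa [mul_assoc] using hd
    · intro hd
      rw [hDD, hD', mem_conj] at hd
      simpa [mul_assoc] using hd
  have hP16 : Nat.card P = 16 := by
    refine card_half hPD hD32 ?_ hPne
    have h1 : D'.relIndex D ≤ 2 := by
      have hT2 : D'.relIndex T = 2 := by
        have := card_mul_index (D'.subgroupOf T)
        rw [Nat.card_congr (subgroupOfEquivOfLe hD'T).toEquiv, hD'32, hT64] at this
        show (D'.subgroupOf T).index = 2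
        omega
      exact hT2 ▸ relIndex_le_of_le_right hL.le_T (by omega)
    have h2 := card_mul_index (P.subgroupOf D)
    rw [Nat.card_congr (subgroupOfEquivOfLe hPD).toEquiv, hD32] at h2
    change Nat.card P * P.relIndex D = 32 at h2
    rw [hP, inf_comm, inf_relIndex_right, ← inf_comm, ← hP] at h2
    nlinarith
  -- `P` is normal in `S`, so not normalised by `x`
  have hxnot : ∀ X : Subgroup G, X ≤ D → X ≠ ⊥ →
      (∀ t ∈ T, ∀ v ∈ X, t * v * t⁻¹ ∈ X) → (∀ v ∈ X, g * v * g⁻¹ ∈ X) →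
      ∀ y : G, Odd (orderOf y) → y ≠ 1 → ¬ ∀ v ∈ X, y * v * y⁻¹ ∈ X := by
    intro X hXD hX1 hT' hg' y hy hy1 hyX
    have hnorm : ∀ w : G, (∀ v ∈ X, w * v * w⁻¹ ∈ X) → w ∈ normalizer (X : Set G) := by
      intro w hw
      rw [mem_normalizer_iff]
      intro v
      refine ⟨hw v, fun hv => ?_⟩
      have hmap : X.map (MulAut.conj w).toMonoidHom = X := Subgroup.eq_of_le_of_card_ge
        (by rintro _ ⟨q, hq, rfl⟩; exact hw q hq)
        (by rw [card_map_of_injective (MulAut.conj w).injective])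
      rw [← hmap] at hv
      obtain ⟨q, hq, e⟩ := hv
      exact (MulAut.conj w).injective e ▸ hq
    have hS : (S : Subgroup G) ≤ normalizer (X : Set G) := by
      intro w hw
      rcases hS2 w hw with h1 | h1
      · exact hnorm w (hT' w h1)
      · rw [show w = g * (g⁻¹ * w) by group]
        exact mul_mem (hnorm g hg') (hnorm _ (hT' _ h1))
    have := hL.eight.norm S X hX1 (hXD.trans hL.D_le_S) hS
    have hyS : y ∈ (S : Subgroup G) := this ▸ hnorm y hyX
    obtain ⟨k, hk⟩ := S.isPGroup' ⟨y, hyS⟩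
    have hd : orderOf y ∣ 2 ^ k := orderOf_dvd_of_pow_eq_one (by simpa using congrArg Subtype.val hk)
    exact hy1 (orderOf_eq_one_iff.1
      (((Nat.coprime_two_right.2 hy).pow_right k).eq_one_of_dvd hd))
  have hgg : ∀ d ∈ D, g * (g * d * g⁻¹) * g⁻¹ ∈ D := fun d hd => by
    have := hL.conj_D (hTD _ hg2) hd
    simpa [mul_assoc] using this
  have hPT : ∀ t ∈ T, ∀ v ∈ P, t * v * t⁻¹ ∈ P := by
    intro t ht v hv
    rw [hP, mem_inf, hD', mem_conj] at hv ⊢
    refine ⟨hL.conj_D (hTD t ht) hv.1, ?_⟩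
    have hv2 := hv.2
    have ht' : g⁻¹ * t * g ∈ T := by
      have := (mem_normalizer_iff.1 (inv_mem hgN) t).1 ht
      simpa using this
    have := hL.conj_D (hTD _ ht') hv2
    simpa [mul_assoc] using this
  have hPg : ∀ v ∈ P, g * v * g⁻¹ ∈ P := by
    intro v hv
    rw [hP, mem_inf, hD', mem_conj] at hv ⊢
    have hv2 := hv.2
    refine ⟨?_, ?_⟩
    · have := hgg _ hv2
      simpa [mul_assoc] using this
    · simpa [mul_assoc] using hv.1
  have hPbot : P ≠ ⊥ := fun e => by rw [e, card_bot] at hP16; omega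
  have hxP : ∀ y : G, Odd (orderOf y) → y ≠ 1 → ¬ ∀ v ∈ P, y * v * y⁻¹ ∈ P :=
    hxnot P hPD hPbot hPT hPg
  have hcentP : ∀ w : G, g⁻¹ * w * g ∈ centralizer (D : Set G) → ∀ v ∈ P, v * w = w * v := by
    intro w hw v hv
    have hv' := hPD' hv
    rw [hD', mem_conj] at hv'
    have := hL.cent_comm hw hv'
    calc v * w = g * (g⁻¹ * v * g * (g⁻¹ * w * g)) * g⁻¹ := by group
      _ = g * (g⁻¹ * w * g * (g⁻¹ * v * g)) * g⁻¹ := by rw [this]
      _ = w * v := by group
  by_cases hA : ∃ s, g⁻¹ * s * g ∈ vee D ∧ s ∉ D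
  · -- (A)
    obtain ⟨s, hsV, hsD⟩ := hA
    have hsT : s ∈ T := hD'T (by rw [hD', mem_conj]; exact hZD hsV.1)
    have hs2 : s * s = 1 := by
      calc s * s = g * (g⁻¹ * s * g * (g⁻¹ * s * g)) * g⁻¹ := by group
        _ = 1 := by rw [hsV.2.1]; group
    have hso : orderOf s = 2 := orderOf_eq_prime (by rw [pow_two]; exact hs2)
      fun e => hsD (e ▸ one_mem _)
    obtain ⟨y', hy1', hyodd', hy'⟩ := Cfsg.Agent.S0200.result
      (G := normalizer (D : Set G)) ⟨s, hTD s hsT⟩ (by rw [Subgroup.orderOf_mk]; exact hso)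
      fun N hN hN2 hs => hsD (hL.core (N.map (normalizer (D : Set G)).subtype) (map_subtype_le N)
        (hN2.map _) (fun w hw => by
          rw [mem_normalizer_iff]
          intro v
          constructor
          · rintro ⟨q, hq, rfl⟩
            exact ⟨⟨w, hw⟩ * q * ⟨w, hw⟩⁻¹, hN.conj_mem q hq _, rfl⟩
          · rintro ⟨q, hq, e⟩
            refine ⟨⟨w, hw⟩⁻¹ * q * ⟨w, hw⟩, ?_, ?_⟩
            · have := hN.conj_mem q hq ⟨w, hw⟩⁻¹
              rwa [inv_inv] at this
            · show w⁻¹ * (q : G) * w = v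
              rw [show (q : G) = w * v * w⁻¹ from e]; group)
        ⟨⟨s, hTD s hsT⟩, hs, rfl⟩)
    obtain ⟨y, hyN⟩ := y'
    have hy : s * y * s⁻¹ = y⁻¹ := congrArg Subtype.val hy'
    have o' : Odd' S D T z y := ⟨hzC, hzz, hz1, hzc, hyN, by simpa using hyodd',
      fun e => hy1' (Subtype.ext e)⟩
    obtain ⟨Q, hQ⟩ : ∃ Q : Subgroup G, Q = P.map (MulAut.conj y).toMonoidHom := ⟨_, rfl⟩
    have hQD : Q ≤ D := by
      rintro w hw
      rw [hQ] at hw
      obtain ⟨q, hq, rfl⟩ := hw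
      exact hL.conj_D hyN (hPD hq)
    have hQ16 : Nat.card Q = 16 := by
      rw [hQ, card_map_of_injective (MulAut.conj y).injective, hP16]
    obtain ⟨C, hC⟩ : ∃ C : Subgroup G, C = D ⊓ centralizer ({y} : Set G) := ⟨_, rfl⟩
    have hCD : C ≤ D := hC ▸ inf_le_left
    have hsP : ∀ v ∈ P, v * s = s * v := hcentP s hsV.1
    have hfix : ∀ v ∈ C, v * y = y * v := fun v hv => by
      rw [hC] at hv; exact mem_centralizer_singleton_iff.1 hv.2
    have hC0 : P ⊓ Q ≤ C := by
      rintro v ⟨hv, hvQ⟩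
      rw [hC]
      refine ⟨hPD hv, ?_⟩
      rw [SetLike.mem_coe, hQ] at hvQ
      obtain ⟨q, hq, rfl⟩ := hvQ
      simp only [MulEquiv.coe_toMonoidHom, MulAut.conj_apply] at hv ⊢
      have e1 : Commute (y * q * y⁻¹) s := hsP _ hv
      have e2 : Commute (y * q * y⁻¹) (y * s * y⁻¹) := by
        show y * q * y⁻¹ * (y * s * y⁻¹) = y * s * y⁻¹ * (y * q * y⁻¹)
        calc y * q * y⁻¹ * (y * s * y⁻¹) = y * (q * s) * y⁻¹ := by group
          _ = y * (s * q) * y⁻¹ := by rw [hsP q hq]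
          _ = _ := by group
      have e3 : y * s * y⁻¹ * s⁻¹ = y * y := by
        calc y * s * y⁻¹ * s⁻¹ = y * (s * y * s⁻¹)⁻¹ := by group
          _ = y * y := by rw [hy, inv_inv]
      refine mem_centralizer_singleton_iff.2 (sq_comm o'.x_odd ?_).symm
      rw [← e3]
      exact (e2.mul_right e1.inv_right).eq.symm
    have hC8 : Nat.card C = 8 := by
      have h8 : 8 ≤ Nat.card C :=
        (card_inf_ge hPD hQD hD32 hP16 hQ16).trans (Nat.le_of_dvd Nat.card_pos (card_dvd_of_le hC0))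
      have hle : Nat.card C < 16 := by
        by_contra hge
        have hne : C ≠ D := fun e => o'.moves hL (hfix z (e ▸ hZD hzC)).symm
        have h16 := card_half hCD hD32 (by omega) hne
        have hzn : z ∉ C := fun e => o'.moves hL (hfix z e).symm
        have hyz : y * z * y⁻¹ ∈ D := hL.conj_D hyN (hZD hzC)
        have hyn : y * z * y⁻¹ ∉ C := fun e => o'.moves hL (by
          have := hfix _ e
          calc y * z = (y⁻¹ * (y * (y * z * y⁻¹))) * y := by group
            _ = y⁻¹ * (y * z * y⁻¹ * y) * y := by rw [this]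
            _ = z * y := by group)
        have hm' : z * (y * z * y⁻¹) ∈ C :=
          mul_mem_half hCD (by rw [h16, hD32]) (hZD hzC) hyz hzn hyn
        exact o'.moves hL (fix_ext hL.isPGroup_D o'.x_odd (hCD hm') (hfix _ hm').symm
          (by rw [← mul_assoc, hzz, one_mul]))
      have hd := card_dvd_of_le hCD
      rw [hD32] at hd
      obtain ⟨k, hk, e⟩ := (Nat.dvd_prime_pow Nat.prime_two).1
        (show Nat.card C ∣ 2 ^ 5 by simpa using hd)
      interval_cases k <;> omega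
    have hCP : C ≤ P := by
      have := Subgroup.eq_of_le_of_card_ge hC0 (by
        rw [hC8]; exact card_inf_ge hPD hQD hD32 hP16 hQ16)
      exact this ▸ inf_le_left
    -- `D` is `C` times a central four-group
    have hzn : z ∉ C := fun e => o'.moves hL (hfix z e).symm
    have hy1c : y * z * y⁻¹ ∈ centralizer (D : Set G) := hL.conj_cent hyN hzC
    have hyn : y * z * y⁻¹ ∉ C := fun e => o'.moves hL (by
      have := hfix _ e
      calc y * z = (y⁻¹ * (y * (y * z * y⁻¹))) * y := by group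
        _ = y⁻¹ * (y * z * y⁻¹ * y) * y := by rw [this]
        _ = z * y := by group)
    have hzi : z⁻¹ = z := inv_eq_of_mul_eq_one_right hzz
    have hzyn : z⁻¹ * (y * z * y⁻¹) ∉ C := fun e => o'.moves hL
      (fix_ext hL.isPGroup_D o'.x_odd (hCD e) (hfix _ e).symm (by group))
    have hdec : ∀ d ∈ D, ∃ c ∈ C, ∃ w ∈ centralizer (D : Set G), d = c * w := by
      intro d hd
      have hzyD : z * (y * z * y⁻¹) ∈ centralizer (D : Set G) := mul_mem hzC hy1c
      rcases four_cosets (Z := C) (K := D) (by rw [hD32, hC8]) hCD (hZD hzC) (hZD hy1c)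
        (hZD hzyD) hzn hyn (by rwa [hzi] at hzyn) hzyn (by simpa [mul_assoc] using hyn)
        (fun e => hzn (by
          have hc2 : (y * z * y⁻¹)⁻¹ * (z * (y * z * y⁻¹)) = z := by
            rw [hZcomm z hzC _ (hZD hy1c)]; group
          rwa [hc2] at e)) d hd with h1 | h1 | h1 | h1
      · exact ⟨d, h1, 1, one_mem _, (mul_one d).symm⟩
      · exact ⟨_, h1, z, hzC, by rw [← hZcomm z hzC _ (hCD h1)]; group⟩
      · exact ⟨_, h1, _, hy1c, by rw [← hZcomm _ hy1c _ (hCD h1)]; group⟩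
      · exact ⟨_, h1, _, hzyD, by rw [← hZcomm _ hzyD _ (hCD h1)]; group⟩
    obtain ⟨a₁, ha₁, wa, hwa, rfl⟩ := hdec a ha
    obtain ⟨b₁, hb₁, wb, hwb, rfl⟩ := hdec b hb
    have hkk : kap (a₁ * wa) (b₁ * wb) = kap a₁ b₁ :=
      kap_mul (hZcomm wa hwa _ (hCD hb₁)) (hZcomm wa hwa _ (hZD hwb)) (hZcomm wb hwb _ (hCD ha₁))
    have hab1 : a₁ * b₁ ≠ b₁ * a₁ := fun e =>
      hab (kap_eq_one_iff.1 (hkk.trans (kap_eq_one_iff.2 e)))
    have hCZ : Nat.card (C ⊓ centralizer (D : Set G) : Subgroup G) = 2 := by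
      obtain ⟨E, hE⟩ : ∃ E : Subgroup G, E = C ⊓ centralizer (D : Set G) := ⟨_, rfl⟩
      rw [← hE]
      have hEC : E ≤ C := hE ▸ inf_le_left
      have hd := card_dvd_of_le hEC
      rw [hC8] at hd
      have h1 : Nat.card E ≠ 1 := by
        intro e
        haveI : Fact (Nat.Prime 2) := ⟨Nat.prime_two⟩
        haveI : Nontrivial C := Finite.one_lt_card_iff_nontrivial.1 (by rw [hC8]; norm_num)
        haveI := (hL.isPGroup_D.to_le hCD).center_nontrivial
        obtain ⟨q, hq⟩ := exists_ne (1 : center C)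
        refine hq (Subtype.ext (Subtype.ext ?_))
        have hmem : ((q : C) : G) ∈ E := by
          rw [hE]
          refine ⟨(q : C).2, mem_centralizer_iff.2 fun d hd => ?_⟩
          obtain ⟨c, hc, w, hw, rfl⟩ := hdec d hd
          have e1 : c * ((q : C) : G) = ((q : C) : G) * c :=
            congrArg Subtype.val (mem_center_iff.1 q.2 ⟨c, hc⟩)
          rw [mul_assoc, hZcomm w hw _ (hCD (q : C).2), ← mul_assoc, e1, mul_assoc]
        rw [eq_bot_of_card_eq E e, mem_bot] at hmem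
        simpa using hmem
      have ha' : a₁ ∉ E := fun e => hab1 (by rw [hE] at e; exact hZcomm a₁ e.2 b₁ (hCD hb₁))
      have h8 : Nat.card E ≠ 8 := fun e =>
        ha' ((Subgroup.eq_of_le_of_card_ge hEC (by rw [e, hC8])).symm ▸ ha₁)
      have h4 : Nat.card E ≠ 4 := fun e => by
        have hb' : b₁ ∉ E := fun q => hab1 (by
          rw [hE] at q; exact (hZcomm b₁ q.2 a₁ (hCD ha₁)).symm)
        have hm' : a₁⁻¹ * b₁ ∈ E := mul_mem_half hEC (by rw [e, hC8]) (inv_mem ha₁) hb₁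
          (fun q => ha' (inv_mem_iff.1 q)) hb'
        rw [hE] at hm'
        refine hab1 ?_
        calc a₁ * b₁ = a₁ * (a₁ * (a₁⁻¹ * b₁)) := by group
          _ = a₁ * ((a₁⁻¹ * b₁) * a₁) := by rw [hZcomm _ hm'.2 a₁ (hCD ha₁)]
          _ = b₁ * a₁ := by group
      obtain ⟨k, hk, e⟩ := (Nat.dvd_prime_pow Nat.prime_two).1
        (show Nat.card E ∣ 2 ^ 3 by simpa using hd)
      interval_cases k <;> omega
    obtain ⟨hcE, hall⟩ := comm_pair (K := C) inf_le_left (by rw [hC8, hCZ])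
      (fun w hw k hk => hZcomm w hw.2 k (hCD hk)) ha₁ hb₁ hab1
    obtain ⟨c, hc⟩ : ∃ c, c = kap a₁ b₁ := ⟨_, rfl⟩
    rw [← hc] at hcE hall
    have hc1 : c ≠ 1 := fun e => hab1 (kap_eq_one_iff.1 (hc ▸ e))
    have hci : c⁻¹ = c := by
      have h2 : (⟨c, hcE⟩ : (C ⊓ centralizer (D : Set G) : Subgroup G)) ^ 2 = 1 := by
        rw [← hCZ]; exact pow_card_eq_one'
      exact inv_eq_of_mul_eq_one_right (by simpa [pow_two] using congrArg Subtype.val h2)
    have hDc : ∀ p ∈ D, ∀ q ∈ D, kap p q = 1 ∨ kap p q = c := by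
      intro p hp q hq
      obtain ⟨p1, hp1, wp, hwp, rfl⟩ := hdec p hp
      obtain ⟨q1, hq1, wq, hwq, rfl⟩ := hdec q hq
      rw [kap_mul (hZcomm wp hwp _ (hCD hq1)) (hZcomm wp hwp _ (hZD hwq))
        (hZcomm wq hwq _ (hCD hp1))]
      rcases hall p1 hp1 q1 hq1 with e | e | e
      exacts [Or.inl e, Or.inr e, Or.inr (e.trans hci)]
    have hTc : ∀ t ∈ T, t * c * t⁻¹ = c := by
      intro t ht
      rw [hc, kap_conj, ← hc]
      rcases hDc _ (hL.conj_D (hTD t ht) (hCD ha₁)) _ (hL.conj_D (hTD t ht) (hCD hb₁)) with e | e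
      · exfalso
        rw [← kap_conj, ← hc] at e
        exact hc1 (by simpa using e)
      · exact e
    have hgc : g * c * g⁻¹ = c := by
      have ha2 := hPD' (hCP ha₁)
      have hb2 := hPD' (hCP hb₁)
      rw [hD', mem_conj] at ha2 hb2
      rcases hDc _ ha2 _ hb2 with e | e
      · exfalso
        refine hc1 ?_
        rw [hc, show a₁ = g * (g⁻¹ * a₁ * g) * g⁻¹ by group,
          show b₁ = g * (g⁻¹ * b₁ * g) * g⁻¹ by group, ← kap_conj, e]
        group
      · conv_lhs => rw [← e, kap_conj]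
        rw [hc]
        congr 1 <;> group
    have hcS : ∀ w ∈ (S : Subgroup G), w * c = c * w := by
      intro w hw
      rw [← mul_inv_eq_iff_eq_mul]
      rcases hS2 w hw with h1 | h1
      · exact hTc w h1
      · calc w * c * w⁻¹ = g * ((g⁻¹ * w) * c * (g⁻¹ * w)⁻¹) * g⁻¹ := by group
          _ = c := by rw [hTc _ h1, hgc]
    exact o'.x_ne (eq_one_of_comm hL (hL.D_le_S (hCD hcE.1)) hc1 hcS o'.x_odd
      (hfix c hcE.1).symm)
  -- (B)
  simp only [not_exists, not_and, not_not] at hA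
  have hVbot : vee D ≠ ⊥ := fun e => by rw [e, card_bot] at hV4; omega
  obtain ⟨w, hwV, hwn⟩ : ∃ w, g⁻¹ * w * g ∈ vee D ∧ w ∉ vee D := by
    by_contra hc
    simp only [not_exists, not_and, not_not] at hc
    refine hxnot (vee D) (fun v hv => hZD hv.1) hVbot
      (fun t ht v hv => hL.conj_vee (hTD t ht) hv) (fun v hv => hc _ ?_) x hxodd o.x_ne
      (fun v hv => hL.conj_vee hxN hv)
    simpa [mul_assoc] using hv
  have hwD : w ∈ D := hA w hwV
  have hw2 : w * w = 1 := by
    calc w * w = g * (g⁻¹ * w * g * (g⁻¹ * w * g)) * g⁻¹ := by group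
      _ = 1 := by rw [hwV.2.1]; group
  have hwZ : w ∉ centralizer (D : Set G) := fun e => hwn (hL.mem_vee e hw2)
  have hPw : ∀ v ∈ D, v ∈ P ↔ v * w = w * v := by
    obtain ⟨R, hR⟩ : ∃ R : Subgroup G, R = D ⊓ centralizer ({w} : Set G) := ⟨_, rfl⟩
    have hPR : P ≤ R := fun v hv => hR ▸
      ⟨hPD hv, mem_centralizer_singleton_iff.2 (hcentP w hwV.1 v hv)⟩
    have hRne : R ≠ D := fun e => hwZ (mem_centralizer_iff.2 fun d hd => by
      rw [← e, hR] at hd
      exact mem_centralizer_singleton_iff.1 hd.2)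
    have hR16 := card_half (hR ▸ inf_le_left) hD32
      (hP16.ge.trans (Nat.le_of_dvd Nat.card_pos (card_dvd_of_le hPR))) hRne
    have hPeq : P = R := Subgroup.eq_of_le_of_card_ge hPR (by rw [hR16, hP16])
    intro v hv
    rw [hPeq, hR, mem_inf, mem_centralizer_singleton_iff]
    exact ⟨fun e => e.2, fun e => ⟨hv, e⟩⟩
  obtain ⟨w2, hw2d⟩ : ∃ w2, w2 = x * w * x⁻¹ := ⟨_, rfl⟩
  obtain ⟨Q, hQ⟩ : ∃ Q : Subgroup G, Q = P.map (MulAut.conj x).toMonoidHom := ⟨_, rfl⟩
  have hQw : ∀ v ∈ D, v ∈ Q ↔ v * w2 = w2 * v := by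
    intro v hv
    have hv' : x⁻¹ * v * x ∈ D := by simpa using hL.conj_D (inv_mem hxN) hv
    rw [hQ, mem_conj, hPw _ hv', hw2d]
    constructor
    · intro e
      calc v * (x * w * x⁻¹) = x * (x⁻¹ * v * x * w) * x⁻¹ := by group
        _ = x * (w * (x⁻¹ * v * x)) * x⁻¹ := by rw [e]
        _ = x * w * x⁻¹ * v := by group
    · intro e
      calc x⁻¹ * v * x * w = x⁻¹ * (v * (x * w * x⁻¹)) * x := by group
        _ = x⁻¹ * (x * w * x⁻¹ * v) * x := by rw [e]
        _ = w * (x⁻¹ * v * x) := by group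
  have hQD : Q ≤ D := by
    intro v hv
    rw [hQ] at hv
    obtain ⟨q, hq, rfl⟩ := hv
    exact hL.conj_D hxN (hPD hq)
  have hQ16 : Nat.card Q = 16 := by
    rw [hQ, card_map_of_injective (MulAut.conj x).injective, hP16]
  have hw2D : w2 ∈ D := hw2d ▸ hL.conj_D hxN hwD
  have hQP : ¬ Q ≤ P := fun e => hxP x hxodd o.x_ne fun v hv =>
    e (by rw [hQ]; exact ⟨v, hv, rfl⟩)
  obtain ⟨I, hI⟩ : ∃ I : Subgroup G, I = P ⊓ Q := ⟨_, rfl⟩
  have hIP : I ≤ P := hI ▸ inf_le_left
  have hIQ : I ≤ Q := hI ▸ inf_le_right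
  have hID : I ≤ D := hIP.trans hPD
  have hI8 : Nat.card I = 8 := by
    have h8 : 8 ≤ Nat.card I := hI ▸ card_inf_ge hPD hQD hD32 hP16 hQ16
    have hd := card_dvd_of_le hIQ
    rw [hQ16] at hd
    have hne : Nat.card I ≠ 16 := fun e => hQP ((Subgroup.eq_of_le_of_card_ge hIQ
      (by rw [e, hQ16])) ▸ hIP)
    obtain ⟨k, hk, e⟩ := (Nat.dvd_prime_pow Nat.prime_two).1
      (show Nat.card I ∣ 2 ^ 4 by simpa using hd)
    interval_cases k <;> omega
  have hZI : centralizer (D : Set G) ≤ I := fun v hv => hI ▸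
    ⟨(hPw v (hZD hv)).2 (hZcomm v hv w hwD), (hQw v (hZD hv)).2 (hZcomm v hv w2 hw2D)⟩
  have hwP : w ∈ P := (hPw w hwD).2 rfl
  have hw2Q : w2 ∈ Q := (hQw w2 hw2D).2 rfl
  by_cases hwQ : w ∈ Q
  · have hwI : w ∈ I := hI ▸ ⟨hwP, hwQ⟩
    have hw2I : w2 ∈ I := hI ▸ ⟨(hPw w2 hw2D).2 ((hQw w hwD).1 hwQ).symm, hw2Q⟩
    have hm' : m = 2 := by
      have hne : centralizer (D : Set G) ≠ I := fun e => hwZ (e.symm ▸ hwI)
      have hlt : Nat.card (centralizer (D : Set G)) < 8 := by
        rw [← hI8]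
        exact lt_of_le_of_ne (Nat.le_of_dvd Nat.card_pos (card_dvd_of_le hZI)) fun e =>
          hne (Subgroup.eq_of_le_of_card_ge hZI e.ge)
      rw [hm, show (8 : ℕ) = 2 ^ 3 by norm_num] at hlt
      have := (Nat.pow_lt_pow_iff_right (by norm_num : 1 < 2)).1 hlt
      omega
    subst hm'
    have hVle : Nat.card (vee D) ≤ 4 := by
      have := Nat.le_of_dvd Nat.card_pos (card_dvd_of_le hVZ)
      rw [hm] at this
      simpa using this
    have hVeq : vee D = centralizer (D : Set G) :=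
      Subgroup.eq_of_le_of_card_ge hVZ (by rw [hm]; simpa using hV4)
    have hv : w * w2 ∈ vee D := by
      rw [hVeq]
      refine mul_mem_half hZI (by rw [hm, hI8]; norm_num) hwI hw2I hwZ fun e => hwZ ?_
      have h' := hL.conj_cent (inv_mem hxN) e
      rw [hw2d] at h'
      simpa [mul_assoc] using h'
    obtain ⟨v', hv', hvv'⟩ : ∃ v' ∈ vee D, w * w2 = v' * (x * v' * x⁻¹) := by
      let f : vee D → vee D := fun q =>
        ⟨(q : G) * (x * q * x⁻¹), mul_mem q.2 (hL.conj_vee hxN q.2)⟩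
      have hf : Function.Injective f := by
        intro p q e
        have e' : (p : G) * (x * p * x⁻¹) = q * (x * q * x⁻¹) := congrArg Subtype.val e
        have hr : (q : G)⁻¹ * p ∈ vee D := mul_mem (inv_mem q.2) p.2
        by_contra hne
        refine o.no_fixed hL hVle hr.1 (fun e1 => hne (Subtype.ext (inv_mul_eq_one.1 e1).symm)) ?_
        have h2 : x * ((q : G)⁻¹ * p) * x⁻¹ = (q : G) * (p : G)⁻¹ := by
          calc x * ((q : G)⁻¹ * p) * x⁻¹ = (x * q * x⁻¹)⁻¹ * ((p : G)⁻¹ * (p * (x * p * x⁻¹))) := by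
                group
            _ = (x * q * x⁻¹)⁻¹ * ((p : G)⁻¹ * (q * (x * q * x⁻¹))) := by rw [e']
            _ = (x * q * x⁻¹)⁻¹ * (((q : G) * (p : G)⁻¹) * (x * q * x⁻¹)) := by
                rw [← mul_assoc (p : G)⁻¹, q.2.2.2 _ (inv_mem p.2.1)]
            _ = (q : G) * (p : G)⁻¹ := by
                rw [← hZcomm _ (hL.conj_cent hxN q.2.1) _
                  (hZD (mul_mem q.2.1 (inv_mem p.2.1)))]
                group
        rw [← mul_inv_eq_iff_eq_mul, h2, inv_eq_of_mul_eq_one_right p.2.2.1,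
          inv_eq_of_mul_eq_one_right q.2.2.1]
      obtain ⟨v', hv'⟩ := Finite.surjective_of_injective hf ⟨_, hv⟩
      exact ⟨v', v'.2, (congrArg Subtype.val hv').symm⟩
    obtain ⟨c, hc⟩ : ∃ c, c = w * v' := ⟨_, rfl⟩
    have hxc : x * c * x⁻¹ = c := by
      have hw2' : w2 = w * (v' * (x * v' * x⁻¹)) := by
        rw [← hvv', ← mul_assoc, hw2, one_mul]
      calc x * c * x⁻¹ = x * w * x⁻¹ * (x * v' * x⁻¹) := by rw [hc]; group
        _ = w * v' * ((x * v' * x⁻¹) * (x * v' * x⁻¹)) := by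
            rw [← hw2d, hw2']; simp only [mul_assoc]
        _ = c := by rw [(hL.conj_vee hxN hv').2.1, mul_one, hc]
    refine hxP x hxodd o.x_ne fun p hp => ?_
    have hxp : x * p * x⁻¹ ∈ D := hL.conj_D hxN (hPD hp)
    have hcp : p * c = c * p := by
      rw [hc, ← mul_assoc, (hPw p (hPD hp)).1 hp, mul_assoc, hL.cent_comm hv'.1 (hPD hp),
        ← mul_assoc]
    have hcxp : x * p * x⁻¹ * c = c * (x * p * x⁻¹) := by
      calc x * p * x⁻¹ * c = x * p * x⁻¹ * (x * c * x⁻¹) := by rw [hxc]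
        _ = x * (p * c) * x⁻¹ := by group
        _ = (x * c * x⁻¹) * (x * p * x⁻¹) := by rw [hcp]; group
        _ = c * (x * p * x⁻¹) := by rw [hxc]
    refine (hPw _ hxp).2 ?_
    have hwc : w = c * v'⁻¹ := by rw [hc, mul_inv_cancel_right]
    rw [hwc, ← mul_assoc, hcxp, mul_assoc, hL.cent_comm (inv_mem hv'.1) hxp, ← mul_assoc]
  -- `w` and `w2` do not commute
  have hww : w * w2 ≠ w2 * w := fun e => hwQ ((hQw w hwD).2 e)
  have hwI : w ∉ I := fun e => hwQ (hIQ e)
  have hw2I : w2 ∉ I := fun e => hww ((hPw w2 hw2D).1 (hIP e)).symm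
  have hwi : w⁻¹ = w := inv_eq_of_mul_eq_one_right hw2
  have hw22 : w2 * w2 = 1 := by
    rw [hw2d]
    calc x * w * x⁻¹ * (x * w * x⁻¹) = x * (w * w) * x⁻¹ := by group
      _ = 1 := by rw [hw2]; group
  have hw2i : w2⁻¹ = w2 := inv_eq_of_mul_eq_one_right hw22
  have hww2I : w * w2 ∉ I := fun e => hww ((hPw w2 hw2D).1 (by
    simpa [← mul_assoc, hw2] using mul_mem hwP (hIP e))).symm
  have hcos := four_cosets (K := D) (Z := I) (by rw [hD32, hI8]) hID hwD hw2D (mul_mem hwD hw2D)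
    hwI hw2I hww2I (by rwa [hwi]) (by simpa [← mul_assoc, hwi, hw2] using hw2I)
    (fun e => hwQ (by
      rw [show w = w2 * (w2⁻¹ * (w * w2)) * w2⁻¹ by group]
      exact mul_mem (mul_mem hw2Q (hIQ e)) (inv_mem hw2Q)))
  have hIab : ∀ i ∈ I, ∀ j ∈ I, i * j = j * i := by
    intro i hi j hj
    by_cases hiZ : i ∈ centralizer (D : Set G)
    · exact hZcomm i hiZ j (hID hj)
    by_cases hjZ : j ∈ centralizer (D : Set G)
    · exact (hZcomm j hjZ i (hID hi)).symm
    have hlt : Nat.card (centralizer (D : Set G)) < 8 := by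
      rw [← hI8]
      exact lt_of_le_of_ne (Nat.le_of_dvd Nat.card_pos (card_dvd_of_le hZI)) fun e =>
        hiZ ((Subgroup.eq_of_le_of_card_ge hZI e.ge).symm ▸ hi)
    rw [hm, show (8 : ℕ) = 2 ^ 3 by norm_num] at hlt
    have hm' : m = 2 := by
      have := (Nat.pow_lt_pow_iff_right (by norm_num : 1 < 2)).1 hlt
      omega
    subst hm'
    have hij : i⁻¹ * j ∈ centralizer (D : Set G) := mul_mem_half hZI
      (by rw [hm, hI8]; norm_num) (inv_mem hi) hj (fun e => hiZ (inv_mem_iff.1 e)) hjZ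
    calc i * j = i * (i * (i⁻¹ * j)) := by group
      _ = i * ((i⁻¹ * j) * i) := by rw [hZcomm _ hij i (hID hi)]
      _ = j * i := by group
  have hIZ : ∀ i ∈ I, i ∈ centralizer (D : Set G) := by
    intro i hi
    rw [mem_centralizer_iff]
    intro d hd
    have ei : Commute i w := (hPw i (hID hi)).1 (hIP hi)
    have ei2 : Commute i w2 := (hQw i (hID hi)).1 (hIQ hi)
    rcases hcos d hd with h1 | h1 | h1 | h1
    · exact hIab d h1 i hi
    · rw [show d = w * (w⁻¹ * d) by group]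
      exact (ei.mul_right (hIab i hi _ h1)).eq.symm
    · rw [show d = w2 * (w2⁻¹ * d) by group]
      exact (ei2.mul_right (hIab i hi _ h1)).eq.symm
    · rw [show d = w * w2 * ((w * w2)⁻¹ * d) by group]
      exact ((ei.mul_right ei2).mul_right (hIab i hi _ h1)).eq.symm
  obtain ⟨w3, hw3d⟩ : ∃ w3, w3 = x * w2 * x⁻¹ := ⟨_, rfl⟩
  have hw3D : w3 ∈ D := hw3d ▸ hL.conj_D hxN hw2D
  have hw33 : w3 * w3 = 1 := by
    rw [hw3d]
    calc x * w2 * x⁻¹ * (x * w2 * x⁻¹) = x * (w2 * w2) * x⁻¹ := by group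
      _ = 1 := by rw [hw22]; group
  have hC3 : ∀ p ∈ P, (x * x) * p * (x * x)⁻¹ * w3 = w3 * ((x * x) * p * (x * x)⁻¹) := by
    intro p hp
    have e := (hPw p (hPD hp)).1 hp
    rw [hw3d, hw2d]
    calc x * x * p * (x * x)⁻¹ * (x * (x * w * x⁻¹) * x⁻¹) = x * x * (p * w) * (x * x)⁻¹ := by
          group
      _ = x * x * (w * p) * (x * x)⁻¹ := by rw [e]
      _ = _ := by group
  rcases hcos w3 hw3D with h1 | h1 | h1 | h1
  · -- `w3` central
    refine hwZ ?_
    have h2 := hL.conj_cent (inv_mem (mul_mem hxN hxN)) (hIZ _ h1)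
    rw [hw3d, hw2d] at h2
    simpa [mul_assoc] using h2
  · -- `P` normalised by the square
    have o2 := o.sq
    refine hxP (x * x) o2.x_odd o2.x_ne fun p hp => ?_
    have hmem := hL.conj_D (mul_mem hxN hxN) (hPD hp)
    refine (hPw _ hmem).2 ?_
    have hcm := hL.cent_comm (hIZ _ (inv_mem h1)) hmem
    rw [show w = w3 * (w⁻¹ * w3)⁻¹ by group]
    exact (Commute.mul_right (hC3 p hp) hcm).eq
  · -- `Q = P`
    refine hxP x hxodd o.x_ne fun p hp => ?_
    have hxp := hL.conj_D hxN (hPD hp)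
    have hmem : x * (x * p * x⁻¹) * x⁻¹ ∈ D := hL.conj_D hxN hxp
    have e : x * (x * p * x⁻¹) * x⁻¹ * w2 = w2 * (x * (x * p * x⁻¹) * x⁻¹) := by
      have hcm := hL.cent_comm (hIZ _ (inv_mem h1)) hmem
      have h3 := hC3 p hp
      rw [show x * x * p * (x * x)⁻¹ = x * (x * p * x⁻¹) * x⁻¹ by group] at h3
      rw [show w2 = w3 * (w2⁻¹ * w3)⁻¹ by group]
      exact (Commute.mul_right h3 hcm).eq
    refine (hPw _ hxp).2 ?_
    rw [hw2d] at e
    calc x * p * x⁻¹ * w = x⁻¹ * (x * (x * p * x⁻¹) * x⁻¹ * (x * w * x⁻¹)) * x := by group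
      _ = x⁻¹ * (x * w * x⁻¹ * (x * (x * p * x⁻¹) * x⁻¹)) * x := by rw [e]
      _ = w * (x * p * x⁻¹) := by group
  · -- the commutator is fixed
    obtain ⟨i, hi, e3⟩ : ∃ i ∈ I, w3 = w * w2 * i := ⟨_, h1, by group⟩
    obtain ⟨c, hc⟩ : ∃ c, c = w * w2 * (w * w2) := ⟨_, rfl⟩
    have hiZ := hIZ i hi
    have hcm : ∀ d ∈ D, i * d = d * i := fun d hd => hZcomm i hiZ d hd
    have hci : c * (i * i) = 1 := by
      calc c * (i * i) = w * w2 * (w * w2 * i) * i := by rw [hc]; simp only [mul_assoc]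
        _ = w * w2 * (i * (w * w2)) * i := by rw [hcm _ (mul_mem hwD hw2D)]
        _ = w3 * w3 := by rw [e3]; simp only [mul_assoc]
        _ = 1 := hw33
    have hc1 : c ≠ 1 := fun e => hww (by
      calc w * w2 = (w * w2) * ((w * w2) * (w * w2))⁻¹ := by rw [← hc, e, inv_one, mul_one]
        _ = w2⁻¹ * w⁻¹ := by group
        _ = w2 * w := by rw [hw2i, hwi])
    have hi2 : i * i ≠ 1 := fun e => hc1 (by simpa [e] using hci)
    have hcinv : c⁻¹ = i * i := inv_eq_of_mul_eq_one_right hci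
    have hcZ : c ∈ centralizer (D : Set G) := by
      rw [← inv_inv c, hcinv]
      exact inv_mem (mul_mem hiZ hiZ)
    have hxcx : x * c * x⁻¹ = c⁻¹ := by
      calc x * c * x⁻¹ = x * w * x⁻¹ * (x * w2 * x⁻¹) * (x * w * x⁻¹ * (x * w2 * x⁻¹)) := by
            rw [hc]; group
        _ = w2 * (w * w2 * i) * (w2 * (w * w2 * i)) := by rw [← hw2d, ← hw3d, e3]
        _ = w2 * w * w2 * (i * (w2 * (w * w2))) * i := by simp only [mul_assoc]
        _ = w2 * w * (w2 * w2) * w * w2 * (i * i) := by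
            rw [hcm _ (mul_mem hw2D (mul_mem hwD hw2D))]; simp only [mul_assoc]
        _ = i * i := by rw [hw22, mul_one, mul_assoc w2 w w, hw2, mul_one, hw22, one_mul]
        _ = c⁻¹ := hcinv.symm
    have hx2 : x * x * c = c * (x * x) := by
      rw [← mul_inv_eq_iff_eq_mul]
      calc x * x * c * (x * x)⁻¹ = x * (x * c * x⁻¹) * x⁻¹ := by group
        _ = x * c⁻¹ * x⁻¹ := by rw [hxcx]
        _ = (x * c * x⁻¹)⁻¹ := by group
        _ = c := by rw [hxcx, inv_inv]
    refine o.no_fixed hL ?_ hcZ hc1 (sq_comm hxodd hx2)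
    have hne : vee D ≠ centralizer (D : Set G) := fun e => by
      have hiV : i ∈ vee D := e ▸ hiZ
      exact hi2 hiV.2.1
    have hle := Nat.le_of_dvd Nat.card_pos (card_dvd_of_le hVZ)
    have hlt : Nat.card (vee D) < Nat.card (centralizer (D : Set G)) := lt_of_le_of_ne hle
      fun e => hne (Subgroup.eq_of_le_of_card_ge hVZ e.ge)
    have hZ8 : Nat.card (centralizer (D : Set G)) ≤ 8 :=
      hI8 ▸ Nat.le_of_dvd Nat.card_pos (card_dvd_of_le hZI)
    obtain ⟨k, hk⟩ := IsPGroup.iff_card.1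
      (hL.isPGroup_D.to_le (hVZ.trans hZD))
    have : k < 3 := (Nat.pow_lt_pow_iff_right (by norm_num : 1 < 2)).1 (by rw [← hk]; omega)
    rw [hk]
    interval_cases k <;> norm_num

end CfsgLib.ChainEight
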