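import Cfsg.Agent.Lib.Recog.CIT.Defs

/-!
# Simple groups of chain length eight with a Sylow 2-subgroup of order `2^7`: interface

The pieces are stated here as propositions; they are proved in the other files of this folder.
-/

set_option autoImplicit false
set_option linter.unusedVariables false

namespace CfsgLib.ChainEight

open Subgroup

universe u

variable {G : Type u} [Group G]

/-- An element whose centralizer is a 2-group. -/
def Good (t : G) : Prop := IsPGroup 2 (centralizer ({t} : Set G))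

/-- The global facts. -/
structure Eight (G : Type u) [Group G] : Prop where
  finite : Finite G
  simple : IsSimpleGroup G
  nonab : ∃ a b : G, a * b ≠ b * a
  chain : ∀ c : Fin 10 → Subgroup G, ¬ StrictAnti c
  card_syl : ∀ S : Sylow 2 G, Nat.card (S : Subgroup G) = 128
  coatom : ∀ S : Sylow 2 G, IsCoatom (S : Subgroup G)
  norm : ∀ (S : Sylow 2 G) (Q : Subgroup G), Q ≠ ⊥ → Q ≤ (S : Subgroup G) →
    (S : Subgroup G) ≤ normalizer (Q : Set G) → normalizer (Q : Set G) = (S : Subgroup G)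
  cent : ∀ (S : Sylow 2 G) (z : G), z ∈ (S : Subgroup G) → z ≠ 1 →
    (∀ a ∈ (S : Subgroup G), a * z = z * a) → centralizer ({z} : Set G) = (S : Subgroup G)

/-- A maximal centric 2-subgroup `D` with normalizer not a 2-group; `T` is Sylow in it. -/
structure Loc (S : Sylow 2 G) (D T : Subgroup G) : Prop where
  eight : Eight G
  le_T : D ≤ T
  le_S : T ≤ (S : Subgroup G)
  inf_norm : (S : Subgroup G) ⊓ normalizer (D : Set G) = T
  centric : centralizer (D : Set G) ≤ D
  not_two : ¬ IsPGroup 2 (normalizer (D : Set G))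
  core : ∀ R : Subgroup G, R ≤ normalizer (D : Set G) → IsPGroup 2 R →
    normalizer (D : Set G) ≤ normalizer (R : Set G) → R ≤ D
  sylow : ∀ R : Subgroup G, R ≤ normalizer (D : Set G) → IsPGroup 2 R → T ≤ R → R = T
  ne_bot : D ≠ ⊥

/-- The normalizer is `2`-core by odd by two. -/
structure Inv (S : Sylow 2 G) (D T : Subgroup G) : Prop extends Loc S D T where
  card_T : Nat.card T = 2 * Nat.card D
  card_D_le : Nat.card D ≤ 32
  inverted : ∀ s ∈ T, s ∉ D → ∃ x ∈ normalizer (D : Set G),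
    (orderOf x).Prime ∧ Odd (orderOf x) ∧ s * x * s⁻¹ * x ∈ D

/-- The shape of `D` when it is abelian: `D = ⟨u, z₀⟩ × C` and `T = D⟨s⟩`. -/
structure Par (S : Sylow 2 G) (D T C : Subgroup G) (x u s z0 : G) : Prop extends Inv S D T where
  comm : ∀ a ∈ D, ∀ b ∈ D, a * b = b * a
  le_C : C ≤ D
  C_x : ∀ c ∈ C, x * c = c * x
  C_s : ∀ c ∈ C, s * c = c * s
  x_mem : x ∈ normalizer (D : Set G)
  x_odd : Odd (orderOf x)
  u_mem : u ∈ D
  u_two : orderOf u = 2
  s_mem : s ∈ T
  s_notMem : s ∉ D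
  s_two : orderOf s = 2
  z0_mem : z0 ∈ D
  z0_two : orderOf z0 = 2
  z0_eq : z0 = u * s * (u * s)
  conj_x : x * z0 * x⁻¹ = u
  card_D : Nat.card D = 4 * Nat.card C
  decomp : ∀ d ∈ D, ∃ c ∈ C, d = c ∨ d = u * c ∨ d = z0 * c ∨ d = u * z0 * c
  u_notMem : u ∉ C
  z0_notMem : z0 ∉ C
  uz0_notMem : u * z0 ∉ C
  T_eq : ∀ t ∈ T, t ∈ D ∨ s * t ∈ D
  card_C : Nat.card C = 1 ∨ Nat.card C = 2 ∨ Nat.card C = 4
  cent_u : ∀ c ∈ C, ∀ a ∈ (S : Subgroup G), a * (u * c) = u * c * a → a ∈ D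
  conj_u : ∀ a ∈ (S : Subgroup G), a * u * a⁻¹ ∈ D → a * u * a⁻¹ = u ∨ a * u * a⁻¹ = u * z0

/-- The data of the transfer argument. -/
structure TData (S : Sylow 2 G) (R M : Subgroup G) (c z0 : G) (e : ℕ) : Prop where
  eight : Eight G
  R_le : R ≤ (S : Subgroup G)
  z0_mem : z0 ∈ R
  z0_two : orderOf z0 = 2
  z0_central : ∀ a ∈ (S : Subgroup G), a * z0 = z0 * a
  R_invol : ∀ r ∈ R, r * r = 1 → r = 1 ∨ r = z0
  c_mem : c ∈ (S : Subgroup G)
  c_two : orderOf c = 2
  c_notMem : c ∉ R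
  c_comm : ∀ r ∈ R, c * r = r * c
  bad : ¬ Good c
  bad' : ¬ Good (c * z0)
  M_le : M ≤ (S : Subgroup G)
  M_index : M.relIndex (S : Subgroup G) = 2
  in_M : ∀ m ∈ M, m ^ (2 ^ e) ∈ R
  not_M : ∀ h ∈ (S : Subgroup G), h ∉ M → ∃ r ∈ R, h ^ (2 ^ e) = c * r

/-- Existence of a local configuration. -/
def ExistsStmt : Prop :=
  ∀ (G : Type u) [Group G] [Finite G], Eight G →
    ∃ (S : Sylow 2 G) (D T : Subgroup G), Loc S D T

/-- `|T : D| = 2`. -/
def InvStmt : Prop :=
  ∀ (G : Type u) [Group G] [Finite G] (S : Sylow 2 G) (D T : Subgroup G),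
    Loc S D T → Inv S D T

/-- `D` is abelian. -/
def CommStmt : Prop :=
  ∀ (G : Type u) [Group G] [Finite G] (S : Sylow 2 G) (D T : Subgroup G),
    Inv S D T → ∀ a ∈ D, ∀ b ∈ D, a * b = b * a

/-- The shape of an abelian `D`; the order `32` is excluded. -/
def ShapeStmt : Prop :=
  ∀ (G : Type u) [Group G] [Finite G] (S : Sylow 2 G) (D T : Subgroup G),
    Inv S D T → (∀ a ∈ D, ∀ b ∈ D, a * b = b * a) →
      ∃ (C : Subgroup G) (x u s z0 : G), Par S D T C x u s z0

/-- `|C| = 4` leads to transfer data. -/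
def FourStmt : Prop :=
  ∀ (G : Type u) [Group G] [Finite G] (S : Sylow 2 G) (D T C : Subgroup G) (x u s z0 : G),
    Par S D T C x u s z0 → Nat.card C = 4 →
      ∃ (R M : Subgroup G) (c z : G) (e : ℕ), TData S R M c z e

/-- The transfer argument. -/
def TransferStmt : Prop :=
  ∀ (G : Type u) [Group G] [Finite G] (S : Sylow 2 G) (R M : Subgroup G) (c z0 : G) (e : ℕ),
    TData S R M c z0 e → False

/-- Thompson's transfer lemma with an extremal conjugate. -/
def ExtremalStmt : Prop :=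
  ∀ (G : Type u) [Group G] [Finite G], IsSimpleGroup G → (∃ a b : G, a * b ≠ b * a) →
    ∀ (S : Sylow 2 G) (M : Subgroup G), M ≤ (S : Subgroup G) → M.relIndex (S : Subgroup G) = 2 →
      ∀ c ∈ (S : Subgroup G), orderOf c = 2 → c ∉ M →
        ∃ i ∈ M, IsConj c i ∧ ∀ P : Subgroup G, IsPGroup 2 P → P ≤ centralizer ({c} : Set G) →
          Nat.card P ≤ Nat.card ((S : Subgroup G) ⊓ centralizer ({i} : Set G) : Subgroup G)

/-- `|C| = 2` is impossible. -/
def TwoStmt : Prop :=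
  ∀ (G : Type u) [Group G] [Finite G] (S : Sylow 2 G) (D T C : Subgroup G) (x u s z0 : G),
    Par S D T C x u s z0 → Nat.card C = 2 → False

/-- `|C| = 1` makes every involution centralizer a 2-group. -/
def OneStmt : Prop :=
  ∀ (G : Type u) [Group G] [Finite G] (S : Sylow 2 G) (D T C : Subgroup G) (x u s z0 : G),
    Par S D T C x u s z0 → Nat.card C = 1 →
      Recog.CIT.CIT G ∧ ∃ a ∈ (S : Subgroup G), ∃ b ∈ (S : Subgroup G), a * b ≠ b * a

/-- The identification. -/
def ListStmt : Prop :=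
  ∀ (G : Type u) [Group G] [Finite G] (S : Sylow 2 G), Eight G → Recog.CIT.CIT G →
    (∃ a ∈ (S : Subgroup G), ∃ b ∈ (S : Subgroup G), a * b ≠ b * a) →
      ∃ (F : Type) (_ : Field F) (_ : Fintype F), Fintype.card F = 127 ∧
        Nonempty (G ≃* Matrix.ProjectiveSpecialLinearGroup (Fin 2) F)

end CfsgLib.ChainEight
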