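import Cfsg.Agent.Lib.ChainEight.Basic
import Cfsg.Agent.S0071

/-!
# Chain length eight: existence of a centric local configuration
-/

set_option autoImplicit false
set_option linter.unusedSectionVars false

namespace CfsgLib.ChainEight

open Subgroup
open scoped Pointwise

universe u

variable {G : Type u} [Group G] [Finite G]

/-- A 2-subgroup with an odd-order element of its normalizer acting non-trivially. -/
def Moved (Q : Subgroup G) : Prop :=
  IsPGroup 2 Q ∧ ∃ g ∈ normalizer (Q : Set G), Odd (orderOf g) ∧ g ∉ centralizer (Q : Set G)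

theorem exists_moved (h : Eight G) : ∃ Q : Subgroup G, Moved Q := by
  haveI : Fact (Nat.Prime 2) := ⟨Nat.prime_two⟩
  haveI := h.simple
  obtain ⟨S⟩ := (inferInstance : Nonempty (Sylow 2 G))
  by_contra hno
  push Not at hno
  obtain ⟨N, hN, hc⟩ := ((Cfsg.Agent.S0071.result S).2 fun Q hQ g hg hco => by
    by_contra hgc
    refine hno Q ⟨S.isPGroup'.to_le hQ, g, hg, ?_, hgc⟩
    exact Nat.coprime_two_right.1 hco)
  have hmul := hc.card_mul
  rcases hN.eq_bot_or_eq_top with hb | ht
  · subst hb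
    rw [Subgroup.card_bot, one_mul] at hmul
    exact (h.coatom S).1 (Subgroup.eq_top_of_card_eq _ hmul)
  · subst ht
    rw [Subgroup.card_top, h.card_syl S] at hmul
    have := Nat.card_pos (α := G)
    omega

theorem norm_sup {Q R : Subgroup G} {g : G} (hQ : g ∈ normalizer (Q : Set G))
    (hR : g ∈ normalizer (R : Set G)) : g ∈ normalizer ((Q ⊔ R : Subgroup G) : Set G) := by
  have hf : ∀ {X : Subgroup G} {a : G}, a ∈ normalizer (X : Set G) →
      X.map (MulAut.conj a).toMonoidHom = X := by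
    intro X a ha
    refine le_antisymm ?_ fun b hb => ?_
    · rintro _ ⟨b, hb, rfl⟩
      exact (mem_normalizer_iff.1 ha b).1 hb
    · exact ⟨a⁻¹ * b * a, (mem_normalizer_iff.1 ha _).2 (by simpa [mul_assoc] using hb),
        by simp [mul_assoc]⟩
  have he : (Q ⊔ R).map (MulAut.conj g).toMonoidHom = Q ⊔ R := by
    rw [Subgroup.map_sup, hf hQ, hf hR]
  rw [mem_normalizer_iff]
  intro b
  constructor
  · intro hb
    rw [← he]
    exact ⟨b, hb, rfl⟩
  · intro hb
    rw [← he] at hb
    obtain ⟨c, hc, hce⟩ := hb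
    have : c = b := (MulAut.conj g).injective hce
    exact this ▸ hc

theorem exists_loc : ExistsStmt.{u} := by
  intro G _ _ h
  classical
  haveI : Fact (Nat.Prime 2) := ⟨Nat.prime_two⟩
  obtain ⟨Q, ⟨hQ, g, hg, hgo, hgc⟩, hmax⟩ := (Set.toFinite {Q : Subgroup G | Moved Q}).exists_maximalFor
    (fun Q : Subgroup G => Nat.card Q) _ (exists_moved h)
  set N := normalizer (Q : Set G) with hNdef
  have hQN : Q ≤ N := le_normalizer
  have hCN : centralizer (Q : Set G) ≤ N := centralizer_le_normalizer _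
  -- a larger moved subgroup cannot exist
  have hbig : ∀ R : Subgroup G, Moved R → Q ≤ R → R ≤ Q := fun R hR hle => by
    refine (Subgroup.eq_of_le_of_card_ge hle ?_).ge
    by_contra hlt
    exact absurd (hmax hR (le_of_lt (not_le.1 hlt))) (by simpa using hlt)
  -- a Sylow subgroup of the normalizer
  obtain ⟨T1⟩ := (inferInstance : Nonempty (Sylow 2 N))
  set T := (T1 : Subgroup N).map N.subtype with hTdef
  have hTN : T ≤ N := map_subtype_le _
  have hT : IsPGroup 2 T := T1.isPGroup'.map _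
  have hsyl : ∀ R : Subgroup G, R ≤ N → IsPGroup 2 R → T ≤ R → R = T := fun R hRN hR hTR => by
    have h1 : (T1 : Subgroup N) ≤ R.subgroupOf N := fun a ha => hTR ⟨a, ha, rfl⟩
    have h2 := T1.is_maximal' (hR.comap_of_injective N.subtype N.subtype_injective) h1
    rw [hTdef, ← h2, Subgroup.map_comap_eq, Subgroup.range_subtype, inf_eq_right.2 hRN]
  have hQT : Q ≤ T := by
    have hn : T ≤ normalizer (Q : Set G) := hTN
    have h1 : IsPGroup 2 (Q ⊔ T : Subgroup G) := hQ.to_sup_of_normal_left' hT hn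
    exact le_sup_left.trans (hsyl _ (sup_le hQN hTN) h1 le_sup_right).le
  obtain ⟨S, hS⟩ := hT.exists_le_sylow
  have hinf : (S : Subgroup G) ⊓ N = T :=
    hsyl _ inf_le_right (S.isPGroup'.to_le inf_le_left) (le_inf hS hTN)
  -- the centralizer
  set C := (centralizer (Q : Set G)).subgroupOf N with hC
  haveI : C.Normal := by
    refine ⟨fun a ha m => ?_⟩
    simp only [C, mem_subgroupOf, mem_centralizer_iff] at ha ⊢
    intro q hq
    have hm : ((m⁻¹ : N) : G) * q * (m : G) ∈ Q := by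
      have := (mem_normalizer_iff.1 (m⁻¹).2 q).1 hq
      simpa using this
    have h1 := ha _ hm
    simp only [Subgroup.coe_mul, Subgroup.coe_inv] at h1 ⊢
    calc q * ((m : G) * a * (m : G)⁻¹) = (m : G) * ((m : G)⁻¹ * q * (m : G) * a) * (m : G)⁻¹ := by group
      _ = (m : G) * (a * ((m : G)⁻¹ * q * (m : G))) * (m : G)⁻¹ := by rw [h1]
      _ = (m : G) * a * (m : G)⁻¹ * q := by group
  obtain ⟨P⟩ := (inferInstance : Nonempty (Sylow 2 C))
  set P' := ((P : Subgroup C).map C.subtype).map N.subtype with hP'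
  have hP'C : P' ≤ centralizer (Q : Set G) := by
    rintro _ ⟨_, ⟨p, -, rfl⟩, rfl⟩
    exact p.2
  -- the Frattini argument gives an odd element normalizing `P'`
  have hfr := Sylow.normalizer_sup_eq_top (N := C) P
  have hgm : (⟨g, hg⟩ : N) ∈ normalizer (((P : Subgroup C).map C.subtype) : Set N) ⊔ C :=
    hfr ▸ mem_top _
  obtain ⟨n, hn, c, hc, hnc⟩ := mem_sup_of_normal_right.1 hgm
  obtain ⟨k, o, ho, hno⟩ := Nat.exists_eq_two_pow_mul_odd (orderOf_pos n).ne'
  set n' := n ^ (2 ^ k) with hn'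
  have hn'o : orderOf n' = o := by
    rw [hn', orderOf_pow_of_dvd (by positivity) ⟨o, hno⟩, hno, Nat.mul_div_cancel_left _ (by positivity)]
  have hn'c : n' ∉ C := by
    intro hm
    apply hgc
    have hq : ((⟨g, hg⟩ : N) : N ⧸ C) = (n : N ⧸ C) := by
      rw [← hnc, QuotientGroup.mk_mul, (QuotientGroup.eq_one_iff c).2 hc, mul_one]
    have h1 : ((⟨g, hg⟩ : N) : N ⧸ C) ^ (2 ^ k) = 1 := by
      rw [hq, ← QuotientGroup.mk_pow]
      exact (QuotientGroup.eq_one_iff _).2 hm
    have h2 : ((⟨g, hg⟩ : N) : N ⧸ C) ^ orderOf g = 1 := by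
      rw [← QuotientGroup.mk_pow]
      exact (QuotientGroup.eq_one_iff _).2 (by
        rw [show (⟨g, hg⟩ : N) ^ orderOf g = 1 from Subtype.ext (by simp [pow_orderOf_eq_one])]
        exact one_mem _)
    have hco : Nat.gcd (2 ^ k) (orderOf g) = 1 :=
      Nat.Coprime.pow_left k (Nat.coprime_two_left.2 hgo)
    have h3 := pow_gcd_eq_one.2 ⟨h1, h2⟩
    rw [hco, pow_one] at h3
    exact (QuotientGroup.eq_one_iff (⟨g, hg⟩ : N) (N := C)).1 h3
  have hnP : (n' : G) ∈ normalizer (P' : Set G) := by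
    have hm : n' ∈ normalizer (((P : Subgroup C).map C.subtype) : Set N) := pow_mem hn _
    rw [mem_normalizer_iff] at hm ⊢
    intro a
    constructor
    · rintro ⟨b, hb, rfl⟩
      exact ⟨_, (hm b).1 hb, rfl⟩
    · rintro ⟨b, hb, hbe⟩
      refine ⟨n'⁻¹ * b * n', (hm _).2 (by rwa [show n' * (n'⁻¹ * b * n') * n'⁻¹ = b by group]), ?_⟩
      have : (b : G) = (n' : G) * a * (n' : G)⁻¹ := hbe
      simp [this, mul_assoc]
  have hP'2 : IsPGroup 2 P' := (P.isPGroup'.map _).map _
  have hQP : IsPGroup 2 (Q ⊔ P' : Subgroup G) := hQ.to_sup_of_normal_left' hP'2 (hP'C.trans hCN)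
  have hmoved : Moved (Q ⊔ P') := by
    refine ⟨hQP, (n' : G), norm_sup n'.2 hnP, ?_, fun hm => hn'c ?_⟩
    · rw [Subgroup.orderOf_coe, hn'o]; exact ho
    · exact centralizer_le (SetLike.coe_subset_coe.2 le_sup_left) hm
  have hP'Q : P' ≤ Q := le_sup_right.trans (hbig _ hmoved le_sup_left)
  -- a central involution lies in `Q`
  obtain ⟨z, hzS, hz2, hzc⟩ := h.exists_central S
  have hzC : z ∈ centralizer (Q : Set G) := fun q hq => hzc q (hS (hQT hq))
  have hzQ : z ∈ Q := by
    set z' : C := ⟨⟨z, hCN hzC⟩, hzC⟩ with hz'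
    obtain ⟨P2, hP2⟩ := (IsPGroup.of_card (p := 2) (n := 1) (G := zpowers z') (by
      rw [Nat.card_zpowers, ← Subgroup.orderOf_coe, ← Subgroup.orderOf_coe]
      exact hz2.trans (pow_one 2).symm)).exists_le_sylow
    obtain ⟨a, rfl⟩ := MulAction.exists_smul_eq C P P2
    have hm : z' ∈ ((a • P : Sylow 2 C) : Subgroup C) := hP2 (mem_zpowers z')
    rw [Sylow.smul_def, show ((MulAut.conj a • P : Sylow 2 C) : Subgroup C)
      = MulAut.conj a • (P : Subgroup C) from rfl,
      Subgroup.mem_pointwise_smul_iff_inv_smul_mem] at hm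
    have h1 : a⁻¹ * z' * a ∈ (P : Subgroup C) := by
      simpa [MulAut.smul_def, mul_assoc] using hm
    have h2 : (((a⁻¹ * z' * a : C) : N) : G) ∈ Q := hP'Q ⟨_, ⟨_, h1, rfl⟩, rfl⟩
    simp only [Subgroup.coe_mul, Subgroup.coe_inv] at h2
    have h3 := (mem_normalizer_iff.1 (hCN a.2) _).1 h2
    simpa [z', mul_assoc] using h3
  have hz1 : z ≠ 1 := fun hz1 => by rw [hz1, orderOf_one] at hz2; omega
  have hcen : centralizer (Q : Set G) ≤ Q := by
    have hCS : centralizer (Q : Set G) ≤ (S : Subgroup G) := by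
      rw [← h.cent S z hzS hz1 hzc]
      intro a ha
      exact mem_centralizer_singleton_iff.2 (ha z hzQ).symm
    have hCp : IsPGroup 2 C := by
      refine (S.isPGroup'.to_le hCS).of_injective
        ((Subgroup.inclusion (le_refl _)).comp
          ((N.subtype.comp C.subtype).codRestrict (centralizer (Q : Set G)) fun a => a.2)) ?_
      intro a b hab
      exact Subtype.ext (Subtype.ext (congrArg (fun w : centralizer (Q : Set G) => (w : G)) hab))
    have htop : (P : Subgroup C) = ⊤ :=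
      (P.is_maximal' (hCp.to_subgroup ⊤) le_top).symm
    intro a ha
    exact hP'Q ⟨⟨a, hCN ha⟩, ⟨⟨⟨a, hCN ha⟩, ha⟩, htop ▸ mem_top _, rfl⟩, rfl⟩
  refine ⟨S, Q, T, h, hQT, hS, hinf, hcen, fun hp => ?_, fun R hRN hR hNR => ?_, hsyl, fun hb => ?_⟩
  · obtain ⟨j, hj⟩ := hp ⟨g, hg⟩
    have h1 : orderOf g ∣ 2 ^ j := orderOf_dvd_of_pow_eq_one (by simpa using congrArg Subtype.val hj)
    have h2 : orderOf g = 1 :=
      Nat.eq_one_of_dvd_coprimes (Nat.Coprime.pow_left j (Nat.coprime_two_left.2 hgo)) h1 dvd_rfl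
    exact hgc ((orderOf_eq_one_iff.1 h2) ▸ one_mem _)
  · have hm : Moved (Q ⊔ R) := by
      refine ⟨hQ.to_sup_of_normal_left' hR hRN, g, norm_sup hg (hNR hg), hgo,
        fun hm => hgc ?_⟩
      exact centralizer_le (SetLike.coe_subset_coe.2 le_sup_left) hm
    exact le_sup_right.trans (hbig _ hm le_sup_left)
  · apply hgc
    rw [hb]
    intro a ha
    rw [SetLike.mem_coe, mem_bot] at ha
    subst ha
    simp

end CfsgLib.ChainEight
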