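import Cfsg.Agent.Lib.ChainEight.FourCases

/-!
# The case `|C| = 4` gives transfer data
-/

set_option autoImplicit false
set_option linter.unusedSectionVars false

namespace CfsgLib.ChainEight.Four

open Subgroup

universe u

variable {G : Type u} [Group G] [Finite G] {S : Sylow 2 G} {D T C : Subgroup G} {x u z0 g y t : G}

/-- Commuting generators generate a commutative group. -/
theorem comm_of_generators {H : Type u} [Group H] {E : Set H} (hE : Subgroup.closure E = ⊤)
    (h : ∀ a ∈ E, ∀ b ∈ E, a * b = b * a) (a b : H) : a * b = b * a := by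
  have h1 : ∀ e ∈ E, ∀ z : H, e * z = z * e := fun e he z => by
    have hle : Subgroup.closure E ≤ centralizer ({e} : Set H) :=
      (Subgroup.closure_le _).mpr fun b hb => mem_centralizer_singleton_iff.mpr (h b hb e he)
    exact (mem_centralizer_singleton_iff.mp (hle (hE ▸ mem_top z))).symm
  have hle : Subgroup.closure E ≤ center H :=
    (Subgroup.closure_le _).mpr fun e he => mem_center_iff.mpr fun z => (h1 e he z).symm
  exact (mem_center_iff.mp (hle (hE ▸ mem_top a)) b).symm

namespace Cfg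

variable (K : Cfg S D T C x u z0 g y t)
variable {q : G} (hq : q ∈ C) (hqq : q * q ≠ 1) (hyq : y * q * y = z0 * q)
  (hmem : ∀ k ∈ C, k = 1 ∨ k = q ∨ k = q * q ∨ k = q * (q * q))

section
include K

theorem u_S : u ∈ (S : Subgroup G) := K.T_le_S (K.le_T K.u_mem)

theorem tinv : t⁻¹ = t := inv_eq_of_mul_eq_one_left K.tt

theorem uy_pow_four : (u * y) ^ 4 = z0 := by
  have h2 : (u * y) ^ 2 = u * t := by
    rw [pow_two, show u * y * (u * y) = u * (y * u * y) by group, K.yuy]
  rw [show 4 = 2 * 2 from rfl, pow_mul, h2, pow_two, K.ut_sq]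

theorem uy_eight : (u * y) ^ 8 = 1 := by
  rw [show 8 = 4 * 2 from rfl, pow_mul, K.uy_pow_four, pow_two, K.zz]

theorem orderOf_uy : orderOf (u * y) = 8 := by
  haveI : Fact (Nat.Prime 2) := ⟨Nat.prime_two⟩
  rw [show 8 = 2 ^ (2 + 1) from rfl]
  refine orderOf_eq_prime_pow ?_ K.uy_eight
  rw [show (2 : ℕ) ^ 2 = 4 from rfl, K.uy_pow_four]
  exact K.z0_ne

theorem mem_R {r : G} (hr : r ∈ Subgroup.zpowers (u * y)) : ∃ k < 8, r = (u * y) ^ k := by
  classical
  rw [mem_zpowers_iff_mem_range_orderOf, K.orderOf_uy] at hr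
  simp only [Finset.mem_image, Finset.mem_range] at hr
  obtain ⟨k, hk, rfl⟩ := hr
  exact ⟨k, hk, rfl⟩

theorem z0_R : z0 ∈ Subgroup.zpowers (u * y) := K.uy_pow_four ▸ Subgroup.npow_mem_zpowers _ _

theorem pow_eq (n : ℕ) : (u * y) ^ n = (u * y) ^ (n % 8) := pow_eq_pow_mod n K.uy_eight

theorem conj_u_uy : u * (u * y) * u⁻¹ = (u * y) ^ 7 := by
  have h1 : u * (u * y) * u⁻¹ = (u * y)⁻¹ := by
    rw [mul_inv_rev, K.yinv, ← mul_assoc, K.uu, one_mul]
  rw [h1]
  exact inv_eq_of_mul_eq_one_right (by rw [← pow_succ', K.uy_eight])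

theorem uy_inv : (u * y)⁻¹ = y * u := by
  rw [mul_inv_rev, K.yinv, inv_eq_of_mul_eq_one_left K.uu]

include hq hyq in
theorem conj_q_uy : q * (u * y) * q⁻¹ = (u * y) ^ 5 := by
  have hqu : q * u = u * q := K.comm q (K.le_C hq) u K.u_mem
  have hyq' : y * q = z0 * q * y := by
    rw [← hyq, mul_assoc (y * q), K.yy, mul_one]
  have hz : q * z0 = z0 * q := K.comm q (K.le_C hq) z0 K.z0_mem
  have h1 : q * y = z0 * y * q := by
    rw [mul_assoc, hyq', ← mul_assoc, ← mul_assoc, K.zz, one_mul]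
  rw [← mul_assoc, hqu, mul_assoc u q y, h1, ← mul_assoc, mul_inv_cancel_right,
    pow_succ, K.uy_pow_four, ← mul_assoc, ← mul_assoc,
    K.comm u K.u_mem z0 K.z0_mem]

/-- The cases for the image of `u y` under `g`. -/
theorem conj_g_uy : ∃ e, e * e % 8 = 1 ∧ g * (u * y) * g⁻¹ = (u * y) ^ e := by
  have h1 : g * (u * y) * g⁻¹ = y * (g * y * g⁻¹) := by
    nth_rewrite 2 [K.y_eq]
    group
  have hinv : (u * y) ^ 7 = y * u := by
    rw [← K.uy_inv]
    exact (inv_eq_of_mul_eq_one_right (by rw [← pow_succ', K.uy_eight])).symm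
  have hyt : y * t = u * y := by
    rw [← K.yuy, ← mul_assoc, ← mul_assoc, K.yy, one_mul]
  rcases K.conj_g_y with ⟨-, h | h⟩ | ⟨-, h | h⟩ <;> rw [h] at h1
  · exact ⟨7, rfl, h1.trans hinv.symm⟩
  · refine ⟨3, rfl, h1.trans ?_⟩
    rw [← mul_assoc, ← hinv, ← K.uy_pow_four, ← pow_add, K.pow_eq]
  · exact ⟨1, rfl, by rw [pow_one, h1, hyt]⟩
  · refine ⟨5, rfl, h1.trans ?_⟩
    rw [← mul_assoc, hyt, ← K.uy_pow_four, ← pow_succ']

theorem conj_g_z0 : g * z0 * g⁻¹ = z0 := by
  obtain ⟨e, he, h⟩ := K.conj_g_uy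
  have h1 : g * z0 * g⁻¹ = (u * y) ^ (e * 4) := by
    rw [← K.uy_pow_four, ← conj_pow, h, ← pow_mul]
  have h2 : e * 4 % 8 = 4 := by
    have : e % 2 = 1 := by
      rcases Nat.mod_two_eq_zero_or_one e with h0 | h0
      · exfalso
        have : e * e % 2 = 0 := by rw [Nat.mul_mod, h0]
        omega
      · exact h0
    omega
  rw [h1, K.pow_eq, h2, K.uy_pow_four]

theorem normal_gen (p : G) (hp : ∃ e, p * (u * y) * p⁻¹ = (u * y) ^ e) :
    p ∈ normalizer (Subgroup.zpowers (u * y) : Set G) := by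
  obtain ⟨e, he⟩ := hp
  let R := Subgroup.zpowers (u * y)
  have hmap : ∀ r ∈ R, p * r * p⁻¹ ∈ R := by
    rintro r hr
    obtain ⟨k, -, rfl⟩ := K.mem_R hr
    rw [← conj_pow, he]
    exact pow_mem (Subgroup.npow_mem_zpowers _ _) _
  refine mem_normalizer_iff.mpr fun r => ⟨hmap r, fun hr => ?_⟩
  let ψ : R → R := fun a => ⟨p * a * p⁻¹, hmap a a.2⟩
  have hψ : Function.Injective ψ := fun a b h =>
    Subtype.ext (mul_left_cancel (mul_right_cancel (congrArg Subtype.val h :)))
  obtain ⟨a, ha⟩ := (Finite.injective_iff_surjective.mp hψ) ⟨_, hr⟩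
  have h2 : (a : G) = r := mul_left_cancel (mul_right_cancel (congrArg Subtype.val ha :))
  exact h2 ▸ a.2

include hq hmem in
/-- Normal forms in `N`. -/
theorem form {n : G} (hn : n ∈ T ∨ y * n ∈ T) :
    ∃ r ∈ Subgroup.zpowers (u * y), ∃ i < 2, ∃ j < 4, n = r * (u ^ i * q ^ j) := by
  set R := Subgroup.zpowers (u * y) with hR
  have hC : ∀ k ∈ C, ∃ j < 4, k = q ^ j := fun k hk => by
    rcases hmem k hk with h | h | h | h
    · exact ⟨0, by norm_num, h.trans (pow_zero q).symm⟩
    · exact ⟨1, by norm_num, h.trans (pow_one q).symm⟩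
    · exact ⟨2, by norm_num, h.trans (pow_two q).symm⟩
    · exact ⟨3, by norm_num, by simp [h, pow_succ, mul_assoc]⟩
  have hD : ∀ d ∈ D, ∃ r ∈ R, ∃ i < 2, ∃ j < 4, d = r * (u ^ i * q ^ j) := fun d hd => by
    rcases K.cases d hd with h | h
    · obtain ⟨k, hk, rfl | rfl⟩ := K.exists_eq_zpow d h
      · obtain ⟨j, hj, rfl⟩ := hC _ hk
        exact ⟨1, one_mem _, 0, by norm_num, j, hj, by simp⟩
      · obtain ⟨j, hj, rfl⟩ := hC _ hk
        exact ⟨z0, K.z0_R, 0, by norm_num, j, hj, by simp⟩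
    · have hd' : d = u * (u * d) := by rw [← mul_assoc, K.uu, one_mul]
      obtain ⟨k, hk, he | he⟩ := K.exists_eq_zpow _ h <;> obtain ⟨j, hj, rfl⟩ := hC _ hk <;>
        rw [hd', he]
      · exact ⟨1, one_mem _, 1, by norm_num, j, hj, by simp⟩
      · refine ⟨z0, K.z0_R, 1, by norm_num, j, hj, ?_⟩
        rw [pow_one, ← mul_assoc, K.comm u K.u_mem z0 K.z0_mem, mul_assoc]
  have hu : ∀ m, (∃ r ∈ R, ∃ i < 2, ∃ j < 4, m = r * (u ^ i * q ^ j)) →
      ∃ r ∈ R, ∃ i < 2, ∃ j < 4, u * m = r * (u ^ i * q ^ j) := by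
    rintro _ ⟨r, hr, i, hi, j, hj, rfl⟩
    have hr' : u * r * u⁻¹ ∈ R :=
      (mem_normalizer_iff.mp (K.normal_gen u ⟨7, K.conj_u_uy⟩) r).mp hr
    refine ⟨u * r * u⁻¹, hr', (i + 1) % 2, Nat.mod_lt _ (by norm_num), j, hj, ?_⟩
    rw [← pow_eq_pow_mod (i + 1) (show u ^ 2 = 1 by rw [pow_two, K.uu]), pow_succ']
    group
  have hmulR : ∀ m, (∃ r ∈ R, ∃ i < 2, ∃ j < 4, m = r * (u ^ i * q ^ j)) → ∀ r0 ∈ R,
      ∃ r ∈ R, ∃ i < 2, ∃ j < 4, r0 * m = r * (u ^ i * q ^ j) := by
    rintro _ ⟨r, hr, i, hi, j, hj, rfl⟩ r0 hr0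
    exact ⟨r0 * r, mul_mem hr0 hr, i, hi, j, hj, (mul_assoc _ _ _).symm⟩
  have hy : ∀ m, (∃ r ∈ R, ∃ i < 2, ∃ j < 4, m = r * (u ^ i * q ^ j)) →
      ∃ r ∈ R, ∃ i < 2, ∃ j < 4, y * m = r * (u ^ i * q ^ j) := fun m hm => by
    have := hmulR _ (hu m hm) (u * y)⁻¹ (inv_mem (Subgroup.mem_zpowers _))
    rwa [K.uy_inv, show y * u * (u * m) = y * (u * u) * m by group, K.uu, mul_one] at this
  have hT : ∀ a ∈ T, ∃ r ∈ R, ∃ i < 2, ∃ j < 4, a = r * (u ^ i * q ^ j) := fun a ha => by
    rcases K.T_eq a ha with h | h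
    · exact hD a h
    · have h1 := hy _ (hu _ (hy _ (hD _ h)))
      rwa [show y * (u * (y * (t * a))) = y * u * y * t * a by group, K.yuy, K.tt, one_mul] at h1
  rcases hn with h | h
  · exact hT n h
  · have h1 := hy _ (hT _ h)
    rwa [← mul_assoc, K.yy, one_mul] at h1

end

include K hq hqq hyq hmem

theorem q_four : q * q * (q * q) = 1 := by
  rcases hmem _ (mul_mem (mul_mem hq hq) (mul_mem hq hq)) with h | h | h | h
  · exact h
  · exfalso
    refine hqq ?_
    have hc : y * (q * q) * y = q * q := by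
      rw [K.conj_y_mul, hyq,
        (show Commute q z0 from K.comm q (K.le_C hq) z0 K.z0_mem).mul_mul_mul_comm, K.zz, one_mul]
    have h2 : y * (q * q * (q * q)) * y = q * q * (q * q) := by rw [K.conj_y_mul, hc]
    rw [h, hyq] at h2
    exact absurd (mul_eq_right.mp h2) K.z0_ne
  · exact absurd (mul_eq_left.mp h) hqq
  · exfalso
    have h1 : q * q * (q * q) = q * q * q := by rw [h, mul_assoc]
    have h2 : q * q = q := mul_left_cancel h1
    exact hqq (by rw [mul_eq_left.mp h2, one_mul])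

theorem qq_notR : q * q ∉ Subgroup.zpowers (u * y) := by
  intro h
  obtain ⟨k, hk, he⟩ := K.mem_R h
  have h2 : (u * y) ^ (2 * k) = 1 := by
    rw [two_mul, pow_add, ← he, K.q_four hq hqq hyq hmem]
  have h3 := orderOf_dvd_of_pow_eq_one h2
  rw [K.orderOf_uy] at h3
  have h4 : k = 0 ∨ k = 4 := by omega
  rcases h4 with rfl | rfl
  · exact hqq (by rw [he, pow_zero])
  · rw [K.uy_pow_four] at he
    exact K.z0_notMem (he ▸ mul_mem hq hq)

theorem qq_comm : ∀ r ∈ Subgroup.zpowers (u * y), q * q * r = r * (q * q) := by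
  intro r hr
  obtain ⟨k, -, rfl⟩ := K.mem_R hr
  have h1 : q * q * (u * y) * (q * q)⁻¹ = u * y := by
    rw [show q * q * (u * y) * (q * q)⁻¹ = q * (q * (u * y) * q⁻¹) * q⁻¹ by group,
      K.conj_q_uy hq hyq, ← conj_pow, K.conj_q_uy hq hyq, ← pow_mul, K.pow_eq]
    exact pow_one _
  exact ((show Commute (q * q) (u * y) from mul_inv_eq_iff_eq_mul.mp h1).pow_right k).eq

theorem conj_g_c : g * (q * q) * g⁻¹ = q * q * z0 := by
  have hc : y * (q * q) * y = q * q := by
    rw [K.conj_y_mul, hyq,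
      (show Commute q z0 from K.comm q (K.le_C hq) z0 K.z0_mem).mul_mul_mul_comm, K.zz, one_mul]
  obtain ⟨h1, h2⟩ := K.inZ_conj_g (Or.inl (mul_mem hq hq)) hc
  have hfix : y * (g * (q * q) * g⁻¹) * y = g * (q * q) * g⁻¹ := by
    rw [← h2, mul_assoc, K.yy, mul_one]
  have hne1 : g * (q * q) * g⁻¹ ≠ 1 := fun h => hqq (by
    rw [mul_inv_eq_one] at h
    exact mul_eq_left.mp h)
  have hne : ∀ k ∈ C, ∀ k' ∈ C, z0 * k ≠ k' := fun k hk k' hk' he =>
    K.z0_notMem (by rw [show z0 = k' * k⁻¹ from eq_mul_inv_of_mul_eq he]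
                    exact mul_mem hk' (inv_mem hk))
  have hval : ∀ k ∈ C, y * k * y = k → k = 1 ∨ k = q * q := by
    intro k hk hk'
    rcases hmem k hk with rfl | rfl | rfl | rfl
    · exact Or.inl rfl
    · exact absurd (hyq ▸ hk') (hne _ hq _ hq)
    · exact Or.inr rfl
    · rw [K.conj_y_mul, hyq, hc, mul_assoc] at hk'
      exact absurd hk' (hne _ hk _ hk)
  obtain ⟨k, hk, he | he⟩ := K.exists_eq_zpow _ h1 <;> rw [he] at hfix hne1 ⊢
  · rcases hval k hk hfix with rfl | rfl
    · exact absurd rfl hne1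
    · exact absurd (K.eq_one_of_fixed (mul_mem hq hq) hc he) hqq
  · rw [K.conj_y_mul, K.yzy] at hfix
    rcases hval k hk (mul_left_cancel hfix) with rfl | rfl
    · exfalso
      rw [mul_one, ← K.conj_g_z0] at he
      exact K.z0_notMem (by
        rw [← mul_left_cancel (mul_right_cancel he)]
        exact mul_mem hq hq)
    · exact (K.comm _ (K.le_C (mul_mem hq hq)) z0 K.z0_mem).symm

theorem conj_g_q : g * q * g⁻¹ * q⁻¹ ∈ Subgroup.zpowers (u * y) := by
  set R := Subgroup.zpowers (u * y) with hR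
  set a := g * q * g⁻¹ with ha
  have hqu : q * u = u * q := K.comm q (K.le_C hq) u K.u_mem
  have hqt : q * t = t * q := (K.C_t q hq).symm
  have hay : a * y = y * a := by
    rw [ha, K.y_eq, show g * q * g⁻¹ * (g * u * g⁻¹) = g * (q * u) * g⁻¹ by group, hqu]
    group
  have huy2 : (u * y) ^ 2 = u * t := by
    rw [pow_two, show u * y * (u * y) = u * (y * u * y) by group, K.yuy]
  -- `a` commutes with `u t`
  obtain ⟨e, he, hge⟩ := K.conj_g_uy
  have hgut : g * (u * t) * g⁻¹ = (u * y) ^ (2 * e) := by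
    rw [← huy2, ← conj_pow, hge, ← pow_mul, mul_comm]
  have hegcd : (2 * e * e) % 8 = 2 := by rw [mul_assoc, Nat.mul_mod, he]
  have haut : a * (u * t) = u * t * a := by
    have h1 : Commute a (g * (u * t) * g⁻¹) := by
      show g * q * g⁻¹ * (g * (u * t) * g⁻¹) = g * (u * t) * g⁻¹ * (g * q * g⁻¹)
      rw [show g * q * g⁻¹ * (g * (u * t) * g⁻¹) = g * (q * (u * t)) * g⁻¹ by group,
        ((show Commute q u from hqu).mul_right hqt).eq]
      group
    rw [hgut] at h1
    have h2 := h1.pow_right e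
    rw [← pow_mul, K.pow_eq, hegcd, huy2] at h2
    exact h2.eq
  have hasq : a * a = q * q * z0 := by
    rw [ha, show g * q * g⁻¹ * (g * q * g⁻¹) = g * (q * q) * g⁻¹ by group,
      K.conj_g_c hq hqq hyq hmem]
  -- `a` lies in `T`
  have hne : y * (u * t) ≠ u * t * y := by
    intro h
    have h1 : t * u = u * t := by
      have h2 : y * (u * t) * y = u * t := by rw [h, mul_assoc, K.yy, mul_one]
      rwa [K.conj_y_mul, K.yuy, K.yty] at h2
    have h3 := K.tut
    rw [h1, mul_assoc, K.tt, mul_one] at h3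
    exact K.z0_ne (left_eq_mul.mp h3)
  have hsw : ∀ w, InZ C z0 w → Commute (t * u * w) (u * t) := fun w hw => by
    have h1 : Commute (t * u) (u * t) := by
      show t * u * (u * t) = u * t * (t * u)
      rw [show t * u * (u * t) = t * (u * u) * t by group, K.uu, mul_one, K.tt,
        show u * t * (t * u) = u * (t * t) * u by group, K.tt, mul_one, K.uu]
    exact h1.mul_left ((show Commute w u from K.inZ_u hw).mul_right (K.inZ_t hw))
  have haT : a ∈ T := by
    rcases K.normal_N q (K.le_T (K.le_C hq)) with h | h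
    · exact h
    · exfalso
      apply hne
      have hby : y * a * y = y * (y * a) := by rw [mul_assoc, hay]
      have hyainv : Commute (y * a) (u * t) := by
        rcases K.fixed_cases h hby with ⟨h1, -⟩ | ⟨w, hw, he', -⟩
        · exact (show Commute (y * a) u from K.inZ_u h1).mul_right (K.inZ_t h1)
        · rw [he']; exact hsw w hw
      have h3 : Commute (y * a * a⁻¹) (u * t) :=
        hyainv.mul_left (show Commute a (u * t) from haut).inv_left
      rw [mul_inv_cancel_right] at h3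
      exact h3.eq
  have hqz : q * z0 = z0 * q := K.comm q (K.le_C hq) z0 K.z0_mem
  have hc : y * (q * q) * y = q * q := by
    rw [K.conj_y_mul, hyq, (show Commute q z0 from hqz).mul_mul_mul_comm, K.zz, one_mul]
  have hne0 : ∀ k ∈ C, ∀ k' ∈ C, z0 * k ≠ k' := fun k hk k' hk' he' =>
    K.z0_notMem (by rw [show z0 = k' * k⁻¹ from eq_mul_inv_of_mul_eq he']
                    exact mul_mem hk' (inv_mem hk))
  rcases K.fixed_cases haT hay with ⟨h1, h2⟩ | ⟨w, hw, hatw, hw2⟩
  · exfalso
    obtain ⟨k, hk, he' | he'⟩ := K.exists_eq_zpow a h1 <;> rw [he'] at h2 hasq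
    · exact hne0 _ (mul_mem hq hq) _ (mul_mem hk hk)
        (by rw [hasq, K.comm _ (K.le_C (mul_mem hq hq)) z0 K.z0_mem])
    · rw [(show Commute k z0 from K.comm k (K.le_C hk) z0 K.z0_mem).mul_mul_mul_comm, K.zz,
        one_mul, K.comm _ (K.le_C (mul_mem hq hq)) z0 K.z0_mem] at hasq
      exact hne0 _ (mul_mem hq hq) _ (mul_mem hk hk) hasq.symm
  · have htuR : t * u ∈ R := by
      have : u * t ∈ R := huy2 ▸ Subgroup.npow_mem_zpowers _ _
      have := inv_mem this
      rwa [mul_inv_rev, K.tinv, inv_eq_of_mul_eq_one_left K.uu] at this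
    have hval : ∀ k ∈ C, y * k * y = z0 * k → k = q ∨ k = q * (q * q) := by
      intro k hk hk'
      rcases hmem k hk with rfl | rfl | rfl | rfl
      · rw [mul_one, K.yy, mul_one] at hk'
        exact absurd hk'.symm K.z0_ne
      · exact Or.inl rfl
      · rw [hc] at hk'
        exact absurd hk'.symm (hne0 _ hk _ hk)
      · exact Or.inr rfl
    obtain ⟨p, hpR, k, hk, hkq, hap⟩ : ∃ p ∈ R, ∃ k ∈ C, (k = q ∨ k = q * (q * q)) ∧
        a = p * k ∧ (p = t * u ∨ p = t * u * z0) := by
      obtain ⟨k, hk, he' | he'⟩ := K.exists_eq_zpow w hw <;> rw [he'] at hw2 hatw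
      · exact ⟨t * u, htuR, k, hk, hval k hk hw2, hatw, Or.inl rfl⟩
      · rw [K.conj_y_mul, K.yzy] at hw2
        exact ⟨t * u * z0, mul_mem htuR K.z0_R, k, hk, hval k hk (mul_left_cancel hw2),
          by rw [hatw, ← mul_assoc], Or.inr rfl⟩
    obtain ⟨hap, hp⟩ := hap
    rcases hkq with rfl | rfl
    · rwa [hap, mul_inv_cancel_right]
    · exfalso
      have hq4 := K.q_four hq hqq hyq hmem
      have hqinv : q * (q * q) = q⁻¹ := by
        refine (inv_eq_of_mul_eq_one_right ?_).symm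
        rw [← mul_assoc]; exact hq4
      rw [hqinv] at hap
      -- apply `g` again
      have e2 : g * g * q * (g * g)⁻¹ = (g * p * g⁻¹) * (q * p⁻¹) := by
        calc g * g * q * (g * g)⁻¹ = g * a * g⁻¹ := by rw [ha]; group
          _ = (g * p * g⁻¹) * a⁻¹ := by
            conv_lhs => rw [hap]
            rw [ha]; group
          _ = _ := by rw [hap, mul_inv_rev, inv_inv]
      have hz' : ∀ b : G, (g * g ∈ T ∨ y * (g * g) ∈ T) → b = g * g → b * z0 * b⁻¹ = z0 := by
        intro b _ hb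
        rw [hb, show g * g * z0 * (g * g)⁻¹ = g * (g * z0 * g⁻¹) * g⁻¹ by group, K.conj_g_z0,
          K.conj_g_z0]
      have hgtu : g * (t * u) * g⁻¹ = ((u * y) ^ (2 * e))⁻¹ := by
        rw [← hgut]
        conv_lhs => arg 1; arg 2; rw [show t * u = (u * t)⁻¹ by
          rw [mul_inv_rev, K.tinv, inv_eq_of_mul_eq_one_left K.uu]]
        group
      have hTq : ∀ b ∈ T, b * q * b⁻¹ = q := fun b hb => by
        rw [mul_inv_eq_iff_eq_mul]
        rcases K.T_eq b hb with h | h
        · exact K.comm b h q (K.le_C hq)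
        · have := (show Commute q t from hqt).inv_right.mul_right
            (K.comm q (K.le_C hq) _ h)
          rw [inv_mul_cancel_left] at this
          exact this.eq.symm
      have hcomm : Commute q p := by
        rcases hp with rfl | rfl
        · exact (show Commute q t from hqt).mul_right hqu
        · exact ((show Commute q t from hqt).mul_right hqu).mul_right hqz
      rcases K.conj_g_y with ⟨hT2, hy2⟩ | ⟨hyT2, hy2⟩
      · -- `g² ∈ T`, so `g` inverts `u t`
        have hgp : g * (t * u) * g⁻¹ = u * t := by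
          rw [show t * u = (u * t)⁻¹ by
            rw [mul_inv_rev, K.tinv, inv_eq_of_mul_eq_one_left K.uu], ← huy2, ← conj_inv,
            ← conj_pow]
          have hguy : g * (u * y) * g⁻¹ = y * (g * y * g⁻¹) := by
            nth_rewrite 2 [K.y_eq]
            group
          rw [hguy, ← inv_pow]
          rcases hy2 with h | h <;> rw [h, mul_inv_rev]
          · rw [inv_eq_of_mul_eq_one_left K.uu, K.yinv]
          · rw [mul_inv_rev, inv_eq_of_mul_eq_one_left K.zz, inv_eq_of_mul_eq_one_left K.uu, K.yinv,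
              mul_assoc z0, pow_two, pow_two]
            have hzc : Commute (u * y) z0 := by
              rw [← K.uy_pow_four]; exact Commute.self_pow _ _
            rw [hzc.mul_mul_mul_comm, K.zz, one_mul]
        have h5 := e2
        rw [hTq _ hT2] at h5
        apply K.z0_ne
        have hgp' : g * p * g⁻¹ = u * t * (p * (t * u)⁻¹) := by
          rcases hp with rfl | rfl
          · rw [hgp, mul_inv_cancel, mul_one]
          · rw [show g * (t * u * z0) * g⁻¹ = g * (t * u) * g⁻¹ * (g * z0 * g⁻¹) by group, hgp,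
              K.conj_g_z0]
            have hcz : Commute (t * u) z0 :=
              (show Commute t z0 from K.z0_t).mul_left (K.comm u K.u_mem z0 K.z0_mem)
            rw [hcz.eq, mul_inv_cancel_right]
        rw [hgp', hcomm.inv_right.eq,
          show u * t * (p * (t * u)⁻¹) * (p⁻¹ * q) = u * t * (p * (t * u)⁻¹ * p⁻¹) * q by group]
          at h5
        have hpc : p * (t * u)⁻¹ * p⁻¹ = (t * u)⁻¹ := by
          rw [mul_inv_eq_iff_eq_mul]
          rcases hp with rfl | rfl
          · group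
          · have hcz : Commute (t * u) z0 :=
              (show Commute t z0 from K.z0_t).mul_left (K.comm u K.u_mem z0 K.z0_mem)
            exact (((Commute.refl (t * u)).inv_right).mul_left hcz.symm.inv_right).eq
        rw [hpc, mul_inv_rev, K.tinv, inv_eq_of_mul_eq_one_left K.uu, K.ut_sq] at h5
        exact mul_eq_right.mp h5.symm
      · -- `g²` moves `q`, but `g` centralizes `u t`
        have hgp : g * (t * u) * g⁻¹ = t * u := by
          rw [show t * u = (u * t)⁻¹ by
            rw [mul_inv_rev, K.tinv, inv_eq_of_mul_eq_one_left K.uu], ← huy2, ← conj_inv,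
            ← conj_pow]
          have hguy : g * (u * y) * g⁻¹ = y * (g * y * g⁻¹) := by
            nth_rewrite 2 [K.y_eq]
            group
          have hyt : y * t = u * y := by
            rw [← K.yuy, ← mul_assoc, ← mul_assoc, K.yy, one_mul]
          rw [hguy]
          rcases hy2 with h | h <;> rw [h]
          · rw [hyt]
          · have hzc : Commute (u * y) z0 := by
              rw [← K.uy_pow_four]; exact Commute.self_pow _ _
            rw [← mul_assoc, hyt, hzc.mul_pow, pow_two z0, K.zz, mul_one]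
        have hgp' : g * p * g⁻¹ = p := by
          rcases hp with rfl | rfl
          · exact hgp
          · rw [show g * (t * u * z0) * g⁻¹ = g * (t * u) * g⁻¹ * (g * z0 * g⁻¹) by group, hgp,
              K.conj_g_z0]
        rw [hgp', hcomm.inv_right.eq, mul_inv_cancel_left] at e2
        have h6 : y * (y * (g * g) * q * (y * (g * g))⁻¹) * y = g * g * q * (g * g)⁻¹ := by
          rw [mul_inv_rev y, K.yinv,
            show y * (y * (g * g) * q * ((g * g)⁻¹ * y)) * y =
              (y * y) * (g * g * q * (g * g)⁻¹) * (y * y) by group, K.yy, one_mul, mul_one]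
        rw [hTq _ hyT2, hyq, e2] at h6
        exact K.z0_ne (mul_eq_right.mp h6)

theorem data : ∃ (R M : Subgroup G) (c z : G) (e : ℕ), TData S R M c z e := by
  classical
  set R := Subgroup.zpowers (u * y) with hR
  have huS := K.u_S
  have hqS : q ∈ (S : Subgroup G) := K.T_le_S (K.le_T (K.le_C hq))
  have hRS : R ≤ (S : Subgroup G) := Subgroup.zpowers_le.mpr (mul_mem huS K.y_S)
  set H := Subgroup.closure ({u, q, g} ∪ (R : Set G)) with hH
  have hN : ∀ n, (n ∈ T ∨ y * n ∈ T) → n ∈ H := fun n hn => by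
    obtain ⟨r, hr, i, -, j, -, rfl⟩ := K.form hq hmem hn
    have hu' : u ∈ H := Subgroup.subset_closure (Or.inl (by simp))
    have hq' : q ∈ H := Subgroup.subset_closure (Or.inl (by simp))
    exact mul_mem (Subgroup.subset_closure (Or.inr hr)) (mul_mem (pow_mem hu' i) (pow_mem hq' j))
  have hSH : (S : Subgroup G) ≤ H := fun a ha => by
    have hg : g ∈ H := Subgroup.subset_closure (Or.inl (by simp))
    rcases K.conjS a ha with h | h | h | h
    · exact hN a (Or.inl h)
    · exact hN a (Or.inr h)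
    · simpa using mul_mem hg (hN _ (Or.inl h))
    · simpa using mul_mem hg (hN _ (Or.inr h))
  have hSN : (S : Subgroup G) ≤ normalizer (R : Set G) := by
    refine hSH.trans ((Subgroup.closure_le _).mpr ?_)
    rintro a (ha | ha)
    · rcases ha with rfl | rfl | rfl
      · exact K.normal_gen _ ⟨7, K.conj_u_uy⟩
      · exact K.normal_gen _ ⟨5, K.conj_q_uy hq hyq⟩
      · obtain ⟨e, -, he⟩ := K.conj_g_uy
        exact K.normal_gen _ ⟨e, he⟩
    · exact Subgroup.le_normalizer ha
  haveI : (R.subgroupOf (S : Subgroup G)).Normal :=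
    ⟨fun r hr a => (mem_normalizer_iff.mp (hSN a.2) (r : G)).mp hr⟩
  let π := QuotientGroup.mk' (R.subgroupOf (S : Subgroup G))
  have hπ : ∀ a : (S : Subgroup G), π a = 1 ↔ (a : G) ∈ R := fun a => by
    show (a : (S : Subgroup G) ⧸ R.subgroupOf (S : Subgroup G)) = 1 ↔ _
    rw [QuotientGroup.eq_one_iff, Subgroup.mem_subgroupOf]
  have hπe : ∀ (a b : (S : Subgroup G)), (a : G) * (b : G)⁻¹ ∈ R → π a = π b := fun a b hab => by
    refine mul_inv_eq_one.mp ?_
    rw [← map_inv, ← map_mul, hπ]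
    exact hab
  set uS : (S : Subgroup G) := ⟨u, huS⟩ with huS'
  set qS : (S : Subgroup G) := ⟨q, hqS⟩ with hqS'
  set gS : (S : Subgroup G) := ⟨g, K.g_S⟩ with hgS'
  -- the quotient is commutative
  have hgen : Subgroup.closure ({π uS, π qS, π gS} : Set _) = ⊤ := by
    set E := Subgroup.closure ({π uS, π qS, π gS} : Set _) with hE
    have hle : H ≤ ((Subgroup.comap π E).map (S : Subgroup G).subtype) := by
      refine (Subgroup.closure_le _).mpr ?_
      rintro a (ha | ha)
      · rcases ha with rfl | rfl | rfl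
        · exact ⟨uS, Subgroup.subset_closure (by simp), rfl⟩
        · exact ⟨qS, Subgroup.subset_closure (by simp), rfl⟩
        · exact ⟨gS, Subgroup.subset_closure (by simp), rfl⟩
      · exact ⟨⟨a, hRS ha⟩, show π ⟨a, hRS ha⟩ ∈ E by rw [(hπ _).mpr ha]; exact one_mem _, rfl⟩
    refine (Subgroup.eq_top_iff' _).mpr fun p => ?_
    obtain ⟨a, rfl⟩ := QuotientGroup.mk'_surjective _ p
    obtain ⟨b, hb, hba⟩ := hle (hSH a.2)
    rw [← show b = a from Subtype.ext hba]
    exact hb
  have hgu : g * u * g⁻¹ * u⁻¹ ∈ R := by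
    rw [← K.y_eq, inv_eq_of_mul_eq_one_left K.uu, ← K.uy_inv]
    exact inv_mem (Subgroup.mem_zpowers _)
  have hcomm : ∀ a b : (S : Subgroup G) ⧸ R.subgroupOf (S : Subgroup G), a * b = b * a := by
    refine comm_of_generators hgen ?_
    have huq : π uS * π qS = π qS * π uS := by
      rw [← map_mul, ← map_mul]
      exact congrArg π (Subtype.ext (K.comm u K.u_mem q (K.le_C hq)))
    have hug : π uS * π gS = π gS * π uS := by
      rw [← map_mul, ← map_mul]
      refine (hπe _ _ ?_).symm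
      show g * u * (u * g)⁻¹ ∈ R
      rwa [mul_inv_rev, ← mul_assoc]
    have hqg : π qS * π gS = π gS * π qS := by
      rw [← map_mul, ← map_mul]
      refine (hπe _ _ ?_).symm
      show g * q * (q * g)⁻¹ ∈ R
      rw [mul_inv_rev, ← mul_assoc]
      exact K.conj_g_q hq hqq hyq hmem
    rintro a (rfl | rfl | rfl) b (rfl | rfl | rfl) <;>
      first | rfl | assumption | exact huq.symm | exact hug.symm | exact hqg.symm
  set cS : (S : Subgroup G) := qS * qS with hcS
  have hc2 : π cS * π cS = 1 := by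
    rw [← map_mul, hπ]
    show q * q * (q * q) ∈ R
    rw [K.q_four hq hqq hyq hmem]
    exact one_mem R
  -- the square of `g`
  have hg2 : π gS * π gS = 1 ∨ π gS * π gS = π cS := by
    obtain ⟨r, hr, i, hi, j, hj, he⟩ := K.form hq hmem K.g_sq
    obtain ⟨e, hee, hge⟩ := K.conj_g_uy
    have h1 : g * g * (u * y) * (g * g)⁻¹ = u * y := by
      rw [show g * g * (u * y) * (g * g)⁻¹ = g * (g * (u * y) * g⁻¹) * g⁻¹ by group, hge,
        ← conj_pow, hge, ← pow_mul, K.pow_eq, hee, pow_one]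
    obtain ⟨k, -, rfl⟩ := K.mem_R hr
    have h2 : (u ^ i * q ^ j) * (u * y) * (u ^ i * q ^ j)⁻¹ = u * y := by
      have hc : Commute ((u * y) ^ k) (u * y) := (Commute.refl _).pow_left k
      rw [he, mul_inv_rev,
        show (u * y) ^ k * (u ^ i * q ^ j) * (u * y) * ((u ^ i * q ^ j)⁻¹ * ((u * y) ^ k)⁻¹) =
          (u * y) ^ k * ((u ^ i * q ^ j) * (u * y) * (u ^ i * q ^ j)⁻¹) * ((u * y) ^ k)⁻¹ by group,
        mul_inv_eq_iff_eq_mul, ← hc.eq] at h1
      exact mul_left_cancel h1
    have hu7 : ∀ (m n : ℕ), u ^ m * (u * y) ^ n * (u ^ m)⁻¹ = (u * y) ^ (7 ^ m * n) := by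
      intro m
      induction m with
      | zero => intro n; simp
      | succ m ih =>
        intro n
        rw [show u ^ (m + 1) * (u * y) ^ n * (u ^ (m + 1))⁻¹ =
          u ^ m * (u * (u * y) ^ n * u⁻¹) * (u ^ m)⁻¹ by rw [pow_succ]; group, ← conj_pow,
          K.conj_u_uy, ← pow_mul, ih, pow_succ, mul_assoc]
    have hq5 : ∀ (m n : ℕ), q ^ m * (u * y) ^ n * (q ^ m)⁻¹ = (u * y) ^ (5 ^ m * n) := by
      intro m
      induction m with
      | zero => intro n; simp
      | succ m ih =>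
        intro n
        rw [show q ^ (m + 1) * (u * y) ^ n * (q ^ (m + 1))⁻¹ =
          q ^ m * (q * (u * y) ^ n * q⁻¹) * (q ^ m)⁻¹ by rw [pow_succ]; group, ← conj_pow,
          K.conj_q_uy hq hyq, ← pow_mul, ih, pow_succ, mul_assoc]
    have h3 : (u * y) ^ (7 ^ i * 5 ^ j) = (u * y) ^ 1 := by
      rw [pow_one]
      rw [show u ^ i * q ^ j * (u * y) * (u ^ i * q ^ j)⁻¹ =
        u ^ i * (q ^ j * (u * y) * (q ^ j)⁻¹) * (u ^ i)⁻¹ by group] at h2
      have hqj := hq5 j 1
      rw [pow_one, mul_one] at hqj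
      rwa [hqj, hu7] at h2
    rw [pow_eq_pow_iff_modEq, K.orderOf_uy] at h3
    have hcases : i = 0 ∧ (j = 0 ∨ j = 2) := by
      unfold Nat.ModEq at h3
      interval_cases i <;> interval_cases j <;> simp_all
    have hrR : (u * y) ^ k ∈ R := Subgroup.npow_mem_zpowers _ _
    rw [← map_mul]
    rcases hcases with ⟨rfl, rfl | rfl⟩
    · left
      rw [hπ]
      show g * g ∈ R
      rw [he]; simpa using hrR
    · right
      refine hπe _ _ ?_
      show g * g * (q * q)⁻¹ ∈ R
      rw [he, pow_zero, one_mul, pow_two, mul_inv_cancel_right]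
      exact hrR
  let φ : ((S : Subgroup G) ⧸ R.subgroupOf (S : Subgroup G)) →*
      ((S : Subgroup G) ⧸ R.subgroupOf (S : Subgroup G)) :=
    MonoidHom.mk' (fun a => a * a) fun a b =>
      (show Commute b a from hcomm b a).mul_mul_mul_comm a b
  have hφ : ∀ a, φ a = 1 ∨ φ a = π cS := by
    let P : Subgroup ((S : Subgroup G) ⧸ R.subgroupOf (S : Subgroup G)) :=
      { carrier := {1, π cS}
        one_mem' := Or.inl rfl
        mul_mem' := by
          rintro a b (rfl | rfl) (rfl | rfl)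
          · exact Or.inl (one_mul 1)
          · exact Or.inr (one_mul _)
          · exact Or.inr (mul_one _)
          · exact Or.inl hc2
        inv_mem' := by
          rintro a (rfl | rfl)
          · exact Or.inl inv_one
          · exact Or.inr (inv_eq_of_mul_eq_one_right hc2) }
    have hle : (⊤ : Subgroup _) ≤ P.comap φ := hgen ▸ (Subgroup.closure_le _).mpr (by
      rintro a (rfl | rfl | rfl)
      · left
        show π uS * π uS = 1
        rw [← map_mul, hπ]
        show u * u ∈ R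
        rw [K.uu]; exact one_mem R
      · right
        show π qS * π qS = π cS
        rw [← map_mul, hcS]
      · exact hg2)
    exact fun a => hle (mem_top a)
  set M := ((φ.ker).comap π).map (S : Subgroup G).subtype with hM
  have hMmem : ∀ a : (S : Subgroup G), (a : G) ∈ M ↔ π a * π a = 1 := fun a =>
    ⟨fun ⟨b, hb, hba⟩ => (show b = a from Subtype.ext hba) ▸ hb, fun ha => ⟨a, ha, rfl⟩⟩
  have hqq1 : π cS ≠ 1 := fun h => K.qq_notR hq hqq hyq hmem ((hπ cS).mp h)
  refine ⟨R, M, q * q, z0, 1,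
    { eight := K.eight
      R_le := hRS
      z0_mem := K.z0_R
      z0_two := by
        haveI : Fact (Nat.Prime 2) := ⟨Nat.prime_two⟩
        exact orderOf_eq_prime (by rw [pow_two, K.zz]) K.z0_ne
      z0_central := ?_
      R_invol := ?_
      c_mem := mul_mem hqS hqS
      c_two := by
        haveI : Fact (Nat.Prime 2) := ⟨Nat.prime_two⟩
        exact orderOf_eq_prime (by rw [pow_two, K.q_four hq hqq hyq hmem]) hqq
      c_notMem := K.qq_notR hq hqq hyq hmem
      c_comm := K.qq_comm hq hqq hyq hmem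
      bad := K.bad _ (mul_mem hq hq)
      bad' := ?_
      M_le := Subgroup.map_subtype_le _
      M_index := ?_
      in_M := ?_
      not_M := ?_ }⟩
  · intro a ha
    have hle : (S : Subgroup G) ≤ centralizer ({z0} : Set G) := by
      refine hSH.trans ((Subgroup.closure_le _).mpr ?_)
      rintro b (hb | hb) <;> refine mem_centralizer_singleton_iff.mpr ?_
      · rcases hb with rfl | rfl | rfl
        · exact K.comm _ K.u_mem z0 K.z0_mem
        · exact K.comm _ (K.le_C hq) z0 K.z0_mem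
        · exact mul_inv_eq_iff_eq_mul.mp K.conj_g_z0
      · obtain ⟨k, -, rfl⟩ := K.mem_R hb
        rw [← K.uy_pow_four, ← pow_add, ← pow_add, add_comm]
    exact mem_centralizer_singleton_iff.mp (hle ha)
  · intro r hr hrr
    obtain ⟨k, hk, rfl⟩ := K.mem_R hr
    rw [← pow_add] at hrr
    have h3 := orderOf_dvd_of_pow_eq_one hrr
    rw [K.orderOf_uy] at h3
    have h4 : k = 0 ∨ k = 4 := by omega
    rcases h4 with rfl | rfl
    · exact Or.inl (pow_zero _)
    · exact Or.inr K.uy_pow_four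
  · intro hgood
    rw [← K.conj_g_c hq hqq hyq hmem] at hgood
    have h1 := hgood.conj g⁻¹
    rw [show g⁻¹ * (g * (q * q) * g⁻¹) * g⁻¹⁻¹ = q * q by group] at h1
    exact K.bad _ (mul_mem hq hq) h1
  · show (M.subgroupOf (S : Subgroup G)).index = 2
    rw [Subgroup.index_eq_two_iff]
    refine ⟨qS, fun b => ?_⟩
    simp only [Subgroup.mem_subgroupOf, hMmem, map_mul]
    rw [(show Commute (π qS) (π b) from hcomm _ _).mul_mul_mul_comm, ← map_mul π qS qS, ← hcS]
    rcases hφ (π b) with h | h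
    · have h' : π b * π b = 1 := h
      rw [h', one_mul]
      exact Or.inr ⟨rfl, hqq1⟩
    · have h' : π b * π b = π cS := h
      rw [h', hc2]
      exact Or.inl ⟨rfl, hqq1⟩
  · intro m hm
    have hmS : m ∈ (S : Subgroup G) := Subgroup.map_subtype_le _ hm
    have h := (hMmem ⟨m, hmS⟩).mp hm
    rw [← map_mul, hπ] at h
    rw [pow_one, pow_two]
    exact h
  · intro h hS hM'
    have h1 : π ⟨h, hS⟩ * π ⟨h, hS⟩ = π cS := by
      rcases hφ (π ⟨h, hS⟩) with h0 | h0
      · exact absurd ((hMmem ⟨h, hS⟩).mpr h0) hM'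
      · exact h0
    rw [← map_mul] at h1
    refine ⟨(q * q)⁻¹ * (h * h), ?_, by rw [pow_one, pow_two, mul_inv_cancel_left]⟩
    have h2 : π (cS⁻¹ * (⟨h, hS⟩ * ⟨h, hS⟩)) = 1 := by rw [map_mul, map_inv, h1, inv_mul_cancel]
    rw [hπ] at h2
    exact h2

end Cfg

end CfsgLib.ChainEight.Four

namespace CfsgLib.ChainEight

open Four

universe u

/-- `|C| = 4` leads to transfer data. -/
theorem four : FourStmt.{u} := by
  intro G _ _ S D T C x u s z0 h hC
  obtain ⟨g, y, t, K⟩ := exists_cfg h hC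
  obtain ⟨q, hq, hqq, hyq, hmem⟩ := K.exists_q hC
  exact K.data hq hqq hyq hmem

end CfsgLib.ChainEight
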