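import Cfsg.Agent.Lib.ChainEight.FourFrame

/-!
# The case `|C| = 4`: `C` is cyclic and `y` twists it
-/

set_option autoImplicit false
set_option linter.unusedSectionVars false

namespace CfsgLib.ChainEight.Four

open Subgroup

universe u

variable {G : Type u} [Group G] [Finite G] {S : Sylow 2 G} {D T C : Subgroup G} {x u z0 g y t : G}

namespace Cfg

variable (K : Cfg S D T C x u z0 g y t)
include K

theorem z0_ne : z0 ≠ 1 := fun h => K.z0_notMem (by rw [h]; exact one_mem C)

theorem tu : t * u = u * z0 * t := by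
  rw [← K.tut, mul_assoc (t * u), K.tt, mul_one]

theorem utu : u * t * u = t * z0 := by
  have h1 : u * t * u * t = z0 := by
    rw [show u * t * u * t = u * (t * u * t) by group, K.tut, ← mul_assoc, K.uu, one_mul]
  rw [K.z0_t, ← h1, mul_assoc (u * t * u), K.tt, mul_one]

theorem ut : u * t = t * u * z0 := by
  have h := congrArg (· * u) K.utu
  rw [mul_assoc _ u u, K.uu, mul_one] at h
  rw [h, mul_assoc t u, mul_assoc, K.comm u K.u_mem z0 K.z0_mem]

theorem yty : y * t * y = u := by
  rw [← K.yuy, show y * (y * u * y) * y = y * y * u * (y * y) by group, K.yy, one_mul, mul_one]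

theorem ut_sq : u * t * (u * t) = z0 := by
  rw [show u * t * (u * t) = u * (t * u * t) by group, K.tut, ← mul_assoc, K.uu, one_mul]

theorem yzy : y * z0 * y = z0 := by
  have h1 : y * (u * t * (u * t)) * y = t * u * (t * u) := by
    calc y * (u * t * (u * t)) * y
        = (y * u * y) * ((y * y)⁻¹ * (y * t * y)) * ((y * y)⁻¹ * (y * u * y)) *
            ((y * y)⁻¹ * (y * t * y)) := by group
      _ = _ := by simp only [K.yy, inv_one, one_mul]; rw [K.yuy, K.yty]; group
  rw [K.ut_sq, show t * u * (t * u) = (t * u * t) * u by group, K.tut] at h1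
  rw [h1, mul_assoc, ← K.comm u K.u_mem z0 K.z0_mem, ← mul_assoc, K.uu, one_mul]

theorem inZ_mem_D {w : G} (hw : InZ C z0 w) : w ∈ D := by
  rcases hw with hw | hw
  · exact K.le_C hw
  · rw [show w = z0⁻¹ * (z0 * w) by group]
    exact mul_mem (inv_mem K.z0_mem) (K.le_C hw)

theorem inZ_u {w : G} (hw : InZ C z0 w) : w * u = u * w :=
  K.comm w (K.inZ_mem_D hw) u K.u_mem

theorem inZ_t {w : G} (hw : InZ C z0 w) : w * t = t * w := by
  rcases hw with hw | hw
  · exact (K.C_t w hw).symm
  · rw [show w = z0⁻¹ * (z0 * w) by group]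
    exact (((show Commute z0 t from K.z0_t.symm).inv_left).mul_left
      (show Commute (z0 * w) t from (K.C_t _ hw).symm)).eq

theorem inZ_of_commute {a : G} (ha : a ∈ T) (hu : a * u = u * a) (ht : a * t = t * a) :
    InZ C z0 a := by
  have haD := K.cent_u a (K.T_le_S ha) hu
  rcases K.cases a haD with h | h
  · exact h
  · exfalso
    have h1 : Commute (u * a) t := K.inZ_t h
    have h2 := h1.mul_left (show Commute a t from ht).inv_left
    rw [mul_inv_cancel_right] at h2
    have h3 := K.tut
    rw [← h2.eq, mul_assoc, K.tt, mul_one] at h3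
    exact K.z0_ne (left_eq_mul.mp h3)

theorem yinv : y⁻¹ = y := inv_eq_of_mul_eq_one_left K.yy

theorem conj_y_mul (a b : G) : y * (a * b) * y = (y * a * y) * (y * b * y) := by
  rw [show y * a * y * (y * b * y) = y * a * (y * y) * b * y by group, K.yy, mul_one]; group

theorem inZ_conj_y {w : G} (hw : InZ C z0 w) : InZ C z0 (y * w * y) := by
  refine K.inZ_of_commute (K.T_conj w (K.le_T (K.inZ_mem_D hw))) ?_ ?_
  · rw [← K.yty, ← K.conj_y_mul, ← K.conj_y_mul, K.inZ_t hw]
  · rw [← K.yuy, ← K.conj_y_mul, ← K.conj_y_mul, K.inZ_u hw]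

/-- The elements of `T` fixed by `y`. -/
theorem fixed_cases {a : G} (ha : a ∈ T) (hay : a * y = y * a) :
    (InZ C z0 a ∧ y * a * y = a) ∨ ∃ w, InZ C z0 w ∧ a = t * u * w ∧ y * w * y = z0 * w := by
  have hfix : y * a * y = a := by rw [← hay, mul_assoc, K.yy, mul_one]
  rcases K.T_eq a ha with h1 | h1
  · rcases K.cases a h1 with h2 | h2
    · exact Or.inl ⟨h2, hfix⟩
    · exfalso
      refine K.t_notMem ?_
      have e : t = a * (y * (u * a) * y)⁻¹ := by
        rw [K.conj_y_mul, hfix, K.yuy, mul_inv_rev, mul_inv_cancel_left,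
          inv_eq_of_mul_eq_one_left K.tt]
      rw [e]
      exact mul_mem h1 (inv_mem (K.inZ_mem_D (K.inZ_conj_y h2)))
  · rcases K.cases _ h1 with h2 | h2
    · exfalso
      refine K.t_notMem ?_
      have hD : a ∈ D := by
        have e : y * (t * a) * y = u * a := by rw [K.conj_y_mul, hfix, K.yty]
        have h3 := K.inZ_mem_D (K.inZ_conj_y h2)
        rw [e] at h3
        simpa using mul_mem (inv_mem K.u_mem) h3
      simpa using mul_mem h1 (inv_mem hD)
    · refine Or.inr ⟨u * (t * a), h2, ?_, ?_⟩
      · rw [show t * u * (u * (t * a)) = t * (u * u) * t * a by group, K.uu, mul_one, K.tt, one_mul]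
      · rw [K.conj_y_mul, K.conj_y_mul, hfix, K.yuy, K.yty,
          show t * (u * a) = t * u * a by group, K.tu,
          show u * z0 * t * a = u * z0 * (t * a) by group, K.comm u K.u_mem z0 K.z0_mem]
        group

theorem exists_eq_zpow (w : G) (hw : InZ C z0 w) : ∃ c ∈ C, w = c ∨ w = z0 * c := by
  rcases hw with hw | hw
  · exact ⟨w, hw, Or.inl rfl⟩
  · exact ⟨z0 * w, hw, Or.inr (by rw [← mul_assoc, K.zz, one_mul])⟩

theorem inZ_mul {a b : G} (ha : InZ C z0 a) (hb : InZ C z0 b) : InZ C z0 (a * b) := by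
  have hc : a * z0 = z0 * a := K.comm a (K.inZ_mem_D ha) z0 K.z0_mem
  rcases ha with ha | ha <;> rcases hb with hb | hb
  · exact Or.inl (mul_mem ha hb)
  · refine Or.inr ?_
    rw [← mul_assoc, ← hc, mul_assoc]
    exact mul_mem ha hb
  · refine Or.inr ?_
    rw [← mul_assoc]
    exact mul_mem ha hb
  · refine Or.inl ?_
    have := mul_mem ha hb
    rwa [show z0 * a * (z0 * b) = z0 * (a * z0) * b by group, hc, ← mul_assoc z0 z0, K.zz,
      one_mul] at this

/-- Conjugates of `u` by elements of `T`. -/
theorem conj_u_T {a : G} (ha : a ∈ T) : a * u * a⁻¹ = u ∨ a * u * a⁻¹ = u * z0 := by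
  rcases K.T_eq a ha with h1 | h1
  · exact Or.inl (by rw [mul_inv_eq_iff_eq_mul]; exact K.comm a h1 u K.u_mem)
  · refine Or.inr ?_
    rw [mul_inv_eq_iff_eq_mul]
    calc a * u = t * t * a * u := by rw [K.tt, one_mul]
      _ = t * (t * a * u) := by group
      _ = t * (u * (t * a)) := by rw [K.comm _ h1 u K.u_mem]
      _ = u * z0 * t * (t * a) := by rw [← mul_assoc t u, K.tu]
      _ = u * z0 * a := by rw [mul_assoc (u * z0), ← mul_assoc t t, K.tt, one_mul]

/-- The image of `y` under `g`. -/
theorem conj_g_y : (g * g ∈ T ∧ (g * y * g⁻¹ = u ∨ g * y * g⁻¹ = u * z0)) ∨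
    (y * (g * g) ∈ T ∧ (g * y * g⁻¹ = t ∨ g * y * g⁻¹ = t * z0)) := by
  have e : g * y * g⁻¹ = g * g * u * (g * g)⁻¹ := by rw [K.y_eq]; group
  rcases K.g_sq with h | h
  · exact Or.inl ⟨h, by rw [e]; exact K.conj_u_T h⟩
  · refine Or.inr ⟨h, ?_⟩
    have e2 : g * y * g⁻¹ = y * (y * (g * g) * u * (y * (g * g))⁻¹) * y := by
      rw [e, mul_inv_rev y, K.yinv,
        show y * (y * (g * g) * u * ((g * g)⁻¹ * y)) * y =
          (y * y) * (g * g * u * (g * g)⁻¹) * (y * y) by group, K.yy, one_mul, mul_one]
    rcases K.conj_u_T h with h1 | h1 <;> rw [e2, h1]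
    · exact Or.inl K.yuy
    · exact Or.inr (by rw [K.conj_y_mul, K.yuy, K.yzy])

/-- An element of `T` commuting with `y` and its image under `g` is central in `T`. -/
theorem inZ_of_images {a : G} (ha : a ∈ (S : Subgroup G)) (h1 : a * y = y * a)
    (h2 : a * (g * y * g⁻¹) = g * y * g⁻¹ * a) : InZ C z0 a := by
  have hcy : ∀ b : G, a * b = b * a → a * (y * b * y) = y * b * y * a := fun b hb =>
    (((show Commute a y from h1).mul_right hb).mul_right h1).eq
  have hmem : a * u = u * a ∧ a * t = t * a := by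
    have key : ∀ p p' : G, a * p = p * a → a * p' = p' * a → p * p' * (p * p') = z0 →
        a * z0 = z0 * a := fun p p' hp hp' e => by
      rw [← e]
      exact ((((show Commute a p from hp).mul_right hp').mul_right
        ((show Commute a p from hp).mul_right hp'))).eq
    have hstrip : ∀ p : G, a * (p * z0) = p * z0 * a → a * z0 = z0 * a → a * p = p * a :=
      fun p hp hz => by
        have := (show Commute a (p * z0) from hp).mul_right hz
        rw [mul_assoc, K.zz, mul_one] at this
        exact this.eq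
    have hz2 : u * z0 * (t * z0) = u * t := by
      rw [K.z0_t, show u * z0 * (z0 * t) = u * (z0 * z0) * t by group, K.zz, mul_one]
    rcases K.conj_g_y with ⟨-, h | h⟩ | ⟨-, h | h⟩ <;> rw [h] at h2
    · have h3 := hcy _ h2
      rw [K.yuy] at h3
      exact ⟨h2, h3⟩
    · have h3 := hcy _ h2
      rw [K.conj_y_mul, K.yuy, K.yzy] at h3
      have hz := key _ _ h2 h3 (by rw [hz2]; exact K.ut_sq)
      exact ⟨hstrip _ h2 hz, hstrip _ h3 hz⟩
    · have h3 := hcy _ h2
      rw [K.yty] at h3
      exact ⟨h3, h2⟩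
    · have h3 := hcy _ h2
      rw [K.conj_y_mul, K.yty, K.yzy] at h3
      have hz := key _ _ h3 h2 (by rw [hz2]; exact K.ut_sq)
      exact ⟨hstrip _ h3 hz, hstrip _ h2 hz⟩
  exact K.inZ_of_commute (K.le_T (K.cent_u a ha hmem.1)) hmem.1 hmem.2

theorem inZ_conj_g {w : G} (hw : InZ C z0 w) (hy : y * w * y = w) :
    InZ C z0 (g * w * g⁻¹) ∧ g * w * g⁻¹ * y = y * (g * w * g⁻¹) := by
  have hwy : w * y = y * w := by
    calc w * y = y * w * y * y := by rw [hy]
      _ = y * w := by rw [mul_assoc, K.yy, mul_one]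
  have h1 : g * w * g⁻¹ * y = y * (g * w * g⁻¹) := by
    rw [K.y_eq, show g * w * g⁻¹ * (g * u * g⁻¹) = g * (w * u) * g⁻¹ by group, K.inZ_u hw]
    group
  refine ⟨K.inZ_of_images (mul_mem (mul_mem K.g_S (K.T_le_S (K.le_T (K.inZ_mem_D hw))))
    (inv_mem K.g_S)) h1 ?_, h1⟩
  rw [show g * w * g⁻¹ * (g * y * g⁻¹) = g * (w * y) * g⁻¹ by group, hwy]
  group

/-- An element of `C` fixed by `y` and `g` is trivial. -/
theorem eq_one_of_fixed {c : G} (hc : c ∈ C) (hy : y * c * y = c) (hg : g * c * g⁻¹ = c) :
    c = 1 := by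
  by_contra hne
  refine K.bad c hc (K.eight.good_central (K.T_le_S (K.le_T (K.le_C hc))) hne fun a ha => ?_)
  have hT : ∀ b ∈ T, Commute c b := fun b hb => by
    rcases K.T_eq b hb with h | h
    · exact K.comm c (K.le_C hc) b h
    · have := (show Commute c t from (K.C_t c hc).symm).inv_right.mul_right
        (K.comm c (K.le_C hc) _ h)
      rwa [inv_mul_cancel_left] at this
  have hcy : Commute c y := by
    show c * y = y * c
    calc c * y = y * c * y * y := by rw [hy]
      _ = y * c := by rw [mul_assoc, K.yy, mul_one]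
  have hcg : Commute c g := (mul_inv_eq_iff_eq_mul.mp hg).symm
  rcases K.conjS a ha with h | h | h | h
  · exact (hT a h).eq.symm
  · have := hcy.inv_right.mul_right (hT _ h)
    rw [inv_mul_cancel_left] at this
    exact this.eq.symm
  · have := hcg.mul_right (hT _ h)
    rw [mul_inv_cancel_left] at this
    exact this.eq.symm
  · have := hcg.mul_right (hcy.inv_right.mul_right (hT _ h))
    rw [inv_mul_cancel_left, mul_inv_cancel_left] at this
    exact this.eq.symm

theorem gz_aux {k : G} (hk : k ∈ C) (hfix : ∀ c ∈ C, y * c * y = c) :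
    InZ C z0 (k * (g * k * g⁻¹)) ∧
      g * (k * (g * k * g⁻¹)) * g⁻¹ = k * (g * k * g⁻¹) := by
  obtain ⟨h1, -⟩ := K.inZ_conj_g (Or.inl hk) (hfix k hk)
  refine ⟨K.inZ_mul (Or.inl hk) h1, ?_⟩
  have hk2 : g * g * k = k * (g * g) := by
    have hT : ∀ b ∈ T, Commute k b := fun b hb => by
      rcases K.T_eq b hb with h | h
      · exact K.comm k (K.le_C hk) b h
      · have := (show Commute k t from (K.C_t k hk).symm).inv_right.mul_right
          (K.comm k (K.le_C hk) _ h)
        rwa [inv_mul_cancel_left] at this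
    rcases K.g_sq with h | h
    · exact (hT _ h).eq.symm
    · have hky : Commute k y := by
        show k * y = y * k
        calc k * y = y * k * y * y := by rw [hfix k hk]
          _ = y * k := by rw [mul_assoc, K.yy, mul_one]
      have := hky.inv_right.mul_right (hT _ h)
      rw [inv_mul_cancel_left] at this
      exact this.eq.symm
  rw [show g * (k * (g * k * g⁻¹)) * g⁻¹ = (g * k * g⁻¹) * (g * g * k * (g * g)⁻¹) by group, hk2,
    mul_inv_cancel_right]
  exact (K.comm _ (K.inZ_mem_D h1) k (K.le_C hk))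

/-- `y` does not centralize `C`. -/
theorem not_all_fixed (hC : Nat.card C = 4) : ¬ ∀ c ∈ C, y * c * y = c := by
  intro hfix
  have hyz : ∀ w, InZ C z0 w → y * w * y = w := fun w hw => by
    obtain ⟨c, hc, rfl | rfl⟩ := K.exists_eq_zpow w hw
    · exact hfix _ hc
    · rw [K.conj_y_mul, K.yzy, hfix c hc]
  have hout : ∀ k ∈ C, k * k = 1 → k ≠ 1 → z0 * (k * (g * k * g⁻¹)) ∈ C := by
    intro k hk hkk hk1
    obtain ⟨h1, h2⟩ := K.gz_aux hk hfix
    refine h1.resolve_left fun hin => hk1 ?_
    have h3 := K.eq_one_of_fixed hin (hyz _ h1) h2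
    refine K.eq_one_of_fixed hk (hfix k hk) ?_
    calc g * k * g⁻¹ = k * k * (g * k * g⁻¹) := by rw [hkk, one_mul]
      _ = k * (k * (g * k * g⁻¹)) := by group
      _ = k := by rw [h3, mul_one]
  have hcomm : ∀ k ∈ C, ∀ l ∈ C, k * l * (g * (k * l) * g⁻¹) =
      (k * (g * k * g⁻¹)) * (l * (g * l * g⁻¹)) := fun k hk l hl => by
    have h1 := (K.inZ_conj_g (Or.inl hk) (hfix k hk)).1
    have h2 : l * (g * k * g⁻¹) = g * k * g⁻¹ * l := K.comm l (K.le_C hl) _ (K.inZ_mem_D h1)
    rw [show k * l * (g * (k * l) * g⁻¹) = k * (l * (g * k * g⁻¹)) * (g * l * g⁻¹) by group, h2]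
    group
  by_cases hel : ∀ k ∈ C, k * k = 1
  · obtain ⟨k1, hk1, hk1n⟩ : ∃ k ∈ C, k ≠ 1 := by
      by_contra hno
      push Not at hno
      rw [(Subgroup.eq_bot_iff_forall _).mpr hno, Subgroup.card_bot] at hC
      omega
    obtain ⟨k2, hk2, hk2n, hk21⟩ : ∃ k ∈ C, k ≠ 1 ∧ k ≠ k1 := by
      by_contra hno
      push Not at hno
      have hsub : (C : Set G) ⊆ {1, k1} := fun k hk => by
        by_cases hk0 : k = 1
        · exact Or.inl hk0
        · exact Or.inr (hno k hk hk0)
      have := (Set.ncard_le_ncard hsub).trans (Set.ncard_insert_le _ _)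
      rw [← Nat.card_coe_set_eq, Set.ncard_singleton] at this
      have h4 : Nat.card (C : Set G) = 4 := hC
      omega
    have hprod : k1 * k2 ≠ 1 := fun he => hk21 (by
      calc k2 = k1 * k1 * k2 := by rw [hel k1 hk1, one_mul]
        _ = k1 := by rw [mul_assoc, he, mul_one])
    have h3 := hout _ (mul_mem hk1 hk2) (hel _ (mul_mem hk1 hk2)) hprod
    rw [hcomm k1 hk1 k2 hk2] at h3
    have h1 := hout k1 hk1 (hel k1 hk1) hk1n
    have h2 := hout k2 hk2 (hel k2 hk2) hk2n
    set a := k1 * (g * k1 * g⁻¹) with ha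
    set b := k2 * (g * k2 * g⁻¹) with hb
    have ha' : a * z0 = z0 * a :=
      K.comm a (K.inZ_mem_D (Or.inr h1)) z0 K.z0_mem
    have h12 := mul_mem h1 h2
    rw [show z0 * a * (z0 * b) = z0 * (a * z0) * b by group, ha', ← mul_assoc z0 z0, K.zz,
      one_mul] at h12
    have := mul_mem h3 (inv_mem h12)
    rw [mul_inv_cancel_right] at this
    exact K.z0_notMem this
  · push Not at hel
    obtain ⟨q, hq, hqq⟩ := hel
    have hc4 : q * q * (q * q) = 1 := by
      have := congrArg Subtype.val (pow_card_eq_one' (x := (⟨q, hq⟩ : C)))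
      rw [hC] at this
      simpa [pow_succ, mul_assoc] using this
    have h3 := hout _ (mul_mem hq hq) hc4 hqq
    rw [hcomm q hq q hq] at h3
    set a := q * (g * q * g⁻¹) with ha
    have hin : a * a ∈ C := by
      rcases (K.gz_aux hq hfix).1 with h | h
      · exact mul_mem h h
      · have hc' : a * z0 = z0 * a := K.comm a (K.inZ_mem_D (Or.inr h)) z0 K.z0_mem
        have := mul_mem h h
        rwa [show z0 * a * (z0 * a) = z0 * (a * z0) * a by group, hc', ← mul_assoc z0 z0, K.zz,
          one_mul] at this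
    have := mul_mem h3 (inv_mem hin)
    rw [mul_inv_cancel_right] at this
    exact K.z0_notMem this

/-- `C` is cyclic, generated by an element that `y` multiplies by `z₀`. -/
theorem exists_q (hC : Nat.card C = 4) : ∃ q ∈ C, q * q ≠ 1 ∧ y * q * y = z0 * q ∧
    ∀ k ∈ C, k = 1 ∨ k = q ∨ k = q * q ∨ k = q * (q * q) := by
  classical
  have hlarge := K.large
  by_cases hel : ∀ k ∈ C, k * k = 1
  · exfalso
    apply K.not_all_fixed hC
    have hsub : (T ⊓ centralizer ({y} : Set G) : Subgroup G) ≤ D ⊓ centralizer ({t} : Set G) := by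
      intro a ha
      obtain ⟨haT, hay⟩ := ha
      rcases K.fixed_cases haT (mem_centralizer_singleton_iff.mp hay) with
        ⟨h1, -⟩ | ⟨w, hw, rfl, -⟩
      · exact ⟨K.inZ_mem_D h1, mem_centralizer_singleton_iff.mpr (K.inZ_t h1)⟩
      · exfalso
        have hz : InZ C z0 w → w * w = 1 := fun hw => by
          obtain ⟨c, hc, rfl | rfl⟩ := K.exists_eq_zpow w hw
          · exact hel _ hc
          · rw [show z0 * c * (z0 * c) = z0 * (c * z0) * c by group,
              K.comm c (K.le_C hc) z0 K.z0_mem, ← mul_assoc z0 z0, K.zz, one_mul, hel c hc]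
        have hA : g⁻¹ * (t * u * w) * g ∈ D := by
          refine K.cent_u _ (mul_mem (mul_mem (inv_mem K.g_S) (K.T_le_S haT)) K.g_S) ?_
          calc g⁻¹ * (t * u * w) * g * u = g⁻¹ * (t * u * w * y) * g := by rw [K.y_eq]; group
            _ = g⁻¹ * (y * (t * u * w)) * g := by rw [mem_centralizer_singleton_iff.mp hay]
            _ = u * (g⁻¹ * (t * u * w) * g) := by rw [K.y_eq]; group
        have hsq : ∀ d ∈ D, d * d = 1 := fun d hd => by
          rcases K.cases d hd with h1 | h1
          · obtain ⟨c, hc, rfl | rfl⟩ := K.exists_eq_zpow d h1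
            · exact hel _ hc
            · rw [show z0 * c * (z0 * c) = z0 * (c * z0) * c by group,
                K.comm c (K.le_C hc) z0 K.z0_mem, ← mul_assoc z0 z0, K.zz, one_mul, hel c hc]
          · calc d * d = (u * u) * (d * d) := by rw [K.uu, one_mul]
              _ = u * (u * d) * d := by group
              _ = u * (d * u) * d := by rw [K.comm u K.u_mem d hd]
              _ = u * d * (u * d) := by group
              _ = 1 := by
                obtain ⟨c, hc, he | he⟩ := K.exists_eq_zpow _ h1 <;> rw [he]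
                · exact hel _ hc
                · rw [show z0 * c * (z0 * c) = z0 * (c * z0) * c by group,
                    K.comm c (K.le_C hc) z0 K.z0_mem, ← mul_assoc z0 z0, K.zz, one_mul, hel c hc]
        have h2 : g⁻¹ * (t * u * w * (t * u * w)) * g = 1 := by rw [← hsq _ hA]; group
        have h3 : t * u * w * (t * u * w) = 1 := by
          calc t * u * w * (t * u * w) = g * (g⁻¹ * (t * u * w * (t * u * w)) * g) * g⁻¹ := by
                group
            _ = 1 := by rw [h2]; group
        have hc : Commute (t * u) w := (show Commute t w from (K.inZ_t hw).symm).mul_left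
          (K.inZ_u hw).symm
        rw [hc.symm.mul_mul_mul_comm, hz hw, mul_one,
          show t * u * (t * u) = (t * u * t) * u by group, K.tut, mul_assoc,
          ← K.comm u K.u_mem z0 K.z0_mem, ← mul_assoc, K.uu, one_mul] at h3
        exact K.z0_ne h3
    have hcardZ : Nat.card (D ⊓ centralizer ({t} : Set G) : Subgroup G) ≤ 8 := by
      let φ : Bool × C → (D ⊓ centralizer ({t} : Set G) : Subgroup G) := fun p =>
        if p.1 then ⟨z0 * p.2.1, mul_mem K.z0_mem (K.le_C p.2.2), mem_centralizer_singleton_iff.mpr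
            ((show Commute z0 t from K.z0_t.symm).mul_left
              (show Commute (p.2 : G) t from (K.C_t _ p.2.2).symm)).eq⟩
        else ⟨p.2.1, K.le_C p.2.2, mem_centralizer_singleton_iff.mpr (K.C_t _ p.2.2).symm⟩
      have hφ : Function.Surjective φ := by
        rintro ⟨a, ha⟩
        have h1 : InZ C z0 a := K.inZ_of_commute (K.le_T ha.1) (K.comm a ha.1 u K.u_mem)
          (mem_centralizer_singleton_iff.mp ha.2)
        rcases h1 with h1 | h1
        · exact ⟨(false, ⟨a, h1⟩), rfl⟩
        · exact ⟨(true, ⟨z0 * a, h1⟩),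
            Subtype.ext (show z0 * (z0 * a) = a by rw [← mul_assoc, K.zz, one_mul])⟩
      have := Nat.card_le_card_of_surjective φ hφ
      simpa [Nat.card_prod, hC] using this
    have heq := Subgroup.eq_of_le_of_card_ge hsub (hcardZ.trans hlarge)
    intro c hc
    have hmem : c ∈ T ⊓ centralizer ({y} : Set G) :=
      heq ▸ ⟨K.le_C hc, mem_centralizer_singleton_iff.mpr (K.C_t c hc).symm⟩
    rw [← mem_centralizer_singleton_iff.mp hmem.2, mul_assoc, K.yy, mul_one]
  · push Not at hel
    obtain ⟨q, hq, hqq⟩ := hel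
    have hq4 : q * q * (q * q) = 1 := by
      have := congrArg Subtype.val (pow_card_eq_one' (x := (⟨q, hq⟩ : C)))
      rw [hC] at this
      simpa [pow_succ, mul_assoc] using this
    have hmem : ∀ k ∈ C, k = 1 ∨ k = q ∨ k = q * q ∨ k = q * (q * q) := by
      intro k hk
      have ho : orderOf q = 2 ^ (1 + 1) :=
        haveI : Fact (Nat.Prime 2) := ⟨Nat.prime_two⟩
        orderOf_eq_prime_pow (by simpa [pow_two] using hqq)
          (by simpa [pow_succ, mul_assoc] using hq4)
      have hzp : Subgroup.zpowers q = C := Subgroup.eq_of_le_of_card_ge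
        (by rwa [Subgroup.zpowers_le]) (by rw [Nat.card_zpowers, ho, hC]; norm_num)
      rw [← hzp, mem_zpowers_iff_mem_range_orderOf, ho] at hk
      simp only [Finset.mem_image, Finset.mem_range] at hk
      obtain ⟨i, hi, rfl⟩ := hk
      interval_cases i <;> simp [pow_succ, mul_assoc]
    refine ⟨q, hq, hqq, ?_, hmem⟩
    have hw := K.inZ_conj_y (Or.inl hq)
    have hsq : y * (q * q) * y = (y * q * y) * (y * q * y) := K.conj_y_mul q q
    have hq1 : q ≠ 1 := fun h => hqq (by rw [h, one_mul])
    have hz0q : ∀ a, a ∈ C → z0 * a ≠ a := fun a _ h => K.z0_ne (mul_eq_right.mp h)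
    have hcq : q * z0 = z0 * q := K.comm q (K.le_C hq) z0 K.z0_mem
    have hcc : q * q * z0 = z0 * (q * q) := by rw [mul_assoc, hcq, ← mul_assoc, hcq, mul_assoc]
    have bad4 : ∀ r : G, y * q * y = r → r * r = q * q →
        (r = q * (q * q) ∨ r = z0 * (q * (q * q))) → False := by
      intro r hr hrr hr'
      have hyc : y * (q * q) * y = q * q := by rw [hsq, hr, hrr]
      have hsub : ((T ⊓ centralizer ({y} : Set G) : Subgroup G) : Set G) ⊆
          {1, q * q, z0, z0 * (q * q)} := by
        intro a ha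
        obtain ⟨haT, hay⟩ := ha
        have hne : ∀ k ∈ C, ∀ k' ∈ C, z0 * k ≠ k' := fun k hk k' hk' he =>
          K.z0_notMem (by rw [show z0 = k' * k⁻¹ from eq_mul_inv_of_mul_eq he]
                          exact mul_mem hk' (inv_mem hk))
        have hq3 : q * (q * q) ∈ C := mul_mem hq (mul_mem hq hq)
        have hy3 : y * (q * (q * q)) * y = r * (q * q) := by rw [K.conj_y_mul, hr, hyc]
        have hr3 : q * (q * q) * (q * q) = q := by rw [mul_assoc, hq4, mul_one]
        have hval : ∀ k ∈ C, (y * k * y = k → k = 1 ∨ k = q * q) ∧ (y * k * y ≠ z0 * k) := by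
          intro k hk
          rcases hmem k hk with rfl | rfl | rfl | rfl
          · refine ⟨fun _ => Or.inl rfl, ?_⟩
            rw [mul_one, K.yy, mul_one]
            exact fun he => K.z0_ne he.symm
          · rw [hr]
            rcases hr' with rfl | rfl
            · exact ⟨fun he => absurd (mul_eq_left.mp he) hqq, fun he => hne _ hq _ hq3 he.symm⟩
            · refine ⟨fun he => absurd he (hne _ hq3 _ hq), fun he => hqq ?_⟩
              exact mul_eq_left.mp (mul_left_cancel he)
          · refine ⟨fun _ => Or.inr rfl, ?_⟩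
            rw [hyc]
            exact fun he => hz0q _ (mul_mem hq hq) he.symm
          · rw [hy3]
            rcases hr' with rfl | rfl
            · rw [hr3]
              exact ⟨fun he => absurd (mul_eq_left.mp he.symm) hqq,
                fun he => hne _ hq3 _ hq he.symm⟩
            · rw [show z0 * (q * (q * q)) * (q * q) = z0 * (q * (q * q) * (q * q)) by group, hr3]
              refine ⟨fun he => absurd he (hne _ hq _ hq3), fun he => hqq ?_⟩
              exact mul_eq_left.mp (mul_left_cancel he).symm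
        rcases K.fixed_cases haT (mem_centralizer_singleton_iff.mp hay) with
          ⟨h1, h2⟩ | ⟨w, hw, -, h2⟩
        · obtain ⟨k, hk, rfl | rfl⟩ := K.exists_eq_zpow a h1
          · rcases (hval _ hk).1 h2 with rfl | rfl <;> simp
          · rw [K.conj_y_mul, K.yzy] at h2
            rcases (hval _ hk).1 (mul_left_cancel h2) with rfl | rfl <;> simp
        · exfalso
          obtain ⟨k, hk, rfl | rfl⟩ := K.exists_eq_zpow w hw
          · exact (hval _ hk).2 h2
          · rw [K.conj_y_mul, K.yzy] at h2
            exact (hval _ hk).2 (mul_left_cancel h2)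
      have h1 := Set.ncard_le_ncard hsub
      have h2 : ({1, q * q, z0, z0 * (q * q)} : Set G).ncard ≤ 4 := by
        refine (Set.ncard_insert_le _ _).trans ?_
        refine Nat.succ_le_succ ((Set.ncard_insert_le _ _).trans ?_)
        refine Nat.succ_le_succ ((Set.ncard_insert_le _ _).trans ?_)
        rw [Set.ncard_singleton]
      rw [← Nat.card_coe_set_eq] at h1
      have h3 : 8 ≤ Nat.card ((T ⊓ centralizer ({y} : Set G) : Subgroup G) : Set G) := hlarge
      omega
    have hyq : ∀ r, y * q * y = r → r * r = 1 → False := fun r hr hrr => hqq (by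
      have : y * (q * q) * y = 1 := by rw [hsq, hr, hrr]
      calc q * q = (y * y) * (q * q) * (y * y) := by rw [K.yy, one_mul, mul_one]
        _ = y * (y * (q * q) * y) * y := by group
        _ = 1 := by rw [this, mul_one, K.yy])
    obtain ⟨k, hk, he | he⟩ := K.exists_eq_zpow _ hw
    · rcases hmem k hk with rfl | rfl | rfl | rfl
      · exact (hyq _ he (one_mul 1)).elim
      · exfalso
        apply K.not_all_fixed hC
        intro c hc
        rcases hmem c hc with rfl | rfl | rfl | rfl
        · rw [mul_one, K.yy]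
        · exact he
        · rw [hsq, he]
        · rw [K.conj_y_mul, hsq, he]
      · exact (hyq _ he hq4).elim
      · refine (bad4 _ he ?_ (Or.inl rfl)).elim
        rw [show q * (q * q) * (q * (q * q)) = q * q * (q * q) * (q * q) by group, hq4, one_mul]
    · rcases hmem k hk with rfl | rfl | rfl | rfl
      · exact (hyq _ he (by rw [mul_one, K.zz])).elim
      · exact he
      · refine (hyq _ he ?_).elim
        rw [(show Commute (q * q) z0 from hcc).mul_mul_mul_comm, K.zz, hq4, one_mul]
      · refine (bad4 _ he ?_ (Or.inr rfl)).elim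
        rw [((show Commute q z0 from hcq).mul_left hcc).mul_mul_mul_comm, K.zz, one_mul,
          show q * (q * q) * (q * (q * q)) = q * q * (q * q) * (q * q) by group, hq4, one_mul]

end Cfg

end CfsgLib.ChainEight.Four
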