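import Cfsg.Agent.Lib.ChainEight.Basic

/-!
# The case `|C| = 4`: the normalizer of `T` in `S`
-/

set_option autoImplicit false
set_option linter.unusedSectionVars false

namespace CfsgLib.ChainEight.Four

open Subgroup

universe u

variable {G : Type u} [Group G] [Finite G] {S : Sylow 2 G} {D T C : Subgroup G} {x u s z0 : G}

/-- The elements of the centre of `T`. -/
def InZ (C : Subgroup G) (z0 w : G) : Prop := w ∈ C ∨ z0 * w ∈ C

theorem conj_eq_self_of_mul_self {a b : G} (ha : a * a = 1) : a * b * a = a * b * a⁻¹ := by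
  rw [inv_eq_of_mul_eq_one_left ha]

section
variable (h : Par S D T C x u s z0) (hC : Nat.card C = 4)
include h

theorem uu : u * u = 1 := by rw [← sq, ← h.u_two, pow_orderOf_eq_one]

theorem ss : s * s = 1 := by rw [← sq, ← h.s_two, pow_orderOf_eq_one]

theorem zz : z0 * z0 = 1 := by rw [← sq, ← h.z0_two, pow_orderOf_eq_one]

theorem sus : s * u * s = u * z0 := by
  rw [h.z0_eq, show u * (u * s * (u * s)) = u * u * (s * u * s) by group, uu h, one_mul]

theorem sz0 : s * z0 = z0 * s := by
  have h1 : s * (u * z0) * s = u := by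
    rw [← sus h, show s * (s * u * s) * s = s * s * u * (s * s) by group, ss h, one_mul, mul_one]
  rw [← mul_assoc, show s * u * z0 * s = s * u * s * (s⁻¹ * z0 * s) by group, sus h,
    mul_assoc] at h1
  have h2 : z0 * (s⁻¹ * z0 * s) = 1 := by simpa using h1
  have h3 : s⁻¹ * z0 * s = z0 := by
    rw [← inv_eq_of_mul_eq_one_right (zz h)]
    nth_rewrite 1 [inv_eq_of_mul_eq_one_right (zz h)]
    exact (inv_eq_of_mul_eq_one_right h2).symm
  calc s * z0 = s * (s⁻¹ * z0 * s) := by rw [h3]
    _ = z0 * s := by group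

theorem InZ.mem_D {w : G} (hw : InZ C z0 w) : w ∈ D := by
  rcases hw with hw | hw
  · exact h.le_C hw
  · rw [show w = z0⁻¹ * (z0 * w) by group]
    exact mul_mem (inv_mem h.z0_mem) (h.le_C hw)

theorem InZ.commute_s {w : G} (hw : InZ C z0 w) : s * w = w * s := by
  rcases hw with hw | hw
  · exact h.C_s w hw
  · rw [show w = z0⁻¹ * (z0 * w) by group]
    exact (((show Commute s z0 from sz0 h).inv_right).mul_right (h.C_s _ hw)).eq

theorem InZ.commute {w : G} (hw : InZ C z0 w) {a : G} (ha : a ∈ T) : a * w = w * a := by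
  rcases h.T_eq a ha with h1 | h1
  · exact h.comm a h1 w (InZ.mem_D h hw)
  · rw [show a = s⁻¹ * (s * a) by group]
    exact (((show Commute s w from InZ.commute_s h hw).inv_left).mul_left
      (h.comm _ h1 w (InZ.mem_D h hw))).eq

theorem cases_D {d : G} (hd : d ∈ D) : InZ C z0 d ∨ InZ C z0 (u * d) := by
  obtain ⟨c, hc, rfl | rfl | rfl | rfl⟩ := h.decomp d hd
  · exact Or.inl (Or.inl hc)
  · exact Or.inr (Or.inl (by rwa [← mul_assoc, uu h, one_mul]))
  · exact Or.inl (Or.inr (by rwa [← mul_assoc, zz h, one_mul]))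
  · refine Or.inr (Or.inr ?_)
    rw [show z0 * (u * (u * z0 * c)) = z0 * ((u * u) * z0) * c by group, uu h, one_mul, zz h,
      one_mul]
    exact hc

theorem not_both {d : G} (hd : InZ C z0 d) : ¬ InZ C z0 (u * d) := by
  intro h2
  have hdD := InZ.mem_D h hd
  have hud := InZ.mem_D h h2
  rcases hd with h1 | h1 <;> rcases h2 with h3 | h3
  · exact h.u_notMem (by simpa using mul_mem h3 (inv_mem h1))
  · refine h.uz0_notMem ?_
    rw [h.comm u h.u_mem z0 h.z0_mem]
    simpa [mul_assoc] using mul_mem h3 (inv_mem h1)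
  · refine h.uz0_notMem ?_
    have h4 := mul_mem h3 (inv_mem h1)
    rw [show u * d * (z0 * d)⁻¹ = u * z0⁻¹ by group,
      inv_eq_of_mul_eq_one_left (zz h)] at h4
    exact h4
  · refine h.u_notMem ?_
    have h4 := mul_mem h3 (inv_mem h1)
    rw [show z0 * (u * d) * (z0 * d)⁻¹ = z0 * u * z0⁻¹ by group, ← h.comm u h.u_mem z0 h.z0_mem,
      mul_inv_cancel_right] at h4
    exact h4

/-- An element of `D` commuting with `s` is central in `T`. -/
theorem inZ_of_commute {d : G} (hd : d ∈ D) (hsd : s * d = d * s) : InZ C z0 d := by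
  rcases cases_D h hd with h1 | h1
  · exact h1
  · exfalso
    have h2 := InZ.commute_s h h1
    have h3 : s * u = u * s := by
      have := congrArg (· * d⁻¹) h2
      rw [← mul_assoc s u d, mul_assoc u d s, ← hsd] at this
      simpa [mul_assoc] using this
    have h4 : u = u * z0 := by rw [← sus h, h3, mul_assoc, ss h, mul_one]
    exact h.z0_notMem (by rw [left_eq_mul.mp h4]; exact one_mem _)

/-- An involution of `T` outside `D` lies in `s` times the centre. -/
theorem invol_T {v : G} (hv : v ∈ T) (hvD : v ∉ D) (hvv : v * v = 1) :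
    ∃ w, InZ C z0 w ∧ v = s * w ∧ w * w = 1 := by
  have hd := (h.T_eq v hv).resolve_left hvD
  have hv' : v = s * (s * v) := by rw [← mul_assoc, ss h, one_mul]
  have hw : InZ C z0 (s * v) := by
    rcases cases_D h hd with h1 | h1
    · exact h1
    · exfalso
      set w := u * (s * v) with hw
      have hvw : v = s * u * w := by
        rw [hw, show s * u * (u * (s * v)) = s * (u * u) * s * v by group, uu h, mul_one, ss h,
          one_mul]
      have hsu2 : s * u * (s * u) = z0 := by
        rw [← mul_assoc, sus h, mul_assoc, ← h.comm u h.u_mem z0 h.z0_mem, ← mul_assoc, uu h,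
          one_mul]
      have hc : Commute w (s * u) :=
        ((show Commute s w from InZ.commute_s h h1).mul_left
          (h.comm u h.u_mem w (InZ.mem_D h h1))).symm
      have h2 : z0 * (w * w) = 1 := by
        rw [← hsu2, show s * u * (s * u) * (w * w) = s * u * ((s * u) * w) * w by group, ← hc.eq,
          show s * u * (w * (s * u)) * w = s * u * w * (s * u * w) by group, ← hvw, hvv]
      have hww : w * w ∈ C := by
        rcases h1 with h1 | h1
        · exact mul_mem h1 h1
        · have h3 := mul_mem h1 h1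
          have hc' : w * z0 = z0 * w := h.comm w (InZ.mem_D h (Or.inr h1)) z0 h.z0_mem
          rwa [show z0 * w * (z0 * w) = z0 * (w * z0) * w by group, hc',
            show z0 * (z0 * w) * w = z0 * z0 * (w * w) by group, zz h, one_mul] at h3
      exact h.z0_notMem (by rw [eq_inv_of_mul_eq_one_left h2]; exact inv_mem hww)
  refine ⟨s * v, hw, hv', ?_⟩
  have hc : Commute s (s * v) := InZ.commute_s h hw
  generalize s * v = w at hv' hc ⊢
  rwa [hv', hc.symm.mul_mul_mul_comm, ss h, one_mul] at hvv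

include hC in
theorem card_T : Nat.card T = 32 := by
  rw [h.card_T, h.card_D, hC]

include hC in
theorem card_D : Nat.card D = 16 := by
  rw [h.card_D, hC]

/-- The centralizer of `s` in `T`. -/
theorem card_Cs (hC : Nat.card C = 4) :
    Nat.card (T ⊓ centralizer ({s} : Set G) : Subgroup G) ≤ 16 := by
  have h1 : Nat.card (T ⊓ centralizer ({s} : Set G) : Subgroup G) ∣ 32 :=
    card_T h hC ▸ Subgroup.card_dvd_of_le inf_le_left
  have h2 : (T ⊓ centralizer ({s} : Set G) : Subgroup G) ≠ T := by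
    intro he
    have hu : u ∈ T ⊓ centralizer ({s} : Set G) := he.symm ▸ h.le_T h.u_mem
    exact not_both h (Or.inl (one_mem C)) (by
      rw [mul_one]
      exact inZ_of_commute h h.u_mem (mem_centralizer_singleton_iff.mp hu.2).symm)
  have h3 : Nat.card (T ⊓ centralizer ({s} : Set G) : Subgroup G) ≠ 32 := fun he =>
    h2 (Subgroup.eq_of_le_of_card_ge inf_le_left (by rw [he, card_T h hC]))
  obtain ⟨k, hk, hk'⟩ := (Nat.dvd_prime_pow Nat.prime_two).mp (show _ ∣ 2 ^ 5 from h1)
  rw [hk'] at h3 ⊢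
  interval_cases k <;> simp_all

theorem u_not_inZ : ¬ InZ C z0 u := fun hu =>
  not_both h (Or.inl (one_mem C)) (by rwa [mul_one])

/-- An element of `S` outside `T` normalizing `T` moves `D` to the centralizer of `s`. -/
theorem key (hC : Nat.card C = 4) {n : G} (hn : n ∈ (S : Subgroup G)) (hnT : n ∉ T)
    (hnorm : n ∈ normalizer (T : Set G)) :
    (∃ w, InZ C z0 w ∧ n * u * n⁻¹ = s * w ∧ w * w = 1) ∧
      D.map (MulAut.conj n).toMonoidHom = T ⊓ centralizer ({s} : Set G) := by
  have hmapT : ∀ d ∈ D, n * d * n⁻¹ ∈ T := fun d hd =>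
    (mem_normalizer_iff.mp hnorm d).mp (h.le_T hd)
  have hcard : Nat.card (D.map (MulAut.conj n).toMonoidHom) = 16 := by
    rw [Subgroup.card_map_of_injective (MulAut.conj n).injective, card_D h hC]
  have hcomm : ∀ d ∈ D, (n * d * n⁻¹) * (n * u * n⁻¹) = (n * u * n⁻¹) * (n * d * n⁻¹) :=
    fun d hd => by
      rw [show n * d * n⁻¹ * (n * u * n⁻¹) = n * (d * u) * n⁻¹ by group,
        h.comm d hd u h.u_mem]
      group
  have hvD : n * u * n⁻¹ ∉ D := by
    intro hv
    by_cases hz : InZ C z0 (n * u * n⁻¹)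
    · refine u_not_inZ h (inZ_of_commute h h.u_mem ?_)
      have h1 := InZ.commute h hz ((mem_normalizer_iff.mp hnorm s).mp h.s_mem)
      calc s * u = n⁻¹ * (n * s * n⁻¹ * (n * u * n⁻¹)) * n := by group
        _ = u * s := by rw [h1]; group
    · have hle : D.map (MulAut.conj n).toMonoidHom ≤ D := by
        rintro _ ⟨d, hd, rfl⟩
        show n * d * n⁻¹ ∈ D
        rcases h.T_eq _ (hmapT d hd) with h1 | h1
        · exact h1
        · exfalso
          refine hz (inZ_of_commute h hv ?_)
          have hc : Commute (s * (n * d * n⁻¹)) (n * u * n⁻¹) := h.comm _ h1 _ hv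
          have := hc.mul_left (show Commute (n * d * n⁻¹) (n * u * n⁻¹) from hcomm d hd).inv_left
          rwa [mul_inv_cancel_right] at this
      have heq := Subgroup.eq_of_le_of_card_ge hle (by rw [hcard, card_D h hC])
      refine hnT (h.toLoc.mem_T hn (mem_normalizer_iff.mpr fun d => ?_))
      conv_rhs => rw [← heq]
      exact (Subgroup.mem_map_iff_mem (f := (MulAut.conj n).toMonoidHom)
        (MulAut.conj n).injective).symm
  have hv2 : n * u * n⁻¹ * (n * u * n⁻¹) = 1 := by
    rw [show n * u * n⁻¹ * (n * u * n⁻¹) = n * (u * u) * n⁻¹ by group, uu h]; group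
  obtain ⟨w, hw, hvw, hw2⟩ := invol_T h (hmapT u h.u_mem) hvD hv2
  refine ⟨⟨w, hw, hvw, hw2⟩, Subgroup.eq_of_le_of_card_ge ?_ (hcard ▸ card_Cs h hC)⟩
  rintro _ ⟨d, hd, rfl⟩
  refine ⟨hmapT d hd, mem_centralizer_singleton_iff.mpr ?_⟩
  show n * d * n⁻¹ * s = s * (n * d * n⁻¹)
  have h1 : Commute (n * d * n⁻¹) (n * u * n⁻¹) := hcomm d hd
  rw [hvw] at h1
  have := h1.mul_right (show Commute (n * d * n⁻¹) w from InZ.commute h hw (hmapT d hd)).inv_right
  rwa [mul_inv_cancel_right] at this

theorem inv_mul_mem_T (hC : Nat.card C = 4) {a b : G} (ha : a ∈ (S : Subgroup G)) (haT : a ∉ T)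
    (hna : a ∈ normalizer (T : Set G)) (hb : b ∈ (S : Subgroup G)) (hbT : b ∉ T)
    (hnb : b ∈ normalizer (T : Set G)) : a⁻¹ * b ∈ T := by
  refine h.toLoc.mem_T (mul_mem (inv_mem ha) hb) (mem_normalizer_iff.mpr fun d => ?_)
  have e : D.map (MulAut.conj a).toMonoidHom = D.map (MulAut.conj b).toMonoidHom :=
    (key h hC ha haT hna).2.trans (key h hC hb hbT hnb).2.symm
  constructor
  · intro hd
    have : b * d * b⁻¹ ∈ D.map (MulAut.conj a).toMonoidHom := e ▸ ⟨d, hd, rfl⟩
    obtain ⟨d', hd', he⟩ := this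
    have he' : a * d' * a⁻¹ = b * d * b⁻¹ := he
    rw [show a⁻¹ * b * d * (a⁻¹ * b)⁻¹ = a⁻¹ * (b * d * b⁻¹) * a by group, ← he']
    simpa [mul_assoc] using hd'
  · intro hd
    have : a * (a⁻¹ * b * d * (a⁻¹ * b)⁻¹) * a⁻¹ ∈ D.map (MulAut.conj b).toMonoidHom :=
      e ▸ ⟨_, hd, rfl⟩
    obtain ⟨d', hd', he⟩ := this
    have he' : b * d' * b⁻¹ = a * (a⁻¹ * b * d * (a⁻¹ * b)⁻¹) * a⁻¹ := he
    rw [show a * (a⁻¹ * b * d * (a⁻¹ * b)⁻¹) * a⁻¹ = b * d * b⁻¹ by group] at he'
    rwa [← mul_left_cancel (mul_right_cancel he')]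

end

/-- The configuration: `y = g u g⁻¹` lies outside `T` and swaps `u` and `t`. -/
structure Cfg (S : Sylow 2 G) (D T C : Subgroup G) (x u z0 g y t : G) : Prop where
  eight : Eight G
  g_S : g ∈ (S : Subgroup G)
  y_eq : y = g * u * g⁻¹
  y_S : y ∈ (S : Subgroup G)
  y_notT : y ∉ T
  yy : y * y = 1
  uu : u * u = 1
  tt : t * t = 1
  zz : z0 * z0 = 1
  le_T : D ≤ T
  T_le_S : T ≤ (S : Subgroup G)
  le_C : C ≤ D
  comm : ∀ a ∈ D, ∀ b ∈ D, a * b = b * a
  u_mem : u ∈ D
  z0_mem : z0 ∈ D
  t_mem : t ∈ T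
  t_notMem : t ∉ D
  yuy : y * u * y = t
  tut : t * u * t = u * z0
  C_t : ∀ c ∈ C, t * c = c * t
  z0_t : t * z0 = z0 * t
  cases : ∀ d ∈ D, InZ C z0 d ∨ InZ C z0 (u * d)
  T_eq : ∀ a ∈ T, a ∈ D ∨ t * a ∈ D
  z0_notMem : z0 ∉ C
  u_notMem : ¬ InZ C z0 u
  T_conj : ∀ a ∈ T, y * a * y ∈ T
  cent_u : ∀ a ∈ (S : Subgroup G), a * u = u * a → a ∈ D
  conjS : ∀ a ∈ (S : Subgroup G), a ∈ T ∨ y * a ∈ T ∨ g⁻¹ * a ∈ T ∨ y * (g⁻¹ * a) ∈ T
  normal_N : ∀ a ∈ T, g * a * g⁻¹ ∈ T ∨ y * (g * a * g⁻¹) ∈ T
  g_sq : g * g ∈ T ∨ y * (g * g) ∈ T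
  g_y : g * y * g⁻¹ ∈ T ∨ y * (g * y * g⁻¹) ∈ T
  bad : ∀ c ∈ C, ¬ Good c
  large : 8 ≤ Nat.card (T ⊓ centralizer ({y} : Set G) : Subgroup G)

theorem exists_cfg (h : Par S D T C x u s z0) (hC : Nat.card C = 4) :
    ∃ g y t, Cfg S D T C x u z0 g y t := by
  classical
  obtain ⟨n0, hn0, hn0T, -, hn0N⟩ := h.toLoc.exists_g
  set N : Subgroup G := (S : Subgroup G) ⊓ normalizer (T : Set G) with hN
  have hTN : T ≤ N := le_inf h.le_S (fun a ha => mem_normalizer_iff.mpr fun b =>
    ⟨fun hb => mul_mem (mul_mem ha hb) (inv_mem ha), fun hb => by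
      simpa [mul_assoc] using mul_mem (mul_mem (inv_mem ha) hb) ha⟩)
  have hNcases : ∀ a ∈ N, a ∈ T ∨ n0⁻¹ * a ∈ T := fun a ha => by
    by_cases haT : a ∈ T
    · exact Or.inl haT
    · exact Or.inr (inv_mul_mem_T h hC hn0 hn0T hn0N ha.1 haT ha.2)
  have hNle : Nat.card N ≤ 2 * Nat.card T := by
    let φ : N → Bool × T := fun a =>
      if ha : (a : G) ∈ T then (true, ⟨a, ha⟩)
      else (false, ⟨n0⁻¹ * a, (hNcases a a.2).resolve_left ha⟩)
    have hφ : Function.Injective φ := by
      intro a b hab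
      simp only [φ] at hab
      split at hab <;> split at hab <;> simp_all
    have := Nat.card_le_card_of_injective φ hφ
    simpa [Nat.card_prod] using this
  have hSc := h.eight.card_syl S
  have hN64 : Nat.card N = 64 := by
    have h1 : Nat.card N ∣ 2 ^ 7 :=
      (show (2 : ℕ) ^ 7 = 128 from rfl) ▸ hSc ▸ Subgroup.card_dvd_of_le inf_le_left
    obtain ⟨k, hk, hk'⟩ := (Nat.dvd_prime_pow Nat.prime_two).mp h1
    have h2 : 32 < Nat.card N := by
      rw [← card_T h hC]
      refine lt_of_le_of_ne (Subgroup.card_le_of_le hTN) fun he => hn0T ?_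
      rw [Subgroup.eq_of_le_of_card_ge hTN he.ge]
      exact ⟨hn0, hn0N⟩
    rw [card_T h hC] at hNle
    rw [hk'] at h2 hNle ⊢
    interval_cases k <;> simp_all
  have hidx : (N.subgroupOf (S : Subgroup G)).index = 2 := by
    have h1 := Subgroup.card_mul_index (N.subgroupOf (S : Subgroup G))
    rw [Nat.card_congr (Subgroup.subgroupOfEquivOfLe (inf_le_left : N ≤ (S : Subgroup G))).toEquiv,
      hN64, hSc] at h1
    omega
  have hmul : ∀ a ∈ (S : Subgroup G), ∀ b ∈ (S : Subgroup G), (a * b ∈ N ↔ (a ∈ N ↔ b ∈ N)) :=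
    fun a ha b hb => Subgroup.mul_mem_iff_of_index_two hidx (a := ⟨a, ha⟩) (b := ⟨b, hb⟩)
  obtain ⟨g, hg, hgN⟩ : ∃ g ∈ (S : Subgroup G), g ∉ N := by
    by_contra hno
    push Not at hno
    have := Subgroup.card_le_of_le (show (S : Subgroup G) ≤ N from hno)
    omega
  have hgi : g⁻¹ ∉ N := fun hm => hgN (by simpa using inv_mem hm)
  have hconjN : ∀ a ∈ N, g * a * g⁻¹ ∈ N := fun a ha => by
    have h1 := hmul g hg a ha.1
    rw [hmul (g * a) (mul_mem hg ha.1) g⁻¹ (inv_mem hg), h1]
    simp [hgN, hgi, ha]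
  set y := g * u * g⁻¹ with hy
  have huN : u ∈ N := hTN (h.le_T h.u_mem)
  have hyN : y ∈ N := hconjN u huN
  have hcentu : ∀ a ∈ (S : Subgroup G), a * u = u * a → a ∈ D := fun a ha hau =>
    h.cent_u 1 (one_mem C) a ha (by rwa [mul_one])
  have hcenty : ∀ a ∈ (S : Subgroup G), a * y = y * a → g⁻¹ * a * g ∈ D := fun a ha hay => by
    refine hcentu _ (mul_mem (mul_mem (inv_mem hg) ha) hg) ?_
    calc g⁻¹ * a * g * u = g⁻¹ * (a * y) * g := by rw [hy]; group
      _ = g⁻¹ * (y * a) * g := by rw [hay]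
      _ = u * (g⁻¹ * a * g) := by rw [hy]; group
  have hyT : y ∉ T := by
    intro hyT
    have hkey : ∀ E : Subgroup G, E ≤ T → Nat.card E = 16 → (∀ e ∈ E, e * y = y * e) →
        E = D.map (MulAut.conj g).toMonoidHom := fun E hET hE hcom => by
      refine Subgroup.eq_of_le_of_card_ge (fun e he => ⟨g⁻¹ * e * g,
        hcenty e (h.le_S (hET he)) (hcom e he), ?_⟩) ?_
      · show g * (g⁻¹ * e * g) * g⁻¹ = e
        group
      · rw [Subgroup.card_map_of_injective (MulAut.conj g).injective, hE, card_D h hC]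
    by_cases hyD : y ∈ D
    · have h1 := hkey D h.le_T (card_D h hC) fun e he => h.comm e he y hyD
      refine hgN (hTN (h.toLoc.mem_T hg (mem_normalizer_iff.mpr fun d => ?_)))
      conv_rhs => rw [h1]
      exact (Subgroup.mem_map_iff_mem (f := (MulAut.conj g).toMonoidHom)
        (MulAut.conj g).injective).symm
    · have hy2 : y * y = 1 := by
        rw [hy, show g * u * g⁻¹ * (g * u * g⁻¹) = g * (u * u) * g⁻¹ by group, uu h]; group
      obtain ⟨w, hw, hyw, -⟩ := invol_T h hyT hyD hy2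
      have h0 := (key h hC hn0 hn0T hn0N).2
      have h1 : D.map (MulAut.conj n0).toMonoidHom = D.map (MulAut.conj g).toMonoidHom := by
        refine hkey _ (h0.le.trans inf_le_left) (by
          rw [Subgroup.card_map_of_injective (MulAut.conj n0).injective, card_D h hC]) fun e he => ?_
        rw [h0] at he
        rw [hyw]
        exact ((show Commute e s from mem_centralizer_singleton_iff.mp he.2).mul_right
          (InZ.commute h hw he.1)).eq
      refine hgN ?_
      have h2 : n0⁻¹ * g ∈ T := by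
        refine h.toLoc.mem_T (mul_mem (inv_mem hn0) hg) (mem_normalizer_iff.mpr fun d => ?_)
        constructor
        · intro hd
          have : g * d * g⁻¹ ∈ D.map (MulAut.conj n0).toMonoidHom := h1 ▸ ⟨d, hd, rfl⟩
          obtain ⟨d', hd', he⟩ := this
          have he' : n0 * d' * n0⁻¹ = g * d * g⁻¹ := he
          rw [show n0⁻¹ * g * d * (n0⁻¹ * g)⁻¹ = n0⁻¹ * (g * d * g⁻¹) * n0 by group, ← he']
          simpa [mul_assoc] using hd'
        · intro hd
          have : n0 * (n0⁻¹ * g * d * (n0⁻¹ * g)⁻¹) * n0⁻¹ ∈ D.map (MulAut.conj g).toMonoidHom :=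
            h1 ▸ ⟨_, hd, rfl⟩
          obtain ⟨d', hd', he⟩ := this
          have he' : g * d' * g⁻¹ = n0 * (n0⁻¹ * g * d * (n0⁻¹ * g)⁻¹) * n0⁻¹ := he
          rw [show n0 * (n0⁻¹ * g * d * (n0⁻¹ * g)⁻¹) * n0⁻¹ = g * d * g⁻¹ by group] at he'
          rwa [← mul_left_cancel (mul_right_cancel he')]
      have := mul_mem (show n0 ∈ N from ⟨hn0, hn0N⟩) (hTN h2)
      rwa [mul_inv_cancel_left] at this
  have hyy : y * y = 1 := by
    rw [hy, show g * u * g⁻¹ * (g * u * g⁻¹) = g * (u * u) * g⁻¹ by group, uu h]; group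
  have hyinv : y⁻¹ = y := inv_eq_of_mul_eq_one_left hyy
  have hNy : ∀ a ∈ N, a ∈ T ∨ y * a ∈ T := fun a ha => by
    by_cases haT : a ∈ T
    · exact Or.inl haT
    · exact Or.inr (hyinv ▸ inv_mul_mem_T h hC hyN.1 hyT hyN.2 ha.1 haT ha.2)
  obtain ⟨⟨w, hw, hyuy, hw2⟩, -⟩ := key h hC hyN.1 hyT hyN.2
  rw [hyinv] at hyuy
  have hwD := InZ.mem_D h hw
  have hcw : Commute s w := InZ.commute_s h hw
  have htT : s * w ∈ T := mul_mem h.s_mem (h.le_T hwD)
  refine ⟨g, y, s * w, ?_⟩
  exact
    { eight := h.eight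
      g_S := hg
      y_eq := hy
      y_S := hyN.1
      y_notT := hyT
      yy := hyy
      uu := uu h
      tt := by rw [hcw.symm.mul_mul_mul_comm, ss h, hw2, one_mul]
      zz := zz h
      le_T := h.le_T
      T_le_S := h.le_S
      le_C := h.le_C
      comm := h.comm
      u_mem := h.u_mem
      z0_mem := h.z0_mem
      t_mem := htT
      t_notMem := fun ht => h.s_notMem (by simpa using mul_mem ht (inv_mem hwD))
      yuy := hyuy
      tut := by
        have hwu : Commute w u := h.comm w hwD u h.u_mem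
        calc s * w * u * (s * w) = s * (w * u) * (s * w) := by group
          _ = s * (u * w) * (w * s) := by rw [hwu.eq, hcw.eq]
          _ = s * u * (w * w) * s := by group
          _ = u * z0 := by rw [hw2, mul_one, sus h]
      C_t := fun c hc => ((show Commute s c from h.C_s c hc).mul_left
        (h.comm w hwD c (h.le_C hc))).eq
      z0_t := InZ.commute h (Or.inr (by rw [zz h]; exact one_mem C)) htT
      cases := fun d hd => cases_D h hd
      T_eq := fun a ha => (h.T_eq a ha).imp_right fun ha' => by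
        rw [hcw.eq, mul_assoc]
        exact mul_mem hwD ha'
      z0_notMem := h.z0_notMem
      u_notMem := u_not_inZ h
      T_conj := fun a ha => by
        have := (mem_normalizer_iff.mp hyN.2 a).mp ha
        rwa [hyinv] at this
      cent_u := hcentu
      conjS := fun a ha => by
        by_cases haN : a ∈ N
        · rcases hNy a haN with h1 | h1
          · exact Or.inl h1
          · exact Or.inr (Or.inl h1)
        · have h1 : g⁻¹ * a ∈ N := (hmul g⁻¹ (inv_mem hg) a ha).mpr (by simp [hgi, haN])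
          rcases hNy _ h1 with h2 | h2
          · exact Or.inr (Or.inr (Or.inl h2))
          · exact Or.inr (Or.inr (Or.inr h2))
      normal_N := fun a ha => hNy _ (hconjN a (hTN ha))
      g_sq := hNy _ ((hmul g hg g hg).mpr Iff.rfl)
      g_y := hNy _ (hconjN y hyN)
      bad := fun c hc => h.bad hc
      large := by
        set A : Subgroup G := D.map (MulAut.conj g).toMonoidHom with hA
        have hAy : ∀ a ∈ A, a ∈ N ∧ a * y = y * a := by
          rintro _ ⟨d, hd, rfl⟩
          refine ⟨hconjN d (hTN (h.le_T hd)), ?_⟩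
          show g * d * g⁻¹ * y = y * (g * d * g⁻¹)
          rw [hy, show g * d * g⁻¹ * (g * u * g⁻¹) = g * (d * u) * g⁻¹ by group,
            h.comm d hd u h.u_mem]
          group
        let φ : A → Bool × (T ⊓ centralizer ({y} : Set G) : Subgroup G) := fun a =>
          if ha : (a : G) ∈ T then (true, ⟨a, ha, mem_centralizer_singleton_iff.mpr (hAy a a.2).2⟩)
          else (false, ⟨y * a, (hNy a (hAy a a.2).1).resolve_left ha,
            mem_centralizer_singleton_iff.mpr (by rw [mul_assoc, (hAy a a.2).2])⟩)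
        have hφ : Function.Injective φ := by
          intro a b hab
          simp only [φ] at hab
          split at hab <;> split at hab
          · exact Subtype.ext (congrArg (fun p => ((p.2 : _) : G)) hab :)
          · exact absurd (congrArg Prod.fst hab) (by simp)
          · exact absurd (congrArg Prod.fst hab) (by simp)
          · exact Subtype.ext (mul_left_cancel (congrArg (fun p => ((p.2 : _) : G)) hab :))
        have h1 := Nat.card_le_card_of_injective φ hφ
        rw [hA, Subgroup.card_map_of_injective (MulAut.conj g).injective, card_D h hC,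
          Nat.card_prod, Nat.card_eq_fintype_card (α := Bool), Fintype.card_bool] at h1
        omega }

end CfsgLib.ChainEight.Four
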