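import Mathlib
import Cfsg.Agent.Lib.Recog.OrderSixty
import Cfsg.Agent.Lib.Base.MinimalNormal

/-!
# Chain length eight: tools for the order of the Sylow subgroup of a local subgroup

Chains of subgroups, and small groups without a normal 2-subgroup.
-/

set_option autoImplicit false

namespace CfsgLib.ChainEight

open Subgroup
open scoped Pointwise

universe u

/-- `H` is the top of a chain of length `n`. -/
def Len {G : Type u} [Group G] (H : Subgroup G) (n : ℕ) : Prop :=
  ∃ c : Fin (n + 1) → Subgroup G, StrictMono c ∧ c (Fin.last n) = H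

theorem Len.step {G : Type u} [Group G] {H K : Subgroup G} {n : ℕ} (h : Len H n) (hK : H < K) :
    Len K (n + 1) := by
  obtain ⟨c, hc, hl⟩ := h
  refine ⟨Fin.snoc c K, Fin.strictMono_iff_lt_succ.2 fun i => ?_, Fin.snoc_last _ _⟩
  rw [Fin.snoc_castSucc]
  by_cases hi : (i : ℕ) = n
  · rw [show i.succ = Fin.last (n + 1) from Fin.ext (by simp [hi]), Fin.snoc_last,
      show i = Fin.last n from Fin.ext (by simp [hi]), hl]
    exact hK
  · have hlt : (i : ℕ) + 1 < n + 1 := by omega
    rw [show i.succ = Fin.castSucc ⟨i + 1, hlt⟩ from Fin.ext (by simp), Fin.snoc_castSucc]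
    exact hc (Fin.lt_def.2 (Nat.lt_succ_self _))

theorem Len.le_eight {G : Type u} [Group G] (hG : ∀ c : Fin 10 → Subgroup G, ¬ StrictAnti c)
    {H : Subgroup G} {n : ℕ} (h : Len H n) : n ≤ 8 := by
  by_contra hn
  obtain ⟨c, hc, -⟩ := h
  refine hG (fun i => c ⟨n - i, by omega⟩) fun i j hij => hc (Fin.lt_def.2 ?_)
  have := Fin.lt_def.1 hij
  have := j.isLt
  show n - (j : ℕ) < n - (i : ℕ)
  omega

theorem Len.le_seven {G : Type u} [Group G] (hG : ∀ c : Fin 10 → Subgroup G, ¬ StrictAnti c)
    {H : Subgroup G} {n : ℕ} (h : Len H n) (hH : H ≠ ⊤) : n ≤ 7 := by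
  have := (h.step (lt_top_iff_ne_top.2 hH)).le_eight hG
  omega

theorem len_of_card {G : Type u} [Group G] [Finite G] :
    ∀ (a : ℕ) (P : Subgroup G), Nat.card P = 2 ^ a → Len P a := by
  have : Fact (Nat.Prime 2) := ⟨Nat.prime_two⟩
  intro a
  induction a with
  | zero => exact fun P _ => ⟨fun _ => P, fun i j hij => absurd (Fin.lt_def.1 hij) (by omega), rfl⟩
  | succ a ih =>
    intro P hP
    obtain ⟨Q, hQ⟩ := Sylow.exists_subgroup_card_pow_prime 2 (G := P) (n := a)
      (hP ▸ pow_dvd_pow 2 (Nat.le_succ a))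
    have hc : Nat.card (Q.map P.subtype) = 2 ^ a := by
      rw [card_map_of_injective P.subtype_injective, hQ]
    refine (ih _ hc).step (lt_of_le_of_ne (map_subtype_le Q) fun e => ?_)
    rw [e, hP, pow_succ] at hc
    have := pow_pos (show 0 < 2 by norm_num) a
    omega

variable {X : Type u} [Group X] [Finite X]

/-- A group of order `r * 2 ^ k < 60` without normal 2-subgroup has a normal Sylow `r`-subgroup,
on which the Sylow 2-subgroup acts faithfully. -/
theorem prime_index (P : Subgroup X) (hP : IsPGroup 2 P) {r : ℕ} (hr : r.Prime) (hr2 : r ≠ 2)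
    (hidx : P.index = r) (hsm : Nat.card X < 60)
    (hO : ∀ N : Subgroup X, N.Normal → IsPGroup 2 N → N = ⊥) :
    ∃ R : Subgroup X, R.Normal ∧ Nat.card R = r ∧ (∀ y : X, orderOf y = r → y ∈ R) ∧
      Nat.card P ∣ r - 1 ∧
      (∀ w ∈ P, (∀ a ∈ R, w * a = a * w) → w = 1) ∧
      (∀ w ∈ P, w * w = 1 → w ≠ 1 → ∀ a ∈ R, w * a * w⁻¹ = a⁻¹) := by
  classical
  have : Fact (Nat.Prime 2) := ⟨Nat.prime_two⟩
  have hrf : Fact r.Prime := ⟨hr⟩
  obtain ⟨k, hk⟩ := hP.exists_card_eq
  have hX : Nat.card X = 2 ^ k * r := by rw [← P.card_mul_index, hk, hidx]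
  have hcop : Nat.Coprime r (2 ^ k) := Nat.Coprime.pow_right k ((Nat.coprime_primes hr Nat.prime_two).2 hr2)
  have : Group.IsSolvable X := CfsgLib.Recog.isSolvable_of_card_lt_sixty hsm
  have hnt : Nontrivial X := by
    rw [← Finite.one_lt_card_iff_nontrivial, hX]
    exact lt_of_lt_of_le hr.one_lt (Nat.le_mul_of_pos_left r (pow_pos two_pos k))
  -- a normal subgroup of prime power order
  obtain ⟨A, hAn, hA1, hAc⟩ : ∃ A : Subgroup X, A.Normal ∧ A ≠ ⊥ ∧ IsMulCommutative A := by
    obtain ⟨A, -, hA⟩ := CfsgLib.Base.exists_isMinimalNormal_le (G := X) (N := ⊤) top_ne_bot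
    exact ⟨A, hA.normal, hA.ne_bot, hA.isMulCommutative inferInstance⟩
  obtain ⟨R, hRn, hR⟩ : ∃ R : Subgroup X, R.Normal ∧ Nat.card R = r := by
    obtain ⟨Q⟩ : Nonempty (Sylow r A) := inferInstance
    by_cases hrA : r ∣ Nat.card A
    · have hQn : (Q : Subgroup A).Normal := ⟨fun n hn g => by
        rw [(hAc.is_comm.comm g n), mul_inv_cancel_right]; exact hn⟩
      have := Sylow.characteristic_of_normal Q hQn
      refine ⟨(Q : Subgroup A).map A.subtype, inferInstance, ?_⟩
      rw [card_map_of_injective A.subtype_injective]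
      obtain ⟨j, hj⟩ := Q.isPGroup'.exists_card_eq
      have hdvd : r ^ j ∣ 2 ^ k * r := by
        rw [← hX, ← hj]
        exact (card_subgroup_dvd_card _).trans (card_subgroup_dvd_card A)
      have h1 : r ∣ Nat.card (Q : Subgroup A) := Q.dvd_card_of_dvd_card hrA
      rw [hj] at h1 ⊢
      have hj1 : j ≠ 0 := by rintro rfl; exact hr.not_dvd_one (by simpa using h1)
      have hj2 : r ^ j ∣ r := (Nat.Coprime.pow_left j hcop).dvd_of_dvd_mul_left hdvd
      have : j ≤ 1 := by
        by_contra hh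
        have := Nat.le_of_dvd hr.pos hj2
        have := Nat.pow_lt_pow_right hr.one_lt (show 1 < j by omega)
        rw [pow_one] at this
        omega
      rw [show j = 1 by omega, pow_one]
    · exfalso
      refine hA1 (hO A hAn ?_)
      have hdvd : Nat.card A ∣ 2 ^ k * r := hX ▸ card_subgroup_dvd_card A
      obtain ⟨j, -, hj⟩ := (Nat.dvd_prime_pow Nat.prime_two).1
        (((hr.coprime_iff_not_dvd.2 hrA).symm).dvd_of_dvd_mul_right hdvd)
      exact IsPGroup.of_card hj
  have hRidx : R.index = 2 ^ k := by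
    have := R.card_mul_index
    rw [hR, hX, mul_comm (2 ^ k)] at this
    exact mul_left_cancel₀ hr.ne_zero this
  have hmemR : ∀ y : X, orderOf y = r → y ∈ R := by
    intro y hy
    have h1 : y ^ (2 ^ k) ∈ R := hRidx ▸ pow_index_mem R y
    obtain ⟨m, hm⟩ := exists_pow_eq_self_of_coprime (x := y) (n := 2 ^ k) (hy ▸ hcop.symm)
    exact hm ▸ pow_mem h1 m
  have hinf : R ⊓ P = ⊥ := inf_eq_bot_of_coprime (by rw [hR, hk]; exact hcop)
  have hgen : R ⊔ P = ⊤ := by
    refine eq_top_of_le_card _ (Nat.le_of_dvd Nat.card_pos ?_)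
    rw [hX, mul_comm]
    exact Nat.Coprime.mul_dvd_of_dvd_of_dvd hcop (hR ▸ card_dvd_of_le le_sup_left)
      (hk ▸ card_dvd_of_le le_sup_right)
  -- the kernel of the action
  have hfaith : ∀ w ∈ P, (∀ a ∈ R, w * a = a * w) → w = 1 := by
    set W := P ⊓ centralizer (R : Set X) with hW
    have hle : R ⊔ P ≤ normalizer (W : Set X) := by
      refine sup_le (fun a ha => ?_) (fun p hp => ?_)
      · rw [mem_normalizer_iff]
        intro w
        have hcw : ∀ v ∈ W, a * v * a⁻¹ = v := fun v hv => by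
          rw [mem_centralizer_iff.1 hv.2 a ha, mul_inv_cancel_right]
        refine ⟨fun hw => by rw [hcw w hw]; exact hw, fun hw => ?_⟩
        have : a * w * a⁻¹ = w := by
          have h2 := hcw _ hw
          calc a * w * a⁻¹ = a⁻¹ * (a * (a * w * a⁻¹) * a⁻¹) * a := by group
            _ = a⁻¹ * (a * w * a⁻¹) * a := by rw [h2]
            _ = w := by group
        rwa [this] at hw
      · have : (centralizer (R : Set X)).Normal := inferInstance
        rw [mem_normalizer_iff]
        intro w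
        rw [hW, mem_inf, mem_inf]
        refine and_congr ?_ ?_
        · rw [mul_mem_cancel_right (inv_mem hp), mul_mem_cancel_left hp]
        · refine ⟨fun h => this.conj_mem w h p, fun h => ?_⟩
          simpa [mul_assoc] using this.conj_mem _ h p⁻¹
    have hWn : W.Normal := normalizer_eq_top_iff.1 (top_le_iff.1 (hgen ▸ hle))
    have hW1 := hO W hWn (hP.to_le inf_le_left)
    intro w hw hc
    exact mem_bot.1 (hW1 ▸ (⟨hw, mem_centralizer_iff.2 fun a ha => (hc a ha).symm⟩ : w ∈ W))
  let ψ : P →* MulAut R := (MulAut.conjNormal (H := R)).comp P.subtype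
  have hψ : Function.Injective ψ := (injective_iff_map_eq_one ψ).2 fun w hw =>
    Subtype.ext (hfaith w w.2 fun a ha => by
      have h1 : (w : X) * a * (w : X)⁻¹ = a :=
        (MulAut.conjNormal_apply (w : X) (⟨a, ha⟩ : R)).symm.trans
          (congrArg Subtype.val (DFunLike.congr_fun hw ⟨a, ha⟩))
      exact mul_inv_eq_iff_eq_mul.1 h1)
  have : IsCyclic R := isCyclic_of_prime_card hR
  refine ⟨R, hRn, hR, hmemR, ?_, hfaith, fun w hw hw2 hw1 a ha => ?_⟩
  · have h1 := Subgroup.card_dvd_of_injective ψ hψ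
    rwa [IsCyclic.card_mulAut, hR, Nat.totient_prime hr] at h1
  · have hfix : MonoidHom.FixedPointFree (ψ ⟨w, hw⟩).toMonoidHom := by
      intro b hb
      by_contra hb1
      refine hw1 (hfaith w hw fun c hc => ?_)
      obtain ⟨m, hm⟩ := mem_zpowers_iff.1 (mem_zpowers_of_prime_card hR hb1 (g' := ⟨c, hc⟩))
      have h1 : w * (b : X) * w⁻¹ = b :=
        (MulAut.conjNormal_apply w b).symm.trans (congrArg Subtype.val hb)
      have h2 : Commute w (b : X) := mul_inv_eq_iff_eq_mul.1 h1
      have h3 := congrArg Subtype.val hm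
      simp only [SubgroupClass.coe_zpow] at h3
      exact h3 ▸ (h2.zpow_right m).eq
    have hwi : w⁻¹ = w := inv_eq_of_mul_eq_one_right hw2
    have hinv : Function.Involutive (ψ ⟨w, hw⟩).toMonoidHom := fun b => Subtype.ext (by
      show ((MulAut.conjNormal w (MulAut.conjNormal w b) : R) : X) = b
      rw [MulAut.conjNormal_apply, MulAut.conjNormal_apply, hwi]
      simp only [← mul_assoc, hw2, one_mul]
      rw [mul_assoc, hw2, mul_one])
    exact (MulAut.conjNormal_apply w (⟨a, ha⟩ : R)).symm.trans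
      (congrArg Subtype.val (congrFun (hfix.coe_eq_inv_of_involutive hinv) ⟨a, ha⟩))

/-- With a maximal Sylow 2-subgroup of order four and odd composite index there are three proper
non-trivial members in a chain. -/
theorem composite_index (P : Subgroup X) (hP4 : Nat.card P = 4)
    (hmax : ∀ M : Subgroup X, P < M → M = ⊤) (hodd : Odd P.index) {q : ℕ} (hq : q.Prime)
    (hqd : q ∣ P.index) (hqlt : q < P.index)
    (hO : ∀ N : Subgroup X, N.Normal → IsPGroup 2 N → N = ⊥) :
    ∃ A B C : Subgroup X, ⊥ < A ∧ A < B ∧ B < C ∧ C < ⊤ := by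
  classical
  have h2f : Fact (Nat.Prime 2) := ⟨Nat.prime_two⟩
  have := Fact.mk hq
  have hP : IsPGroup 2 P := IsPGroup.of_card (n := 2) (by rw [hP4]; norm_num)
  let S : Sylow 2 X := hP.toSylow (fun h => Nat.not_even_iff_odd.2 hodd (even_iff_two_dvd.2 h))
  have hself : normalizer (P : Set X) = P := by
    by_contra hne
    have hlt : P < normalizer (P : Set X) := lt_of_le_of_ne le_normalizer (Ne.symm hne)
    have hn := normalizer_eq_top_iff.1 (hmax _ hlt)
    have := hO P hn hP
    rw [this] at hP4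
    simp at hP4
  have hcomm : ∀ a b : P, a * b = b * a :=
    IsPGroup.commutative_of_card_eq_prime_sq (p := 2) (by rw [hP4]; norm_num)
  have hSC : normalizer ((S : Subgroup X) : Set X) ≤ centralizer ((S : Subgroup X) : Set X) := by
    show normalizer (P : Set X) ≤ centralizer (P : Set X)
    rw [hself]
    exact fun a ha b hb => congrArg Subtype.val (hcomm ⟨b, hb⟩ ⟨a, ha⟩)
  have hcompl := MonoidHom.ker_transferSylow_isComplement' S hSC
  set O := (MonoidHom.transferSylow S hSC).ker with hOdef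
  have hOc : Nat.card O = P.index := hcompl.index_eq_card.symm
  obtain ⟨a, ha⟩ := exists_prime_orderOf_dvd_card' q (hOc ▸ hqd : q ∣ Nat.card O)
  obtain ⟨w, hw⟩ := exists_prime_orderOf_dvd_card' 2 (hP4 ▸ (by norm_num) : 2 ∣ Nat.card P)
  have hw2 : orderOf (w : X) = 2 := by rwa [Subgroup.orderOf_coe]
  have hwO : (w : X) ∉ O := fun h => by
    have h2 := Subgroup.orderOf_dvd_natCard O h
    rw [hw2, hOc] at h2
    exact Nat.not_even_iff_odd.2 hodd (even_iff_two_dvd.2 h2)
  set C := O ⊔ zpowers (w : X) with hC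
  refine ⟨zpowers (a : X), O, C, ?_, ?_, lt_of_le_of_ne le_sup_left fun e => hwO ?_, ?_⟩
  · rw [bot_lt_iff_ne_bot, zpowers_ne_bot]
    intro h
    rw [← Subgroup.orderOf_coe, h, orderOf_one] at ha
    exact hq.ne_one ha.symm
  · refine lt_of_le_of_ne (zpowers_le.2 a.2) fun e => ?_
    have h1 : Nat.card (zpowers (a : X)) = Nat.card O := by rw [e]
    rw [Nat.card_zpowers, Subgroup.orderOf_coe, ha, hOc] at h1
    omega
  · rw [e]; exact le_sup_right (a := O) (mem_zpowers _)
  · refine lt_top_iff_ne_top.2 fun e => ?_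
    have hle : Nat.card C ≤ Nat.card O * 2 := by
      have h1 : Nat.card C = Nat.card ((O : Set X) * (zpowers (w : X) : Set X) : Set X) := by
        rw [← normal_mul, ← SetLike.coe_sort_coe, hC]
      rw [h1]
      refine Set.natCard_mul_le.trans_eq ?_
      rw [SetLike.coe_sort_coe, SetLike.coe_sort_coe, Nat.card_zpowers, hw2]
    rw [e, card_top, ← P.card_mul_index, hP4, ← hOc] at hle
    have := Nat.card_pos (α := O)
    omega

end CfsgLib.ChainEight
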