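import Cfsg.Agent.Lib.ChainEight.Basic
import Cfsg.Agent.Lib.ChainEight.InvTools
import Cfsg.Agent.S0200

/-!
# Chain length eight, piece P2: `|T : D| = 2`
-/

set_option autoImplicit false
set_option maxHeartbeats 2000000

namespace CfsgLib.ChainEight

open Subgroup

universe u

/-- The fixed points of an element of prime order on a subgroup it normalises. -/
theorem card_fixed_mod {G : Type u} [Group G] [Finite G] (E : Subgroup G) {x : G} {r : ℕ}
    (hr : r.Prime) (hx : orderOf x = r) (hn : x ∈ normalizer (E : Set G)) :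
    Nat.card E ≡ Nat.card (E ⊓ centralizer ({x} : Set G) : Subgroup G) [MOD r] := by
  have := Fact.mk hr
  have hmem : ∀ g : zpowers x, ∀ e : E, (g : G) * e * (g : G)⁻¹ ∈ E := fun g e =>
    (mem_normalizer_iff.1 ((zpowers_le.2 hn) g.2) e).1 e.2
  let _ : MulAction (zpowers x) E :=
    { smul := fun g e => ⟨(g : G) * e * (g : G)⁻¹, hmem g e⟩
      one_smul := fun e => Subtype.ext (by
        show ((1 : zpowers x) : G) * e * ((1 : zpowers x) : G)⁻¹ = e
        simp)
      mul_smul := fun g h e => Subtype.ext (by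
        show ((g * h : zpowers x) : G) * e * ((g * h : zpowers x) : G)⁻¹ =
          (g : G) * ((h : G) * e * (h : G)⁻¹) * (g : G)⁻¹
        rw [Subgroup.coe_mul]; group) }
  have hp : IsPGroup r (zpowers x) :=
    IsPGroup.of_card (n := 1) (by rw [Nat.card_zpowers, hx, pow_one])
  have h := hp.card_modEq_card_fixedPoints E
  refine h.trans ?_
  unfold Nat.ModEq
  refine congrArg (· % r) ?_
  refine Nat.card_congr
    { toFun := fun e => ⟨((e : E) : G), (e : E).2, ?_⟩
      invFun := fun e => ⟨⟨(e : G), e.2.1⟩, ?_⟩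
      left_inv := fun e => rfl
      right_inv := fun e => rfl }
  · show ((e : E) : G) ∈ centralizer ({x} : Set G)
    rw [mem_centralizer_singleton_iff]
    have h2 : x * ((e : E) : G) * x⁻¹ = ((e : E) : G) :=
      congrArg Subtype.val (e.2 (⟨x, mem_zpowers x⟩ : zpowers x))
    exact (mul_inv_eq_iff_eq_mul.1 h2).symm
  · intro g
    refine Subtype.ext ?_
    show (g : G) * (e : G) * (g : G)⁻¹ = e
    obtain ⟨m, hm⟩ := mem_zpowers_iff.1 g.2
    have hc : Commute x (e : G) := (mem_centralizer_singleton_iff.1 e.2.2).symm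
    rw [← hm, (hc.zpow_left m).eq, mul_inv_cancel_right]

theorem small_bound {a k n : ℕ} (ha : a ≤ 4) (hk : k ≤ 6 - a) (hn : n.Prime) (hna : n < 2 ^ a) :
    2 ^ k * n < 60 := by
  have h1 : 2 ^ k ≤ 2 ^ (6 - a) := pow_le_pow_right₀ one_le_two hk
  interval_cases a <;> norm_num at h1 hna <;> first
    | omega
    | (have h15 : n ≠ 15 := fun e => absurd hn (by rw [e]; norm_num)
       nlinarith [show n ≤ 14 by omega])

theorem exp_cases (e : ℕ) (he : e < 5) (f : ℕ) (hf : f < 5) (r : ℕ) (hr : r = 5 ∨ r = 13)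
    (hmod : 2 ^ e ≡ 2 ^ f [MOD r]) (hlt : r < 2 ^ e) (hfe : f < e) : e = 4 ∧ f = 0 ∧ r = 5 := by
  rcases hr with rfl | rfl <;> interval_cases e <;> interval_cases f <;>
    simp_all [Nat.ModEq]

theorem inv_of : InvStmt.{u} := by
  intro G _ _ S D T h
  classical
  have h2f : Fact (Nat.Prime 2) := ⟨Nat.prime_two⟩
  obtain ⟨z, hzS, hz2, hzc⟩ := h.eight.exists_central S
  have hzD : z ∈ D := h.central_mem hzc
  have hz1 : z ≠ 1 := fun e => by rw [e, orderOf_one] at hz2; omega
  have hzz : z * z = 1 := by rw [← sq, ← hz2, pow_orderOf_eq_one]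
  have hCz : centralizer ({z} : Set G) = (S : Subgroup G) := h.eight.cent S z hzS hz1 hzc
  set H := normalizer (D : Set G) with hH
  have hDH : D ≤ H := le_normalizer
  have hTH : T ≤ H := h.T_le
  have hDS := h.D_le_S
  have hDp : IsPGroup 2 D := S.isPGroup'.to_le hDS
  have hTp : IsPGroup 2 T := S.isPGroup'.to_le h.le_S
  obtain ⟨a, ha⟩ := hDp.exists_card_eq
  obtain ⟨b, hb⟩ := hTp.exists_card_eq
  have hHT : T < H := lt_of_le_of_ne hTH fun e => h.not_two (by rw [← hH, ← e]; exact hTp)
  have hHtop : H ≠ ⊤ := by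
    intro e
    have hDn : D.Normal := normalizer_eq_top_iff.1 e
    have := h.eight.simple
    rcases hDn.eq_bot_or_eq_top with hb' | ht
    · exact h.ne_bot hb'
    · refine h.not_two ?_
      rw [← hH, e]
      exact ht ▸ hDp
  -- the quotient
  have hDn : (D.subgroupOf H).Normal := normal_subgroupOf_of_le_normalizer le_rfl
  set D' := D.subgroupOf H with hD'
  set T' := T.subgroupOf H with hT'
  set mk := QuotientGroup.mk' D' with hmk
  set P := T'.map mk with hP
  have hPc : P.comap mk = T' := comap_map_eq_self (by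
    rw [hmk, QuotientGroup.ker_mk']; exact comap_mono h.le_T)
  have hmemP : ∀ y : H, mk y ∈ P ↔ (y : G) ∈ T := fun y => by rw [← mem_comap, hPc]; rfl
  have hmem1 : ∀ y : H, mk y = 1 ↔ (y : G) ∈ D := fun y => QuotientGroup.eq_one_iff y
  have hTsyl : ∀ R : Subgroup H, IsPGroup 2 R → T' ≤ R → R = T' := by
    intro R hR hTR
    have h1 := h.sylow (R.map H.subtype) (map_subtype_le R) (hR.map _) (by
      intro t ht
      exact ⟨⟨t, hTH ht⟩, hTR (show (⟨t, hTH ht⟩ : H) ∈ T' from ht), rfl⟩)
    rw [hT', ← h1]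
    exact (comap_map_eq_self_of_injective H.subtype_injective R).symm
  have hodd : Odd P.index := by
    obtain ⟨Q, hQ⟩ := (hTp.comap_subtype : IsPGroup 2 T').exists_le_sylow
    have h1 := hTsyl Q Q.isPGroup' hQ
    rw [← index_comap_of_surjective P (QuotientGroup.mk'_surjective D'), ← hmk, hPc, ← h1,
      Nat.odd_iff, ← Nat.two_dvd_ne_zero]
    exact Q.not_dvd_index
  have hO : ∀ N : Subgroup (H ⧸ D'), N.Normal → IsPGroup 2 N → N = ⊥ := by
    intro N hN hNp
    set R := (N.comap mk).map H.subtype with hR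
    have hRp : IsPGroup 2 R := (hNp.comap_of_ker_isPGroup mk (by
      rw [hmk, QuotientGroup.ker_mk']; exact hDp.comap_subtype)).map _
    have hRn : (N.comap mk).Normal := hN.comap mk
    have hle : H ≤ normalizer (R : Set G) := by
      intro g hg
      rw [mem_normalizer_iff]
      refine fun w => ⟨?_, ?_⟩
      · rintro ⟨w', hw', rfl⟩
        exact ⟨⟨g, hg⟩ * w' * ⟨g, hg⟩⁻¹, hRn.conj_mem w' hw' _, rfl⟩
      · rintro ⟨w', hw', e⟩
        refine ⟨⟨g, hg⟩⁻¹ * w' * ⟨g, hg⟩, ?_, ?_⟩
        · simpa using hRn.conj_mem w' hw' ⟨g, hg⟩⁻¹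
        · have e' : (w' : G) = g * w * g⁻¹ := e
          show g⁻¹ * (w' : G) * g = w
          rw [e']; group
    have hRD := h.core R (map_subtype_le _) hRp hle
    refine (eq_bot_iff_forall N).2 fun q hq => ?_
    obtain ⟨y, rfl⟩ := QuotientGroup.mk'_surjective D' q
    exact (hmem1 y).2 (hRD ⟨y, hq, rfl⟩)
  have hcard : Nat.card T = Nat.card D * Nat.card P := by
    have h1 := CfsgLib.Base.card_comap_mk' D' P
    rw [← hmk, hPc] at h1
    rwa [Nat.card_congr (subgroupOfEquivOfLe hTH).toEquiv,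
      Nat.card_congr (subgroupOfEquivOfLe hDH).toEquiv] at h1
  have hPp : IsPGroup 2 P := (hTp.comap_subtype : IsPGroup 2 T').map _
  obtain ⟨k, hk⟩ := hPp.exists_card_eq
  have hbk : b = a + k := Nat.pow_right_injective (le_refl 2)
    (by dsimp only; rw [pow_add, ← hb, ← ha, ← hk, hcard])
  have hk0 : k ≠ 0 := by
    rintro rfl
    have hTD : D = T := eq_of_le_of_card_ge h.le_T (by
      rw [hcard, hk, pow_zero, mul_one])
    obtain ⟨g, hgS, hgT, -, hgN⟩ := h.exists_g
    exact hgT (h.mem_T hgS (hTD ▸ hgN))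
  have hTlen : Len T b := len_of_card b T hb
  have hb6 : b ≤ 6 := by
    have := (hTlen.step hHT).le_seven h.eight.chain hHtop
    omega
  have hn1 : P.index ≠ 1 := fun e => by
    have htop : P = ⊤ := index_eq_one.1 e
    exact hHT.not_ge fun g hg => (hmemP ⟨g, hg⟩).1 (htop ▸ mem_top _)
  -- the involutions of the centre of `D`
  let E : Subgroup G :=
    { carrier := {d | d ∈ D ∧ d * d = 1 ∧ ∀ c ∈ D, c * d = d * c}
      one_mem' := ⟨one_mem _, one_mul 1, fun c _ => by simp⟩
      mul_mem' := by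
        rintro d e ⟨hd, hd2, hdc⟩ ⟨he, he2, hec⟩
        refine ⟨mul_mem hd he, ?_, fun c hc => ?_⟩
        · rw [mul_assoc, ← mul_assoc e d e, hdc e he, mul_assoc d e e, he2, mul_one, hd2]
        · rw [← mul_assoc, hdc c hc, mul_assoc, hec c hc, mul_assoc]
      inv_mem' := by
        rintro d ⟨hd, hd2, hdc⟩
        rw [show d⁻¹ = d from inv_eq_of_mul_eq_one_right hd2]
        exact ⟨hd, hd2, hdc⟩ }
  have hED : E ≤ D := fun d hd => hd.1
  have hEconj : ∀ g ∈ H, ∀ d ∈ E, g * d * g⁻¹ ∈ E := by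
    rintro g hg d ⟨hd, hd2, hdc⟩
    have hgD := mem_normalizer_iff.1 hg
    refine ⟨(hgD d).1 hd, ?_, fun c hc => ?_⟩
    · rw [show g * d * g⁻¹ * (g * d * g⁻¹) = g * (d * d) * g⁻¹ by group, hd2, mul_one,
        mul_inv_cancel]
    · obtain ⟨c', hc', rfl⟩ : ∃ c' ∈ D, c = g * c' * g⁻¹ :=
        ⟨g⁻¹ * c * g, by
          rw [hgD (g⁻¹ * c * g)]; simpa [mul_assoc] using hc, by group⟩
      rw [show g * c' * g⁻¹ * (g * d * g⁻¹) = g * (c' * d) * g⁻¹ by group, hdc c' hc']
      group
  have hHnE : H ≤ normalizer (E : Set G) := by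
    intro g hg
    rw [mem_normalizer_iff]
    refine fun d => ⟨hEconj g hg d, fun hd => ?_⟩
    have := hEconj g⁻¹ (inv_mem hg) _ hd
    simpa [mul_assoc] using this
  have hzE : z ∈ E := ⟨hzD, hzz, fun c hc => hzc c (hDS hc)⟩
  have hnE : P.index < Nat.card E := by
    rw [← index_comap_of_surjective P (QuotientGroup.mk'_surjective D'), ← hmk, hPc,
      index_eq_card]
    have hf : ∀ q : H ⧸ T', (q.out : G) * z * (q.out : G)⁻¹ ∈ E := fun q =>
      hEconj _ q.out.2 z hzE
    let f : H ⧸ T' → E := fun q => ⟨(q.out : G) * z * (q.out : G)⁻¹, hf q⟩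
    have hinj : Function.Injective f := by
      intro p q e
      have e' : (p.out : G) * z * (p.out : G)⁻¹ = (q.out : G) * z * (q.out : G)⁻¹ :=
        congrArg Subtype.val e
      rw [← QuotientGroup.out_eq' p, ← QuotientGroup.out_eq' q, QuotientGroup.eq]
      show ((p.out : G))⁻¹ * (q.out : G) ∈ T
      refine h.mem_T ?_ (mul_mem (inv_mem p.out.2) q.out.2)
      rw [← hCz, mem_centralizer_singleton_iff]
      calc (p.out : G)⁻¹ * (q.out : G) * z
          = (p.out : G)⁻¹ * ((q.out : G) * z * (q.out : G)⁻¹) * (q.out : G) := by group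
        _ = z * ((p.out : G)⁻¹ * (q.out : G)) := by rw [← e']; group
    have hns : ¬ Function.Surjective f := fun hsu => by
      obtain ⟨q, hq⟩ := hsu 1
      exact hz1 (conj_eq_one_iff.1 (congrArg Subtype.val hq))
    by_contra hge
    push Not at hge
    exact hns (hinj.bijective_of_nat_card_le hge).2
  obtain ⟨e, hea, he⟩ := (Nat.dvd_prime_pow Nat.prime_two).1 (ha ▸ card_dvd_of_le hED)
  have hna : P.index < 2 ^ a := lt_of_lt_of_le hnE (he ▸ pow_le_pow_right₀ one_le_two hea)
  -- `k = 1`
  have hk1 : k = 1 := by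
    by_contra hne
    have hk2 : 2 ≤ k := by omega
    have hX : Nat.card (H ⧸ D') = 2 ^ k * P.index := by rw [← P.card_mul_index, hk]
    have ha4 : a ≤ 4 := by omega
    rcases Nat.lt_or_ge P.index 2 with hlt | hge
    · exact hn1 (by rcases hodd with ⟨m, hm⟩; omega)
    by_cases hprime : P.index.Prime
    · have hr2 : P.index ≠ 2 := fun e2 => Nat.not_even_iff_odd.2 hodd (e2 ▸ even_two)
      have hsm : Nat.card (H ⧸ D') < 60 := by
        rw [hX]
        exact small_bound ha4 (by omega) hprime hna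
      obtain ⟨R, hRn, hRc, hRmem, hdvd, hfaith, hinv⟩ :=
        prime_index P hPp hprime hr2 rfl hsm hO
      set r := P.index with hr
      rw [hk] at hdvd
      have h4 : 4 ∣ r - 1 := (show 4 ∣ 2 ^ k from pow_dvd_pow 2 hk2).trans hdvd
      have hr16 : r < 16 := lt_of_lt_of_le hna (pow_le_pow_right₀ one_le_two ha4)
      have hr' : r = 5 ∨ r = 13 := by
        obtain ⟨m, hm⟩ := h4
        have : r = 5 ∨ r = 9 ∨ r = 13 := by omega
        rcases this with h5 | h9 | h13
        · exact Or.inl h5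
        · exact absurd hprime (by rw [h9]; norm_num)
        · exact Or.inr h13
      have hrH : r ∣ Nat.card H :=
        (hr ▸ (index_dvd_card P)).trans (card_quotient_dvd_card D')
      have := Fact.mk hprime
      obtain ⟨x, hx⟩ := exists_prime_orderOf_dvd_card' r hrH
      have hxG : orderOf (x : G) = r := by rwa [Subgroup.orderOf_coe]
      have hxD : mk x ≠ 1 := by
        intro h1
        obtain ⟨j, hj⟩ := hDp ⟨x, (hmem1 x).1 h1⟩
        have h2 : r ∣ 2 ^ j := hxG ▸ orderOf_dvd_of_pow_eq_one (congrArg Subtype.val hj)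
        exact hr2 ((Nat.prime_dvd_prime_iff_eq hprime Nat.prime_two).1 (hprime.dvd_of_dvd_pow h2))
      have hxR : mk x ∈ R := hRmem _ (orderOf_eq_prime
        (by rw [← map_pow, ← hx, pow_orderOf_eq_one, map_one]) hxD)
      set F := E ⊓ centralizer ({(x : G)} : Set G) with hF
      have hFne : F ≠ E := by
        intro hFE
        have hzF : z ∈ F := hFE ▸ hzE
        have hxT : (x : G) ∈ T := h.mem_T
          (hCz ▸ mem_centralizer_singleton_iff.2 (mem_centralizer_singleton_iff.1 hzF.2).symm) x.2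
        obtain ⟨j, hj⟩ := hTp ⟨x, hxT⟩
        have h2 : r ∣ 2 ^ j := hxG ▸ orderOf_dvd_of_pow_eq_one (congrArg Subtype.val hj)
        exact hr2 ((Nat.prime_dvd_prime_iff_eq hprime Nat.prime_two).1 (hprime.dvd_of_dvd_pow h2))
      have hmod := card_fixed_mod E hprime hxG (hHnE x.2)
      rw [← hF, he] at hmod
      obtain ⟨f, hfe, hf⟩ := (Nat.dvd_prime_pow Nat.prime_two).1
        (he ▸ card_dvd_of_le (inf_le_left : F ≤ E))
      have hfe' : f < e := lt_of_le_of_ne hfe fun e' =>
        hFne (eq_of_le_of_card_ge inf_le_left (by rw [hf, e', he]))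
      rw [hf] at hmod
      rw [he] at hnE
      have key : e = 4 ∧ f = 0 ∧ r = 5 := by
        have he4 : e ≤ 4 := hea.trans ha4
        exact exp_cases e (by omega) f (by omega) r hr' hmod hnE hfe'
      obtain ⟨rfl, rfl, h5⟩ := key
      -- now `D = E` has order 16
      have ha' : a = 4 := by omega
      have hDE : E = D := eq_of_le_of_card_ge hED (by rw [ha, ha', he])
      have hDsq : ∀ d ∈ D, d * d = 1 := fun d hd => (hDE.ge hd).2.1
      have hDcomm : ∀ c ∈ D, ∀ d ∈ D, c * d = d * c := fun c hc d hd => (hDE.ge hd).2.2 c hc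
      obtain ⟨g, hgS, hgT, -, hgN⟩ := h.exists_g
      set Dg := D.map (MulAut.conj g).toMonoidHom with hDg
      have hDgT : Dg ≤ T := by
        rintro _ ⟨d, hd, rfl⟩
        exact (mem_normalizer_iff.1 hgN d).1 (h.le_T hd)
      have hDgc : Nat.card Dg = 16 := by
        rw [hDg, card_map_of_injective (MulAut.conj g).injective, ha, ha']; norm_num
      have hnle : ¬ Dg ≤ D := fun hle => hgT (h.mem_T hgS (mem_normalizer_iff_map_conj_eq.2
        (eq_of_le_of_card_ge hle (card_map_of_injective (MulAut.conj g).injective).ge)))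
      obtain ⟨t, htg, htD⟩ := SetLike.not_le_iff_exists.1 hnle
      have hDgsq : ∀ d ∈ Dg, d * d = 1 := by
        rintro _ ⟨d, hd, rfl⟩
        rw [← map_mul, hDsq d hd, map_one]
      have hDgcomm : ∀ c ∈ Dg, ∀ d ∈ Dg, c * d = d * c := by
        rintro _ ⟨c, hc, rfl⟩ _ ⟨d, hd, rfl⟩
        rw [← map_mul, ← map_mul, hDcomm c hc d hd]
      set th : H := ⟨t, hTH (hDgT htg)⟩ with hth
      have hinvol : ∀ d : H, (d : G) ∈ Dg → (d : G) ∉ D → mk d ∈ P ∧ mk d * mk d = 1 ∧
          mk d ≠ 1 ∧ ∀ q ∈ R, mk d * q * (mk d)⁻¹ = q⁻¹ := by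
        intro d hd hdD
        have h1 : mk d * mk d = 1 := by
          rw [← map_mul, show d * d = 1 from Subtype.ext (hDgsq _ hd), map_one]
        have h2 : mk d ≠ 1 := fun e' => hdD ((hmem1 d).1 e')
        exact ⟨(hmemP d).2 (hDgT hd), h1, h2, hinv _ ((hmemP d).2 (hDgT hd)) h1 h2⟩
      obtain ⟨htP, -, ht1, htinv⟩ := hinvol th htg htD
      have hsame : ∀ d ∈ Dg, d ∉ D → t * d ∈ D := by
        intro d hd hdD
        obtain ⟨hdP, -, -, hdinv⟩ := hinvol ⟨d, hTH (hDgT hd)⟩ hd hdD
        have hw : mk th * mk ⟨d, hTH (hDgT hd)⟩ = 1 := by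
          refine hfaith _ (mul_mem htP hdP) fun q hq => ?_
          rw [← mul_inv_eq_iff_eq_mul]
          calc mk th * mk ⟨d, hTH (hDgT hd)⟩ * q * (mk th * mk ⟨d, hTH (hDgT hd)⟩)⁻¹
              = mk th * (mk ⟨d, hTH (hDgT hd)⟩ * q * (mk ⟨d, hTH (hDgT hd)⟩)⁻¹) * (mk th)⁻¹ := by
                group
            _ = q := by rw [hdinv q hq, htinv _ (inv_mem hq), inv_inv]
        rw [← map_mul] at hw
        exact (hmem1 _).1 hw
      set Q := D ⊓ Dg with hQ
      have hQc : Nat.card Dg ≤ 2 * Nat.card Q := by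
        have hinj : ∀ d : Dg, (if (d : G) ∈ D then (d : G) else t * d) ∈ Q := fun d => by
          split_ifs with hd
          · exact ⟨hd, d.2⟩
          · exact ⟨hsame d d.2 hd, mul_mem htg d.2⟩
        let f : Dg → Bool × Q := fun d => (decide ((d : G) ∈ D), ⟨_, hinj d⟩)
        have hf : Function.Injective f := by
          intro c d ecd
          have e1 : decide ((c : G) ∈ D) = decide ((d : G) ∈ D) := congrArg Prod.fst ecd
          have e2 : (if (c : G) ∈ D then (c : G) else t * c) =
              (if (d : G) ∈ D then (d : G) else t * d) := congrArg (fun q => ((q.2 : Q) : G)) ecd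
          by_cases hc : (c : G) ∈ D <;> by_cases hd : (d : G) ∈ D <;>
            simp [hc, hd] at e1 e2
          · exact e2
          · exact e2
        have := Nat.card_le_card_of_injective f hf
        simpa [Nat.card_prod] using this
      set Qx := Q.map (MulAut.conj (x : G)).toMonoidHom with hQx
      have hQxD : Qx ≤ D := by
        rintro _ ⟨q, hq, rfl⟩
        exact (mem_normalizer_iff.1 x.2 q).1 hq.1
      have hQ2 : Nat.card D ≤ 2 * Nat.card Qx := by
        rw [hQx, card_map_of_injective (MulAut.conj (x : G)).injective, ha, ha']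
        rw [hDgc] at hQc
        norm_num; exact hQc
      have hI : 4 ≤ Nat.card (Q ⊓ Qx : Subgroup G) := by
        have hr1 : Q.relIndex D ≤ 2 := by
          have hQD : Q ≤ D := inf_le_left
          have h1 := card_mul_index (Q.subgroupOf D)
          rw [Nat.card_congr (subgroupOfEquivOfLe hQD).toEquiv] at h1
          rw [relIndex]
          rw [hDgc] at hQc
          rw [ha, ha'] at h1
          rw [show (2 : ℕ) ^ 4 = 16 from rfl] at h1
          by_contra hbad
          push Not at hbad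
          have := Nat.mul_le_mul (show 8 ≤ Nat.card Q by omega) hbad
          omega
        have hr2' : Qx.relIndex D ≤ 2 := by
          have h1 := card_mul_index (Qx.subgroupOf D)
          rw [Nat.card_congr (subgroupOfEquivOfLe hQxD).toEquiv] at h1
          rw [relIndex]
          rw [ha, ha'] at h1 hQ2
          rw [show (2 : ℕ) ^ 4 = 16 from rfl] at h1 hQ2
          by_contra hbad
          push Not at hbad
          have := Nat.mul_le_mul (show 8 ≤ Nat.card Qx by omega) hbad
          omega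
        have h12 : (Q ⊓ Qx).relIndex D ≤ 4 :=
          relIndex_inf_le.trans (Nat.mul_le_mul hr1 hr2')
        have h1 := card_mul_index ((Q ⊓ Qx).subgroupOf D)
        rw [Nat.card_congr (subgroupOfEquivOfLe
          (inf_le_left.trans inf_le_left : Q ⊓ Qx ≤ D)).toEquiv, ha, ha'] at h1
        rw [show (2 : ℕ) ^ 4 = 16 from rfl] at h1
        rw [relIndex] at h12
        by_contra hbad
        push Not at hbad
        have := Nat.mul_le_mul (show Nat.card (Q ⊓ Qx : Subgroup G) ≤ 3 by omega) h12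
        omega
      have hle : Q ⊓ Qx ≤ F := by
        intro w hw
        refine ⟨hDE.ge hw.1.1, ?_⟩
        show w ∈ centralizer ({(x : G)} : Set G)
        rw [mem_centralizer_singleton_iff]
        have h1 : Commute w t := hDgcomm w hw.1.2 t htg
        obtain ⟨v, hv, hvw⟩ := hw.2
        have hvw' : (x : G) * v * (x : G)⁻¹ = w := hvw
        have h2 : Commute w ((x : G) * t * (x : G)⁻¹) := by
          rw [← hvw']
          exact (Commute.map (show Commute v t from hDgcomm v hv.2 t htg) (MulAut.conj (x : G)).toMonoidHom)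
        have hd : t * (x : G) * t⁻¹ * (x : G) ∈ D := by
          have h3 := htinv _ hxR
          have h4 : mk (th * x * th⁻¹ * x) = 1 := by
            rw [map_mul, map_mul, map_mul, map_inv, h3, inv_mul_cancel]
          exact (hmem1 _).1 h4
        set d := t * (x : G) * t⁻¹ * (x : G) with hdd
        have htt : t⁻¹ = t := inv_eq_of_mul_eq_one_right (hDgsq t htg)
        have h5 : (x : G) * t * (x : G)⁻¹ * t * d = (x : G) * (x : G) := by
          rw [hdd, htt]
          calc (x : G) * t * (x : G)⁻¹ * t * (t * (x : G) * t * (x : G))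
              = (x : G) * t * (x : G)⁻¹ * (t * t) * (x : G) * t * (x : G) := by group
            _ = (x : G) * (t * t) * (x : G) := by
                rw [hDgsq t htg]; simp [mul_assoc, hDgsq t htg]
            _ = (x : G) * (x : G) := by rw [hDgsq t htg, mul_one]
        have h6 : Commute w ((x : G) * (x : G)) := by
          rw [← h5]
          exact (h2.mul_right h1).mul_right (hDcomm w hw.1.1 d hd)
        have h7 : ((x : G) * (x : G)) ^ 3 = (x : G) := by
          rw [← sq, ← pow_mul, show 2 * 3 = r + 1 by omega, pow_succ, ← hxG, pow_orderOf_eq_one,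
            one_mul]
        exact (h7 ▸ h6.pow_right 3).eq
      have h8 := Nat.card_le_card_of_injective _ (inclusion_injective hle)
      rw [hf, pow_zero] at h8
      omega
    · -- composite index
      have hn9 : 9 ≤ P.index := by
        rcases hodd with ⟨m, hm⟩
        by_contra hlt
        have h357 : P.index = 3 ∨ P.index = 5 ∨ P.index = 7 := by omega
        rcases h357 with h3 | h3 | h3 <;> exact hprime (h3 ▸ by norm_num)
      have ha' : a = 4 := by
        by_contra hne4
        have := pow_le_pow_right₀ (show 1 ≤ 2 by norm_num) (show a ≤ 3 by omega)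
        omega
      have hk' : k = 2 := by omega
      have hb' : b = 6 := by omega
      have hstep : ∀ M N : Subgroup (H ⧸ D'), M < N →
          (M.comap mk).map H.subtype < (N.comap mk).map H.subtype := fun M N hMN =>
        (map_lt_map_iff_of_injective H.subtype_injective).2
          ((comap_lt_comap_of_surjective (QuotientGroup.mk'_surjective D')).2 hMN)
      have htopH : ((⊤ : Subgroup (H ⧸ D')).comap mk).map H.subtype = H := by
        rw [comap_top, ← MonoidHom.range_eq_map, Subgroup.range_subtype]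
      have hbotD : ((⊥ : Subgroup (H ⧸ D')).comap mk).map H.subtype = D := by
        rw [MonoidHom.comap_bot, hmk, QuotientGroup.ker_mk', hD', map_subgroupOf_eq_of_le hDH]
      have hPT : (P.comap mk).map H.subtype = T := by
        rw [hPc, hT', map_subgroupOf_eq_of_le hTH]
      have hmax : ∀ M : Subgroup (H ⧸ D'), P < M → M = ⊤ := by
        intro M hM
        by_contra hne'
        have h1 : T < (M.comap mk).map H.subtype := hPT ▸ hstep P M hM
        have h2 : (M.comap mk).map H.subtype < H :=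
          lt_of_lt_of_eq (hstep M ⊤ (lt_top_iff_ne_top.2 hne')) htopH
        have := ((hTlen.step h1).step h2).le_seven h.eight.chain hHtop
        omega
      obtain ⟨A, B, C, h1, h2, h3, h4⟩ := composite_index P (by rw [hk, hk']; norm_num) hmax hodd
        (Nat.minFac_prime hn1) (Nat.minFac_dvd _)
        ((Nat.not_prime_iff_minFac_lt hge).1 hprime) hO
      have hDlen : Len (((⊥ : Subgroup (H ⧸ D')).comap mk).map H.subtype) a :=
        hbotD.symm ▸ len_of_card a D ha
      have h5 := (((hDlen.step (hstep _ _ h1)).step (hstep _ _ h2)).step (hstep _ _ h3)).step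
        (lt_of_lt_of_eq (hstep _ _ h4) htopH)
      have := h5.le_seven h.eight.chain hHtop
      omega
  subst hk1
  have hPcard : Nat.card P = 2 := by rw [hk, pow_one]
  -- inverted elements
  have hinverted : ∀ s ∈ T, s ∉ D → ∃ x ∈ H,
      (orderOf x).Prime ∧ Odd (orderOf x) ∧ s * x * s⁻¹ * x ∈ D := by
    intro s hs hsD
    set sh : H := ⟨s, hTH hs⟩ with hsh
    have hs1 : mk sh ≠ 1 := fun e' => hsD ((hmem1 sh).1 e')
    have hs2 : orderOf (mk sh) = 2 := orderOf_eq_prime (by
      rw [← hPcard]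
      exact orderOf_dvd_iff_pow_eq_one.1 (Subgroup.orderOf_dvd_natCard _ ((hmemP sh).2 hs))) hs1
    obtain ⟨y, hy1, hyo, hy⟩ := Cfsg.Agent.S0200.result (mk sh) hs2 fun N hN hNp hmem =>
      hs1 (mem_bot.1 ((hO N hN hNp) ▸ hmem))
    obtain ⟨q, hq, hqd⟩ := Nat.exists_prime_and_dvd (n := orderOf y)
      (fun e' => hy1 (orderOf_eq_one_iff.1 e'))
    have := Fact.mk hq
    obtain ⟨c, hc⟩ := hqd
    have hc0 : c ≠ 0 := by
      rintro rfl
      exact (orderOf_pos y).ne' (by simpa using hc)
    have hw : orderOf (y ^ c) = q := by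
      rw [orderOf_pow_of_dvd hc0 ⟨q, by rw [hc, mul_comm]⟩, hc,
        Nat.mul_div_cancel _ (Nat.pos_of_ne_zero hc0)]
    have hq_odd : Odd q := hyo.of_dvd_nat ⟨c, hc⟩
    obtain ⟨y0, hy0⟩ := QuotientGroup.mk'_surjective D' (y ^ c)
    have hy0q : (y0 : G) ^ q ∈ D := by
      have : mk (y0 ^ q) = 1 := by rw [map_pow, hmk, hy0, ← hw, pow_orderOf_eq_one]
      exact (hmem1 _).1 this
    obtain ⟨j, hj⟩ := hDp ⟨_, hy0q⟩
    have hj' : ((y0 : G) ^ q) ^ (2 ^ j) = 1 := congrArg Subtype.val hj
    set x : H := y0 ^ (2 ^ j) with hx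
    have hxD : mk x ≠ 1 := by
      rw [hx, map_pow, hmk, hy0]
      intro e'
      have h2 : q ∣ 2 ^ j := hw ▸ orderOf_dvd_of_pow_eq_one e'
      have := (Nat.prime_dvd_prime_iff_eq hq Nat.prime_two).1 (hq.dvd_of_dvd_pow h2)
      rw [this] at hq_odd
      exact absurd hq_odd (by decide)
    have hxq : orderOf (x : G) = q := orderOf_eq_prime
      (by rw [hx, Subgroup.coe_pow, ← pow_mul, mul_comm, pow_mul, hj'])
      (fun e' => hxD (by rw [show x = 1 from Subtype.ext e', map_one]))
    refine ⟨x, x.2, hxq.symm ▸ hq, hxq.symm ▸ hq_odd, ?_⟩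
    have h4 : mk (sh * x * sh⁻¹ * x) = 1 := by
      rw [map_mul, map_mul, map_mul, map_inv, hx, map_pow, hmk, hy0, ← pow_mul, ← conj_pow,
        ← hmk, hy, inv_pow, inv_mul_cancel]
    exact (hmem1 _).1 h4
  have hDT : D < T := lt_of_le_of_ne h.le_T fun e' => by
    have hTD : Nat.card D = Nat.card T := by rw [e']
    rw [hcard, hPcard] at hTD
    have := Nat.card_pos (α := D)
    omega
  obtain ⟨s, hs, hsD⟩ := SetLike.exists_of_lt hDT
  obtain ⟨x, hxH, hxp, hxo, hsx⟩ := hinverted s hs hsD
  refine ⟨h, by rw [hcard, hPcard, mul_comm], ?_, hinverted⟩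
  -- the bound on `D`
  set xh : H := ⟨x, hxH⟩ with hxh
  set sh : H := ⟨s, hTH hs⟩ with hsh
  set A := ((zpowers (mk xh)).comap mk).map H.subtype with hA
  have hDA : D < A := by
    refine lt_of_le_of_ne (fun d hd => ⟨⟨d, hDH hd⟩, ?_, rfl⟩) fun e' => ?_
    · rw [SetLike.mem_coe, mem_comap, (hmem1 ⟨d, hDH hd⟩).2 hd]; exact one_mem _
    · have hxD : x ∈ D := e' ▸ ⟨xh, mem_zpowers (mk xh), rfl⟩
      obtain ⟨j, hj⟩ := hDp ⟨x, hxD⟩
      have h2 : orderOf x ∣ 2 ^ j := orderOf_dvd_of_pow_eq_one (congrArg Subtype.val hj)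
      have := (Nat.prime_dvd_prime_iff_eq hxp Nat.prime_two).1 (hxp.dvd_of_dvd_pow h2)
      rw [this] at hxo
      exact absurd hxo (by decide)
  have hsA : s ∉ A := by
    rintro ⟨s', hs', e'⟩
    have hse : s' = sh := Subtype.ext e'
    subst hse
    have h2 : Odd (orderOf (mk sh)) :=
      (hxo.of_dvd_nat ((orderOf_map_dvd mk xh).trans (by rw [← Subgroup.orderOf_coe]))).of_dvd_nat
        (Nat.card_zpowers (mk xh) ▸ Subgroup.orderOf_dvd_natCard _ hs')
    have h3 : orderOf (mk sh) ∣ 2 := hPcard ▸ Subgroup.orderOf_dvd_natCard _ ((hmemP sh).2 hs)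
    rcases (Nat.dvd_prime Nat.prime_two).1 h3 with h4 | h4
    · exact hsD ((hmem1 sh).1 (orderOf_eq_one_iff.1 h4))
    · rw [h4] at h2; exact absurd h2 (by decide)
  have hAB : A < A ⊔ zpowers s :=
    lt_of_le_of_ne le_sup_left fun e' => hsA (e' ▸ mem_sup_right (mem_zpowers s))
  have hBH : A ⊔ zpowers s ≠ ⊤ := fun e' => hHtop (top_le_iff.1 (e' ▸
    sup_le (map_subtype_le _) (zpowers_le.2 (hTH hs))))
  have := ((len_of_card a D ha).step hDA |>.step hAB).le_seven h.eight.chain hBH
  rw [ha, show (32 : ℕ) = 2 ^ 5 from rfl]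
  exact pow_le_pow_right₀ one_le_two (by omega)

end CfsgLib.ChainEight
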