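import Cfsg.Agent.Lib.ChainEight.Basic
import Cfsg.Agent.Lib.Recog.CIT.Main
import Cfsg.Agent.Lib.Recog.TwoR.Consumers.Models

/-!
# Chain length eight: the identification
-/

set_option autoImplicit false
set_option linter.unusedSectionVars false

namespace CfsgLib.ChainEight

open Subgroup Matrix

universe u

/-- An upper unitriangular matrix. -/
def upper {F : Type} [CommRing F] (a : F) : SpecialLinearGroup (Fin 2) F :=
  ⟨!![1, a; 0, 1], by simp [Matrix.det_fin_two_of]⟩

theorem coe_upper {F : Type} [CommRing F] (a : F) :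
    ((upper a : SpecialLinearGroup (Fin 2) F) : Matrix (Fin 2) (Fin 2) F) = !![1, a; 0, 1] := rfl

/-- The unipotent subgroup of `PSL₂`. -/
noncomputable def upperHom (F : Type) [Field F] :
    Multiplicative F →* ProjectiveSpecialLinearGroup (Fin 2) F :=
  (QuotientGroup.mk' _).comp
    (MonoidHom.mk' (fun a => upper (Multiplicative.toAdd a)) fun a b => Subtype.ext (by
      show (!![1, _; 0, 1] : Matrix (Fin 2) (Fin 2) F) = !![1, _; 0, 1] * !![1, _; 0, 1]; simp [add_comm]))

theorem upperHom_injective (F : Type) [Field F] : Function.Injective (upperHom F) := by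
  rw [injective_iff_map_eq_one]
  intro a ha
  have hm : upper (Multiplicative.toAdd a) ∈ center (SpecialLinearGroup (Fin 2) F) :=
    (QuotientGroup.eq_one_iff _).1 ha
  let w : SpecialLinearGroup (Fin 2) F := ⟨!![1, 0; 1, 1], by simp [Matrix.det_fin_two_of]⟩
  have h1 := congrArg (fun g : SpecialLinearGroup (Fin 2) F => g.1 0 0) (mem_center_iff.1 hm w)
  have h2 : ∀ A B : Matrix (Fin 2) (Fin 2) F, A = !![1, 0; 1, 1] →
      B = !![1, Multiplicative.toAdd a; 0, 1] → (A * B) 0 0 = (B * A) 0 0 := by
    rintro _ _ rfl rfl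
    exact h1
  replace h2 := h2 _ _ rfl rfl
  simp at h2
  exact h2

variable {G : Type u} [Group G] [Finite G]

theorem not_psl_two_seven (h : Eight G) {S : Sylow 2 G}
    (hS : ∃ a ∈ (S : Subgroup G), ∃ b ∈ (S : Subgroup G), a * b ≠ b * a)
    {F : Type} [Field F] [Fintype F] (hF : Fintype.card F = 128)
    (e : G ≃* ProjectiveSpecialLinearGroup (Fin 2) F) : False := by
  classical
  haveI : Fact (Nat.Prime 2) := ⟨Nat.prime_two⟩
  set U := (upperHom F).range.comap e.toMonoidHom with hU
  have hUc : Nat.card U = 128 := by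
    rw [← hF, ← Nat.card_eq_fintype_card]
    have hmap : U.map e.toMonoidHom = (upperHom F).range :=
      Subgroup.map_comap_eq_self_of_surjective e.surjective _
    rw [← Subgroup.card_map_of_injective (f := e.toMonoidHom) e.injective, hmap]
    exact (Nat.card_congr (MonoidHom.ofInjective (upperHom_injective F)).toEquiv.symm).trans
      (Nat.card_congr Multiplicative.toAdd)
  have hUp : IsPGroup 2 U := IsPGroup.of_card (n := 7) (by rw [hUc]; norm_num)
  obtain ⟨P, hP⟩ := hUp.exists_le_sylow
  have hPU : (P : Subgroup G) = U := (Subgroup.eq_of_le_of_card_ge hP (by rw [hUc, h.card_syl P])).symm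
  obtain ⟨a, ha, b, hb, hab⟩ := hS
  obtain ⟨g, hg⟩ := MulAction.exists_smul_eq G S P
  have hconj : ∀ x ∈ (S : Subgroup G), g * x * g⁻¹ ∈ U := fun x hx => by
    rw [← hPU, ← hg]
    exact ⟨x, hx, rfl⟩
  obtain ⟨va, hva⟩ := hconj a ha
  obtain ⟨vb, hvb⟩ := hconj b hb
  apply hab
  have h1 : e (g * a * g⁻¹) * e (g * b * g⁻¹) = e (g * b * g⁻¹) * e (g * a * g⁻¹) := by
    show e.toMonoidHom _ * e.toMonoidHom _ = _
    rw [← hva, ← hvb, ← map_mul, mul_comm, map_mul]
    exact congrArg₂ (· * ·) hvb hva
  rw [← map_mul, ← map_mul] at h1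
  have h2 := e.injective h1
  have h3 : g * (a * b) * g⁻¹ = g * (b * a) * g⁻¹ := by
    simpa [mul_assoc] using h2
  exact mul_left_cancel (mul_right_cancel h3)

theorem list_of : ListStmt.{u} := by
  intro G _ _ S h hcit hS
  classical
  haveI : Fact (Nat.Prime 2) := ⟨Nat.prime_two⟩
  haveI := h.simple
  have hfac : (Nat.card G).factorization 2 = 7 := by
    have h1 := (Sylow.card_eq_multiplicity S).symm.trans (h.card_syl S)
    exact Nat.pow_right_injective le_rfl (by show 2 ^ _ = 2 ^ 7; rw [h1])
  have hdvd : 2 ^ 7 ∣ Nat.card G := hfac ▸ Nat.ordProj_dvd _ _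
  have hndvd : ¬ 2 ^ 8 ∣ Nat.card G := fun hd => by
    have := (Nat.prime_two.pow_dvd_iff_le_factorization Nat.card_pos.ne').1 hd
    omega
  rcases Recog.CIT.list_of_cit h.nonab hcit with
    ⟨F, iF, jF, hF, ⟨e⟩⟩ | ⟨F, iF, jF, hF, ⟨e⟩⟩ | hsz
  · have hc : Nat.card G = Fintype.card F * (Fintype.card F ^ 2 - 1) /
        Nat.gcd 2 (Fintype.card F - 1) := by
      rw [Nat.card_congr e.toEquiv, Classical.card_PSL_two, Nat.card_eq_fintype_card]
    rcases hF with h9 | ⟨n, hn⟩ | ⟨hp, k, hk⟩
    · rw [hc, h9] at hdvd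
      norm_num at hdvd
    · have hn7 : n = 7 := by
        rcases Nat.eq_zero_or_pos n with rfl | hn0
        · have := Fintype.one_lt_card (α := F)
          simp [hn] at this
        have hodd : Nat.gcd 2 (2 ^ n - 1) = 1 :=
          Nat.coprime_two_left.2 (Nat.Even.sub_odd Nat.one_le_two_pow
            ((Nat.even_pow' hn0.ne').2 even_two) odd_one)
        rw [hn, hodd, Nat.div_one] at hc
        have hodd2 : ¬ 2 ∣ (2 ^ n) ^ 2 - 1 := by
          rw [← even_iff_two_dvd, Nat.not_even_iff_odd]
          exact Nat.Even.sub_odd (Nat.one_le_pow _ _ (Nat.two_pow_pos n))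
            ((Nat.even_pow' (by norm_num)).2 ((Nat.even_pow' hn0.ne').2 even_two)) odd_one
        rw [hc, Nat.factorization_mul (by positivity) (fun h0 => hodd2 ⟨0, by omega⟩),
          Finsupp.add_apply, Nat.Prime.factorization_pow Nat.prime_two,
          Nat.factorization_eq_zero_of_not_dvd hodd2] at hfac
        simpa using hfac
      exact (not_psl_two_seven h hS (hn.trans (by rw [hn7]; norm_num)) e).elim
    · refine ⟨F, iF, jF, ?_, ⟨e⟩⟩
      set q := Fintype.card F with hq
      have hpart : ∀ m, ¬ 2 ∣ m → Nat.card G = 2 ^ k * m → k = 7 := fun m hm he => by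
        rw [he, Nat.factorization_mul (by positivity) (fun h0 => hm ⟨0, by omega⟩),
          Finsupp.add_apply, Nat.Prime.factorization_pow Nat.prime_two,
          Nat.factorization_eq_zero_of_not_dvd hm] at hfac
        simpa using hfac
      rcases Nat.lt_or_ge k 2 with hk2 | hk2
      · exfalso
        interval_cases k <;> rcases hk with hk | hk <;> norm_num at hk
        all_goals first
          | (rw [hk] at hc; rw [hc] at hdvd; norm_num at hdvd; done)
          | (have hq0 := hp.two_le; omega)
          | (rw [hk] at hp; norm_num at hp)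
          | (rw [show q = 3 by omega] at hc; rw [hc] at hdvd; norm_num at hdvd; done)
      have hev : 2 ∣ 2 ^ k := dvd_pow_self 2 (by omega)
      have hqodd : q % 2 = 1 := by rcases hk with hk | hk <;> omega
      have hg : Nat.gcd 2 (q - 1) = 2 := Nat.gcd_eq_left (by omega)
      have h4 : 2 ∣ 2 ^ (k - 1) := dvd_pow_self 2 (by omega)
      have hkk : 2 ^ k = 2 * 2 ^ (k - 1) := by rw [← pow_succ']; congr 1; omega
      have hsq : q ^ 2 - 1 = (q + 1) * (q - 1) := by rw [← one_pow 2, Nat.sq_sub_sq, one_pow]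
      rw [hg, hsq] at hc
      rcases hk with hk | hk
      · have hm : ¬ 2 ∣ q * (2 ^ (k - 1) + 1) := fun hd => by
          rcases Nat.prime_two.dvd_mul.1 hd with hd | hd <;> omega
        have h7 := hpart _ hm (by
          rw [hc, show q + 1 = 2 * (2 ^ (k - 1) + 1) by omega, show q - 1 = 2 ^ k by omega,
            show q * (2 * (2 ^ (k - 1) + 1) * 2 ^ k) = 2 ^ k * (q * (2 ^ (k - 1) + 1)) * 2 by ring,
            Nat.mul_div_cancel _ (by norm_num)])
        rw [h7] at hk
        norm_num at hk
        rw [hk] at hp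
        norm_num at hp
      · have hm : ¬ 2 ∣ q * (2 ^ (k - 1) - 1) := fun hd => by
          rcases Nat.prime_two.dvd_mul.1 hd with hd | hd <;> omega
        have h7 := hpart _ hm (by
          rw [hc, show q + 1 = 2 ^ k by omega, show q - 1 = 2 * (2 ^ (k - 1) - 1) by omega,
            show q * (2 ^ k * (2 * (2 ^ (k - 1) - 1))) = 2 ^ k * (q * (2 ^ (k - 1) - 1)) * 2 by ring,
            Nat.mul_div_cancel _ (by norm_num)])
        rw [h7] at hk
        norm_num at hk
        omega
  · exfalso
    rw [Nat.card_congr e.toEquiv, Recog.TwoR.Cons.card_psl_three_four hF] at hdvd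
    norm_num at hdvd
  · exfalso
    obtain ⟨-, m, hm, hcard⟩ := hsz
    have ho1 : ¬ 2 ∣ (2 ^ (2 * m + 1)) ^ 2 + 1 := by
      rw [← even_iff_two_dvd, Nat.not_even_iff_odd]
      exact ((Nat.even_pow' (by norm_num)).2 ((Nat.even_pow' (by omega)).2 even_two)).add_one
    have ho2 : ¬ 2 ∣ 2 ^ (2 * m + 1) - 1 := by
      rw [← even_iff_two_dvd, Nat.not_even_iff_odd]
      exact Nat.Even.sub_odd Nat.one_le_two_pow ((Nat.even_pow' (by omega)).2 even_two) odd_one
    rw [hcard, Nat.factorization_mul (by positivity) (fun h0 => ho2 ⟨0, by omega⟩),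
      Nat.factorization_mul (by positivity) (by positivity), Finsupp.add_apply, Finsupp.add_apply,
      Nat.factorization_eq_zero_of_not_dvd ho1, Nat.factorization_eq_zero_of_not_dvd ho2,
      Nat.factorization_pow, Finsupp.smul_apply, Nat.Prime.factorization_pow Nat.prime_two] at hfac
    simp at hfac
    omega

end CfsgLib.ChainEight
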