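import Cfsg.Agent.Lib.ChainEight.Basic
import Cfsg.Agent.S0111

/-!
# Chain length eight: a self-centralizing four-group
-/

set_option autoImplicit false
set_option linter.unusedSectionVars false

namespace CfsgLib.ChainEight

open Subgroup
open scoped commutatorElement

universe u

/-- A nilpotent group with cyclic abelianization is commutative. -/
theorem comm_of_closure {X : Type*} [Group X] [Finite X] [Group.IsNilpotent X] (a : X)
    (h : zpowers a ⊔ commutator X = ⊤) : ∀ p q : X, p * q = q * p := by
  have htop : zpowers a = ⊤ := by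
    by_contra hne
    obtain ⟨M, hM, hle⟩ := (eq_top_or_exists_le_coatom (zpowers a)).resolve_left hne
    haveI : M.Normal := NormalizerCondition.normal_of_coatom M normalizerCondition_of_isNilpotent hM
    obtain ⟨b, -, hb⟩ := SetLike.exists_of_lt (lt_top_iff_ne_top.2 hM.1)
    have hcy : ∀ q : X ⧸ M, q ∈ zpowers (b : X ⧸ M) := by
      intro q
      have hlt : M < (zpowers (b : X ⧸ M)).comap (QuotientGroup.mk' M) := by
        refine lt_of_le_of_ne (fun m hm => ?_) fun he => hb ?_
        · rw [mem_comap, QuotientGroup.mk'_apply, (QuotientGroup.eq_one_iff m).2 hm]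
          exact one_mem _
        · rw [he]
          exact mem_comap.2 (mem_zpowers _)
      obtain ⟨w, rfl⟩ := QuotientGroup.mk'_surjective M q
      have : w ∈ (zpowers (b : X ⧸ M)).comap (QuotientGroup.mk' M) := hM.2 _ hlt ▸ mem_top w
      exact this
    have hcom : commutator X ≤ M := by
      rw [commutator_def, commutator_le]
      intro p _ q _
      rw [← QuotientGroup.eq_one_iff]
      obtain ⟨i, hi⟩ := hcy p
      obtain ⟨j, hj⟩ := hcy q
      show QuotientGroup.mk' M ⁅p, q⁆ = 1
      rw [map_commutatorElement, show QuotientGroup.mk' M p = (b : X ⧸ M) ^ i from hi.symm,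
        show QuotientGroup.mk' M q = (b : X ⧸ M) ^ j from hj.symm,
        commutatorElement_eq_one_iff_mul_comm, ← zpow_add, ← zpow_add, add_comm]
    exact hM.1 (top_le_iff.1 (h ▸ sup_le hle hcom))
  intro p q
  obtain ⟨i, rfl⟩ := mem_zpowers_iff.1 (htop ▸ mem_top p)
  obtain ⟨j, rfl⟩ := mem_zpowers_iff.1 (htop ▸ mem_top q)
  rw [← zpow_add, ← zpow_add, add_comm]

theorem one : OneStmt.{u} := by
  intro G _ _ S D T C x u s z0 h hC
  classical
  haveI : Fact (Nat.Prime 2) := ⟨Nat.prime_two⟩
  haveI := h.eight.simple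
  have hu2 : u * u = 1 := by rw [← sq, ← h.u_two, pow_orderOf_eq_one]
  have hz2 : z0 * z0 = 1 := by rw [← sq, ← h.z0_two, pow_orderOf_eq_one]
  have hs2 : s * s = 1 := by rw [← sq, ← h.s_two, pow_orderOf_eq_one]
  have hus : u * s ≠ s * u := fun hc => by
    have : z0 = 1 := by
      rw [h.z0_eq]
      calc u * s * (u * s) = u * s * (s * u) := by rw [hc]
        _ = u * (s * s) * u := by group
        _ = 1 := by rw [hs2, mul_one, hu2]
    have h2 := h.z0_two
    rw [this, orderOf_one] at h2
    omega
  have huS : u ∈ (S : Subgroup G) := h.D_le_S h.u_mem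
  have hsS : s ∈ (S : Subgroup G) := h.le_S h.s_mem
  refine ⟨?_, u, huS, s, hsS, hus⟩
  set K := commutator (S : Subgroup G) with hK
  set u' : (S : Subgroup G) := ⟨u, huS⟩ with hu'
  set z' : (S : Subgroup G) := ⟨z0, h.D_le_S h.z0_mem⟩ with hz'
  -- the centralizer of `u` in `S`
  have hCbot : ∀ c ∈ C, c = 1 := fun c hc => by
    have := (Subgroup.eq_bot_of_card_eq C hC)
    rwa [this, mem_bot] at hc
  have hD : ∀ d ∈ D, d = 1 ∨ d = u ∨ d = z0 ∨ d = u * z0 := fun d hd => by
    obtain ⟨c, hc, hd'⟩ := h.decomp d hd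
    rw [hCbot c hc] at hd'
    simpa using hd'
  have hcD : Nat.card D = 4 := by rw [h.card_D, hC]
  have hcent : (centralizer ({u'} : Set (S : Subgroup G))) = D.subgroupOf (S : Subgroup G) := by
    ext a
    rw [mem_centralizer_singleton_iff, mem_subgroupOf]
    constructor
    · intro ha
      exact h.cent_u 1 (one_mem _) a a.2 (by simpa [u'] using congrArg Subtype.val ha)
    · intro ha
      exact Subtype.ext (by simpa [u'] using h.comm a ha u h.u_mem)
  have hindex : (centralizer ({u'} : Set (S : Subgroup G))).index = 32 := by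
    rw [hcent]
    have h1 := (D.subgroupOf (S : Subgroup G)).card_mul_index
    rw [Nat.card_congr (Subgroup.subgroupOfEquivOfLe h.D_le_S).toEquiv, hcD, h.eight.card_syl S] at h1
    omega
  -- the commutator map
  have hcm : ∀ g : (S : Subgroup G), g * u' * g⁻¹ * u'⁻¹ ∈ K := fun g => by
    rw [← commutatorElement_def, hK, commutator_def]
    exact commutator_mem_commutator (mem_top _) (mem_top _)
  let f : ((S : Subgroup G) ⧸ centralizer ({u'} : Set (S : Subgroup G))) → K := fun q =>
    ⟨q.out * u' * q.out⁻¹ * u'⁻¹, hcm _⟩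
  have hfinj : Function.Injective f := by
    intro q r hqr
    have h1 : q.out * u' * q.out⁻¹ = r.out * u' * r.out⁻¹ :=
      mul_right_cancel (congrArg Subtype.val hqr)
    rw [← QuotientGroup.out_eq' q, ← QuotientGroup.out_eq' r, QuotientGroup.eq,
      mem_centralizer_singleton_iff]
    calc q.out⁻¹ * r.out * u' = q.out⁻¹ * (r.out * u' * r.out⁻¹) * r.out := by group
      _ = q.out⁻¹ * (q.out * u' * q.out⁻¹) * r.out := by rw [h1]
      _ = u' * (q.out⁻¹ * r.out) := by group
  have hK32 : 32 ≤ Nat.card K := by
    rw [← hindex]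
    exact Nat.card_le_card_of_injective f hfinj
  -- the abelianization has order at least four
  have hKlt : Nat.card K = 32 := by
    have h1 := K.card_mul_index
    rw [h.eight.card_syl S] at h1
    have hdvd : Nat.card K ∣ 2 ^ 7 := ⟨K.index, by rw [h1]; norm_num⟩
    obtain ⟨j, hj7, hj⟩ := (Nat.dvd_prime_pow Nat.prime_two).1 hdvd
    by_contra hne
    have hj6 : 6 ≤ j := by
      by_contra hlt
      have : Nat.card K ≤ 2 ^ 5 := hj ▸ Nat.pow_le_pow_right (by norm_num) (by omega)
      omega
    haveI : Group.IsNilpotent (S : Subgroup G) := S.isPGroup'.isNilpotent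
    obtain ⟨a, ha⟩ : ∃ a : (S : Subgroup G), zpowers a ⊔ K = ⊤ := by
      by_cases hKt : K = ⊤
      · exact ⟨1, by rw [hKt]; simp⟩
      · obtain ⟨a, -, ha⟩ := SetLike.exists_of_lt (lt_top_iff_ne_top.2 hKt)
        refine ⟨a, ?_⟩
        have hidx : K.index = 2 := by
          have hi : K.index ≠ 1 := fun h => hKt (Subgroup.index_eq_one.1 h)
          have h64 : 2 ^ 6 ≤ Nat.card K := hj ▸ Nat.pow_le_pow_right (by norm_num) hj6
          rcases Nat.lt_or_ge K.index 3 with h3 | h3
          · have : K.index ≠ 0 := fun h0 => by rw [h0] at h1; simp at h1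
            omega
          · have := Nat.mul_le_mul h64 h3
            omega
        refine (SetLike.ext fun b => ⟨fun _ => mem_top b, fun _ => ?_⟩)
        by_cases hb : b ∈ K
        · exact mem_sup_right hb
        · have hab : a⁻¹ * b ∈ K := (Subgroup.mul_mem_iff_of_index_two hidx).2 (by simp [ha, hb])
          have := mul_mem (mem_sup_left (mem_zpowers a) : a ∈ zpowers a ⊔ K) (mem_sup_right hab)
          simpa using this
    have := comm_of_closure a ha u' ⟨s, hsS⟩
    exact hus (congrArg Subtype.val this)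
  have hfbij : Function.Bijective f := by
    have : Fintype K := Fintype.ofFinite _
    refine (Nat.bijective_iff_injective_and_card f).2 ⟨hfinj, ?_⟩
    rw [hKlt, ← hindex]
    rfl
  -- every element of `K u` is conjugate to `u`
  have hconj : ∀ k ∈ K, ∃ g : (S : Subgroup G), g * u' * g⁻¹ = k * u' := fun k hk => by
    obtain ⟨q, hq⟩ := hfbij.2 ⟨k, hk⟩
    exact ⟨q.out, by rw [← show q.out * u' * q.out⁻¹ * u'⁻¹ = k from congrArg Subtype.val hq]; group⟩
  have hu'2 : u' * u' = 1 := Subtype.ext hu2
  have hinv : ∀ k ∈ K, u' * k * u' = k⁻¹ := fun k hk => by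
    obtain ⟨g, hg⟩ := hconj k hk
    have h1 : (k * u') * (k * u') = 1 := by
      rw [← hg]
      calc g * u' * g⁻¹ * (g * u' * g⁻¹) = g * (u' * u') * g⁻¹ := by group
        _ = 1 := by rw [hu'2]; group
    exact eq_inv_of_mul_eq_one_right (by rw [← h1]; group)
  have huK : u' ∉ K := fun hk => by
    have hKc : K ≤ centralizer ({u'} : Set (S : Subgroup G)) := fun k hk' => by
      have h1 := hinv (k * u') (mul_mem hk' hk)
      have h2 := hinv k hk'
      rw [mul_inv_rev, inv_eq_of_mul_eq_one_right hu'2] at h1
      rw [mem_centralizer_singleton_iff]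
      have h3 : u' * k = u' * k⁻¹ := by
        rw [← h1]
        simp [mul_assoc, hu'2]
      have h4 : k⁻¹ = k := (mul_left_cancel h3).symm
      rw [h4] at h2
      calc k * u' = u' * (u' * k * u') := by simp [← mul_assoc, hu'2]
        _ = u' * k := by rw [h2]
    have hle := Subgroup.card_le_of_le hKc
    have hc4 : Nat.card (centralizer ({u'} : Set (S : Subgroup G))) = 4 := by
      rw [hcent, Nat.card_congr (Subgroup.subgroupOfEquivOfLe h.D_le_S).toEquiv, hcD]
    omega
  have hzK : z' ∈ K := by
    have : z' = u' * ⟨s, hsS⟩ * u'⁻¹ * (⟨s, hsS⟩ : (S : Subgroup G))⁻¹ := by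
      refine Subtype.ext ?_
      show z0 = u * s * u⁻¹ * s⁻¹
      rw [h.z0_eq, inv_eq_of_mul_eq_one_right hu2, inv_eq_of_mul_eq_one_right hs2]
      group
    rw [this, ← commutatorElement_def, hK, commutator_def]
    exact commutator_mem_commutator (mem_top _) (mem_top _)
  have hinvol : ∀ k ∈ K, k * k = 1 → k = 1 ∨ k = z' := fun k hk hk2 => by
    have h1 : u' * k * u' = k := (hinv k hk).trans (inv_eq_of_mul_eq_one_right hk2)
    have h2 : k ∈ centralizer ({u'} : Set (S : Subgroup G)) := mem_centralizer_singleton_iff.2 (by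
      calc k * u' = u' * k * u' * u' := by rw [h1]
        _ = u' * k := by rw [mul_assoc (u' * k), hu'2, mul_one])
    rw [hcent, mem_subgroupOf] at h2
    rcases hD _ h2 with h3 | h3 | h3 | h3
    · exact Or.inl (Subtype.ext h3)
    · exact absurd ((Subtype.ext h3 : k = u') ▸ hk) huK
    · exact Or.inr (Subtype.ext h3)
    · have h4 : k = u' * z' := Subtype.ext h3
      exfalso
      apply huK
      have := mul_mem (h4 ▸ hk) hzK
      rwa [mul_assoc, show z' * z' = 1 from Subtype.ext hz2, mul_one] at this
  haveI hKn : K.Normal := by rw [hK]; infer_instance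
  have hz1 : z0 ≠ 1 := fun e => by
    have h2 := h.z0_two
    rw [e, orderOf_one] at h2
    omega
  have hzc : ∀ a ∈ (S : Subgroup G), a * z0 = z0 * a := fun a ha => by
    set a' : (S : Subgroup G) := ⟨a, ha⟩
    have hm : a' * z' * a'⁻¹ ∈ K := hKn.conj_mem _ hzK _
    rcases hinvol _ hm (by
      calc a' * z' * a'⁻¹ * (a' * z' * a'⁻¹) = a' * (z' * z') * a'⁻¹ := by group
        _ = 1 := by rw [show z' * z' = 1 from Subtype.ext hz2]; group) with h1 | h1
    · exact absurd (congrArg Subtype.val (conj_eq_one_iff.1 h1)) hz1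
    · exact congrArg Subtype.val (mul_inv_eq_iff_eq_mul.1 h1)
  have hgz : Good z0 := h.eight.good_central (h.D_le_S h.z0_mem) hz1 hzc
  have hgu : Good u := h.conj_x ▸ hgz.conj x
  -- the index two subgroup
  let M : Subgroup (S : Subgroup G) :=
    { carrier := {a | a ∈ K ∨ a * u' ∈ K}
      one_mem' := Or.inl (one_mem _)
      mul_mem' := by
        intro a b ha hb
        rcases ha with ha | ha <;> rcases hb with hb | hb
        · exact Or.inl (mul_mem ha hb)
        · exact Or.inr (by rw [mul_assoc]; exact mul_mem ha hb)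
        · refine Or.inr ?_
          have h1 := mul_mem ha (hKn.conj_mem b hb u')
          rw [inv_eq_of_mul_eq_one_right hu'2] at h1
          rwa [show a * u' * (u' * b * u') = a * (u' * u') * b * u' by group, hu'2, mul_one] at h1
        · refine Or.inl ?_
          have h1 := mul_mem ha (hKn.conj_mem (b * u') hb u')
          rw [inv_eq_of_mul_eq_one_right hu'2] at h1
          rwa [show a * u' * (u' * (b * u') * u') = a * (u' * u') * b * (u' * u') by group, hu'2,
            mul_one, mul_one] at h1
      inv_mem' := by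
        intro a ha
        rcases ha with ha | ha
        · exact Or.inl (inv_mem ha)
        · refine Or.inr ?_
          have h1 := hKn.conj_mem _ (inv_mem ha) u'
          rw [inv_eq_of_mul_eq_one_right hu'2, mul_inv_rev, inv_eq_of_mul_eq_one_right hu'2] at h1
          rwa [show u' * (u' * a⁻¹) * u' = (u' * u') * a⁻¹ * u' by group, hu'2, one_mul] at h1 }
  have hMcard : Nat.card M = 64 := by
    have e : Nat.card M = Nat.card ((↑(↥K)) ⊕ (↑(↥K))) := by
      refine (Nat.card_congr (Equiv.ofBijective
        (fun a : (↥K) ⊕ (↥K) => (Sum.elim (fun k => (⟨k.1, Or.inl k.2⟩ : M))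
          (fun k => (⟨k.1 * u', Or.inr (by rw [mul_assoc, hu'2, mul_one]; exact k.2)⟩ : M)) a))
        ⟨?_, ?_⟩)).symm
      · rintro (a | a) (b | b) hab
        · exact congrArg Sum.inl (Subtype.ext (congrArg (fun w : M => (w : (S : Subgroup G))) hab))
        · exfalso
          apply huK
          have h1 : (a : (S : Subgroup G)) = b * u' := congrArg (fun w : M => (w : (S : Subgroup G))) hab
          have h2 := mul_mem (inv_mem b.2) a.2
          rwa [h1, inv_mul_cancel_left] at h2
        · exfalso
          apply huK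
          have h1 : (a : (S : Subgroup G)) * u' = b := congrArg (fun w : M => (w : (S : Subgroup G))) hab
          have h2 := mul_mem (inv_mem a.2) b.2
          rwa [← h1, inv_mul_cancel_left] at h2
        · exact congrArg Sum.inr (Subtype.ext (mul_right_cancel
            (congrArg (fun w : M => (w : (S : Subgroup G))) hab)))
      · rintro ⟨a, ha | ha⟩
        · exact ⟨Sum.inl ⟨a, ha⟩, rfl⟩
        · exact ⟨Sum.inr ⟨_, ha⟩, Subtype.ext (by simp [mul_assoc, hu'2])⟩
    rw [e, Nat.card_sum, hKlt]
  have hMi : (M.map (S : Subgroup G).subtype).relIndex (S : Subgroup G) = 2 := by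
    have h1 : (M.map (S : Subgroup G).subtype).subgroupOf (S : Subgroup G) = M :=
      Subgroup.comap_map_eq_self_of_injective (Subgroup.subtype_injective _) M
    rw [relIndex, h1]
    have h2 := M.card_mul_index
    rw [hMcard, h.eight.card_syl S] at h2
    omega
  have hMgood : ∀ a ∈ M, orderOf (a : G) = 2 → Good (a : G) := by
    intro a ha ha2
    rcases ha with ha | ha
    · have h1 : a * a = 1 := Subtype.ext (by
        simp [← sq, ← ha2, pow_orderOf_eq_one])
      rcases hinvol a ha h1 with rfl | rfl
      · simp at ha2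
      · exact hgz
    · obtain ⟨g, hg⟩ := hconj _ ha
      have : (a : G) = g * u * (g : G)⁻¹ := by
        have h1 := congrArg Subtype.val hg
        simp only [Subgroup.coe_mul, InvMemClass.coe_inv] at h1
        rw [show ((u' : (S : Subgroup G)) : G) = u from rfl, mul_assoc (a : G), hu2, mul_one] at h1
        exact h1.symm
      rw [this]
      exact hgu.conj _
  -- every involution of `S` is good
  have hSgood : ∀ a ∈ (S : Subgroup G), orderOf a = 2 → Good a := by
    intro a ha ha2
    by_cases haM : (⟨a, ha⟩ : (S : Subgroup G)) ∈ M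
    · exact hMgood _ haM ha2
    rcases Cfsg.Agent.S0111.result S (M.map (S : Subgroup G).subtype) (map_subtype_le M) hMi a ha2 ha
      (fun hm => by
        obtain ⟨b, hb, hbe⟩ := hm
        exact haM ((Subtype.ext hbe : b = ⟨a, ha⟩) ▸ hb)) with ⟨N, hN, hNi, -⟩ | ⟨g, hg⟩
    · exfalso
      rcases hN.eq_bot_or_eq_top with hb | ht
      · subst hb
        rw [Subgroup.index_bot] at hNi
        have := Subgroup.card_le_card_group (S : Subgroup G)
        rw [h.eight.card_syl S] at this
        omega
      · subst ht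
        simp at hNi
    · obtain ⟨b, hb, hbe⟩ := hg
      have hb2 : orderOf (b : G) = 2 := by
        rw [show (b : G) = g * a * g⁻¹ from hbe, ← MulAut.conj_apply, MulEquiv.orderOf_eq, ha2]
      have h1 := (hMgood b hb hb2).conj g⁻¹
      rw [show (b : G) = g * a * g⁻¹ from hbe] at h1
      simpa [mul_assoc] using h1
  intro t ht
  obtain ⟨P, hP⟩ := (IsPGroup.of_card (p := 2) (n := 1) (G := zpowers t)
    (by rw [Nat.card_zpowers, ht, pow_one])).exists_le_sylow
  obtain ⟨g, hg⟩ := MulAction.exists_smul_eq G P S
  have hm : g * t * g⁻¹ ∈ (S : Subgroup G) := by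
    rw [← hg]
    exact ⟨t, hP (mem_zpowers t), rfl⟩
  have h1 := (hSgood _ hm (by rw [← MulAut.conj_apply, MulEquiv.orderOf_eq, ht])).conj g⁻¹
  simp only [inv_inv] at h1
  rwa [show g⁻¹ * (g * t * g⁻¹) * g = t by group] at h1

end CfsgLib.ChainEight
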