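import Cfsg.Agent.Lib.ChainEight.Setup
import Cfsg.Agent.Lib.ChainEight.Exists
import Cfsg.Agent.Lib.ChainEight.One
import Cfsg.Agent.Lib.ChainEight.List

/-!
# Chain length eight: assembly
-/

set_option autoImplicit false

namespace CfsgLib.ChainEight

universe u

theorem main_of (hinv : InvStmt.{u}) (hcomm : CommStmt.{u}) (hshape : ShapeStmt.{u})
    (hfour : FourStmt.{u}) (htransfer : TransferStmt.{u}) (htwo : TwoStmt.{u})
    {G : Type u} [Group G] [Finite G] [IsSimpleGroup G] (hG : ¬ IsMulCommutative G)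
    (h9 : ∀ c : Fin 10 → Subgroup G, ¬ StrictAnti c)
    (S : Sylow 2 G) (hS : Nat.card (S : Subgroup G) = 2 ^ 7) :
    ∃ (F : Type) (_ : Field F) (_ : Fintype F), Fintype.card F = 127 ∧
      Nonempty (G ≃* Matrix.ProjectiveSpecialLinearGroup (Fin 2) F) := by
  have he : Eight G := eight_of hG h9 S hS
  obtain ⟨R, D, T, hloc⟩ := exists_loc G he
  have hi : Inv R D T := hinv G R D T hloc
  obtain ⟨C, x, u, s, z0, hp⟩ := hshape G R D T hi (hcomm G R D T hi)
  rcases hp.card_C with h1 | h2 | h4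
  · obtain ⟨hcit, hna⟩ := one G R D T C x u s z0 hp h1
    exact list_of G R he hcit hna
  · exact (htwo G R D T C x u s z0 hp h2).elim
  · obtain ⟨A, M, c, z, e, htd⟩ := hfour G R D T C x u s z0 hp h4
    exact (htransfer G R A M c z e htd).elim

end CfsgLib.ChainEight
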