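import Cfsg.Agent.Lib.ChainEight.Basic

/-!
# Chain length eight: chains and the global facts
-/

set_option autoImplicit false
set_option linter.unusedSectionVars false

namespace CfsgLib.ChainEight

open Subgroup

universe u

variable {G : Type u} [Group G] [Finite G]

/-- A strictly increasing chain of `n + 1` subgroups ending in `H`. -/
def HasChain (H : Subgroup G) (n : ℕ) : Prop :=
  ∃ c : Fin (n + 1) → Subgroup G, StrictMono c ∧ c (Fin.last n) = H

theorem hasChain_zero (H : Subgroup G) : HasChain H 0 :=
  ⟨fun _ => H, fun a b h => absurd h (by omega), rfl⟩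

theorem HasChain.succ {H K : Subgroup G} {n : ℕ} (h : HasChain H n) (hlt : H < K) :
    HasChain K (n + 1) := by
  obtain ⟨c, hc, hl⟩ := h
  refine ⟨Fin.snoc c K, Fin.strictMono_iff_lt_succ.2 fun i => ?_, by simp⟩
  induction i using Fin.lastCases with
  | last => simp [hl, hlt]
  | cast j =>
    rw [Fin.succ_castSucc, Fin.snoc_castSucc, Fin.snoc_castSucc]
    exact hc (Fin.castSucc_lt_succ (i := j))

theorem hasChain_of_card {n : ℕ} : ∀ P : Subgroup G, Nat.card P = 2 ^ n → HasChain P n := by
  haveI : Fact (Nat.Prime 2) := ⟨Nat.prime_two⟩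
  induction n with
  | zero => exact fun P _ => hasChain_zero P
  | succ k ih =>
    intro P hP
    obtain ⟨K, hK⟩ := Sylow.exists_subgroup_card_pow_prime 2 (G := P) (n := k)
      (by rw [hP]; exact pow_dvd_pow 2 k.le_succ)
    have hc : Nat.card (K.map P.subtype) = 2 ^ k :=
      (Subgroup.card_map_of_injective P.subtype_injective).trans hK
    refine (ih _ hc).succ (lt_of_le_of_ne (Subgroup.map_subtype_le K) fun he => ?_)
    rw [he, hP] at hc
    have := Nat.pow_right_injective le_rfl hc
    omega

/-- No chain of more than nine members. -/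
theorem hasChain_le (h9 : ∀ c : Fin 10 → Subgroup G, ¬ StrictAnti c) {H : Subgroup G} {n : ℕ}
    (h : HasChain H n) : n ≤ 8 := by
  by_contra hn
  obtain ⟨c, hc, -⟩ := h
  refine h9 (fun i => c ⟨n - i.1, by omega⟩) fun i j hij => hc ?_
  have := i.2
  have := j.2
  simp only [Fin.lt_def] at hij ⊢
  omega

theorem Eight.hasChain_le (h : Eight G) {H : Subgroup G} {n : ℕ} (hc : HasChain H n) : n ≤ 8 :=
  ChainEight.hasChain_le h.chain hc

/-- A chain below a proper subgroup has at most eight members. -/
theorem Eight.hasChain_le_seven (h : Eight G) {H : Subgroup G} {n : ℕ} (hc : HasChain H n)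
    (hne : H ≠ ⊤) : n ≤ 7 := by
  have := h.hasChain_le (hc.succ (lt_top_iff_ne_top.2 hne))
  omega

theorem eight_of [IsSimpleGroup G] (hG : ¬ IsMulCommutative G)
    (h9 : ∀ c : Fin 10 → Subgroup G, ¬ StrictAnti c)
    (S : Sylow 2 G) (hS : Nat.card (S : Subgroup G) = 2 ^ 7) : Eight G := by
  haveI : Fact (Nat.Prime 2) := ⟨Nat.prime_two⟩
  have hnab : ∃ a b : G, a * b ≠ b * a := by
    by_contra h
    push Not at h
    exact hG ⟨⟨h⟩⟩
  have hcard : ∀ R : Sylow 2 G, Nat.card (R : Subgroup G) = 128 := fun R => by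
    rw [Sylow.card_eq_multiplicity, ← Sylow.card_eq_multiplicity S, hS]; norm_num
  have hcenter : center G = ⊥ := by
    rcases (inferInstance : (center G).Normal).eq_bot_or_eq_top with h | h
    · exact h
    · obtain ⟨a, b, hab⟩ := hnab
      exact absurd ((mem_center_iff.1 (h ▸ mem_top b)) a) hab
  have hne : ∀ R : Sylow 2 G, (R : Subgroup G) ≠ ⊤ := fun R htop => by
    haveI : Nontrivial G := IsSimpleGroup.toNontrivial
    have hp : IsPGroup 2 G :=
      IsPGroup.of_surjective (htop ▸ R.isPGroup') (⊤ : Subgroup G).subtype fun g => ⟨⟨g, mem_top g⟩, rfl⟩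
    haveI := hp.center_nontrivial
    exact (Subgroup.nontrivial_iff_ne_bot _).1 inferInstance hcenter
  have hco : ∀ R : Sylow 2 G, IsCoatom (R : Subgroup G) := fun R => ⟨hne R, fun M hM => by
    by_contra hMt
    have h1 : HasChain (R : Subgroup G) 7 := hasChain_of_card _ (by rw [hcard R]; norm_num)
    have := hasChain_le h9 ((h1.succ hM).succ (lt_top_iff_ne_top.2 hMt))
    omega⟩
  refine ⟨inferInstance, inferInstance, hnab, h9, hcard, hco, fun R Q hQ hQR hle => ?_,
    fun R z hz hz1 hzc => ?_⟩
  · rcases hle.lt_or_eq with hlt | he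
    · have htop := (hco R).2 _ hlt
      have hn : Q.Normal := normalizer_eq_top_iff.1 htop
      rcases hn.eq_bot_or_eq_top with h | h
      · exact absurd h hQ
      · exact absurd (top_le_iff.1 (h ▸ hQR)) (hne R)
    · exact he.symm
  · have hle : (R : Subgroup G) ≤ centralizer ({z} : Set G) := fun a ha =>
      mem_centralizer_singleton_iff.2 (hzc a ha)
    rcases hle.lt_or_eq with hlt | he
    · have htop := (hco R).2 _ hlt
      have : z ∈ center G := mem_center_iff.2 fun g =>
        mem_centralizer_singleton_iff.1 (htop ▸ mem_top g)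
      exact absurd (by rwa [hcenter, mem_bot] at this) hz1
    · exact he.symm

end CfsgLib.ChainEight
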