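import Cfsg.Agent.Lib.ChainEight.Basic
import Cfsg.Agent.Lib.Coprime.Basic

/-!
# Chain length eight: the shape of an abelian `D`
-/

set_option autoImplicit false
set_option linter.style.haveILetI false
set_option linter.unusedSectionVars false

namespace CfsgLib.ChainEight

open Subgroup
open scoped Pointwise

universe u

variable {G : Type u} [Group G] [Finite G] {S : Sylow 2 G} {D T : Subgroup G}

theorem Inv.isPGroup_D (h : Inv S D T) : IsPGroup 2 D := S.isPGroup'.to_le h.toLoc.D_le_S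

/-- An element of odd order commuting with its conjugate data: squares. -/
theorem commute_of_sq {x q : G} (hx : Odd (orderOf x)) (h : Commute (x ^ 2) q) : Commute x q := by
  obtain ⟨k, hk⟩ := hx
  have : x = (x ^ 2) ^ (k + 1) := by
    rw [← pow_mul, show 2 * (k + 1) = orderOf x + 1 by omega, pow_succ, pow_orderOf_eq_one, one_mul]
  rw [this]
  exact h.pow_left _

theorem eq_one_of_pow_odd {w : G} {P : Subgroup G} (hP : IsPGroup 2 P) (hw : w ∈ P) {n : ℕ}
    (hn : Odd n) (h : w ^ n = 1) : w = 1 := by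
  obtain ⟨k, hk⟩ := hP ⟨w, hw⟩
  have h2 : w ^ (2 ^ k) = 1 := by simpa using congrArg Subtype.val hk
  rw [← orderOf_eq_one_iff]
  refine Nat.eq_one_of_dvd_coprimes ?_ (orderOf_dvd_of_pow_eq_one h) (orderOf_dvd_of_pow_eq_one h2)
  exact Nat.Coprime.pow_right k (Nat.coprime_two_right.2 hn)

theorem Inv.x_not_comm (h : Inv S D T) {x : G} (hx : (orderOf x).Prime) (hxo : Odd (orderOf x)) :
    ∃ d ∈ D, ¬ Commute x d := by
  by_contra hne
  push Not at hne
  have hxD : x ∈ D := h.toLoc.centric (mem_centralizer_iff.2 fun d hd => (hne d hd).eq.symm)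
  have := eq_one_of_pow_odd h.isPGroup_D hxD hxo (pow_orderOf_eq_one x)
  rw [this, orderOf_one] at hx
  exact Nat.not_prime_one hx

/-- The data attached to an element of `D^g` outside `D`. -/
structure Split (D : Subgroup G) (s : G) (P C W : Subgroup G) (x u z0 : G) : Prop where
  le_C : C ≤ P
  C_x : ∀ c ∈ C, x * c = c * x
  x_mem : x ∈ normalizer (D : Set G)
  x_odd : Odd (orderOf x)
  x_ne : x ≠ 1
  W_le : W ≤ D
  W_sq : ∀ w ∈ W, w * w = 1
  u_mem : u ∈ W
  z0_mem : z0 ∈ W
  inter : ∀ w ∈ W, w ∈ C → w = 1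
  u_ne : u ≠ 1
  z0_ne : z0 ≠ 1
  uz0_ne : u ≠ z0
  conj_x : x * z0 * x⁻¹ = u
  s_z0 : s * z0 * s⁻¹ = z0
  s_u : s * u * s⁻¹ = u * z0
  card_D : Nat.card D = 4 * Nat.card C
  W_eq : ∀ w ∈ W, w = 1 ∨ w = u ∨ w = z0 ∨ w = u * z0
  decomp : ∀ d ∈ D, ∃ w ∈ W, ∃ c ∈ C, d = w * c

theorem Inv.exists_split (h : Inv S D T) (hab : ∀ a ∈ D, ∀ b ∈ D, a * b = b * a) {D' : Subgroup G}
    (hD'T : D' ≤ T) (hab' : ∀ a ∈ D', ∀ b ∈ D', a * b = b * a)
    (hP : 2 * Nat.card (D ⊓ D' : Subgroup G) = Nat.card D) {s : G} (hs : s ∈ D') (hsD : s ∉ D) :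
    ∃ (C W : Subgroup G) (x u z0 : G), Split D s (D ⊓ D') C W x u z0 := by
  have hsT := hD'T hs
  obtain ⟨x, hxN, hxp, hxo, hd0⟩ := h.inverted s hsT hsD
  have hsN := h.toLoc.T_le hsT
  set P := D ⊓ D' with hPdef
  have hsP : ∀ p ∈ P, Commute s p := fun p hp => hab' s hs p hp.2
  set P' := P.map (MulAut.conj x).toMonoidHom with hP'
  have hP'D : P' ≤ D := by
    rintro _ ⟨p, hp, rfl⟩
    exact (mem_normalizer_iff.1 hxN p).1 hp.1
  have hfix : ∀ p ∈ P ⊓ P', Commute x p := by
    rintro p ⟨hp, q, hq, hqp⟩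
    change x * q * x⁻¹ = p at hqp
    obtain ⟨d0, hd0', hd0e⟩ : ∃ d0 ∈ D, s * x * s⁻¹ = d0 * x⁻¹ :=
      ⟨s * x * s⁻¹ * x, hd0, by group⟩
    have hqx : x⁻¹ * q * x ∈ D := by
      have := (mem_normalizer_iff.1 (inv_mem hxN) q).1 hq.1
      rwa [inv_inv] at this
    have e1 : s * p * s⁻¹ = x⁻¹ * q * x := by
      rw [← hqp, show s * (x * q * x⁻¹) * s⁻¹ = (s * x * s⁻¹) * (s * q * s⁻¹) * (s * x * s⁻¹)⁻¹ by group,
        hd0e, (hsP q hq).eq, mul_inv_cancel_right,
        show d0 * x⁻¹ * q * (d0 * x⁻¹)⁻¹ = d0 * (x⁻¹ * q * x) * d0⁻¹ by group,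
        hab d0 hd0' _ hqx, mul_inv_cancel_right]
    rw [(hsP p hp).eq, mul_inv_cancel_right] at e1
    have h2 : Commute (x ^ 2) q := by
      show x ^ 2 * q = q * x ^ 2
      calc x ^ 2 * q = x * (x * q * x⁻¹) * x := by rw [sq]; group
        _ = x * (x⁻¹ * q * x) * x := by rw [hqp, e1]
        _ = q * x ^ 2 := by rw [sq]; group
    have h1 := commute_of_sq hxo h2
    have hpq : p = q := by rw [← hqp, h1.eq, mul_inv_cancel_right]
    rw [hpq]; exact h1
  let θ : D →* G :=
    { toFun := fun d => x * (d : G) * x⁻¹ * (d : G)⁻¹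
      map_one' := by simp
      map_mul' := fun d d' => by
        have h1 : x * (d' : G) * x⁻¹ ∈ D := (mem_normalizer_iff.1 hxN d').1 d'.2
        have h2 := hab _ (mul_mem h1 (inv_mem d'.2)) _ (inv_mem d.2)
        calc x * ((d : G) * d') * x⁻¹ * ((d : G) * d')⁻¹
            = (x * d * x⁻¹) * ((x * d' * x⁻¹ * (d' : G)⁻¹) * (d : G)⁻¹) := by group
          _ = (x * d * x⁻¹) * ((d : G)⁻¹ * (x * d' * x⁻¹ * (d' : G)⁻¹)) := by rw [h2]
          _ = _ := by group }
  set W := θ.range with hW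
  set C := θ.ker.map D.subtype with hC
  have hCmem : ∀ c : G, c ∈ C ↔ c ∈ D ∧ Commute x c := by
    intro c
    constructor
    · rintro ⟨⟨d, hd⟩, hd1, rfl⟩
      refine ⟨hd, ?_⟩
      have h1 : x * d * x⁻¹ * d⁻¹ = 1 := hd1
      rw [mul_inv_eq_one, mul_inv_eq_iff_eq_mul] at h1
      exact h1
    · rintro ⟨hc, hxc⟩
      refine ⟨⟨c, hc⟩, ?_, rfl⟩
      show x * c * x⁻¹ * c⁻¹ = 1
      rw [hxc.eq]; group
  have hWD : W ≤ D := by
    rintro _ ⟨d, rfl⟩
    exact mul_mem ((mem_normalizer_iff.1 hxN d).1 d.2) (inv_mem d.2)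
  have hinter : ∀ w ∈ W, w ∈ C → w = 1 := by
    rintro _ ⟨d, rfl⟩ hwC
    obtain ⟨hwD, hxw⟩ := (hCmem _).1 hwC
    set w := θ d with hwdef
    have hw : x * (d : G) * x⁻¹ = w * d := by rw [hwdef]; show _ = x * (d : G) * x⁻¹ * (d : G)⁻¹ * d; group
    have hn : ∀ n : ℕ, x ^ n * (d : G) * (x ^ n)⁻¹ = w ^ n * d := by
      intro n
      induction n with
      | zero => simp
      | succ n ih =>
        rw [pow_succ', show x * x ^ n * (d : G) * (x * x ^ n)⁻¹ = x * (x ^ n * d * (x ^ n)⁻¹) * x⁻¹ by group,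
          ih, show x * (w ^ n * (d : G)) * x⁻¹ = (x * w ^ n * x⁻¹) * (x * d * x⁻¹) by group,
          (hxw.pow_right n).eq, mul_inv_cancel_right, hw, ← mul_assoc, ← pow_succ, pow_succ']
    have := hn (orderOf x)
    rw [pow_orderOf_eq_one, one_mul, inv_one, mul_one, right_eq_mul] at this
    exact eq_one_of_pow_odd h.isPGroup_D hwD hxo this
  have hcard : Nat.card C * Nat.card W = Nat.card D := by
    rw [hC, card_map_of_injective D.subtype_injective, hW, ← index_ker, card_mul_index]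
  have hPPC : P ⊓ P' ≤ C := fun p hp => (hCmem p).2 ⟨hp.1.1, hfix p hp⟩
  have hle4 : Nat.card D ≤ 4 * Nat.card (P ⊓ P' : Subgroup G) := by
    have h1 := CfsgLib.Coprime.card_sup_mul_card_inf (H := P) (N := P')
      (fun p hp => centralizer_le_normalizer _ (mem_centralizer_iff.2 fun q hq =>
        hab q (hP'D hq) p hp.1))
    rw [hP', card_map_of_injective (MulAut.conj x).injective, ← hP'] at h1
    have h2 : Nat.card (P ⊔ P' : Subgroup G) ≤ Nat.card D :=
      Subgroup.card_le_of_le (sup_le inf_le_left hP'D)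
    have h3 := Nat.mul_le_mul_right (Nat.card (P ⊓ P' : Subgroup G)) h2
    rw [h1] at h3
    rw [← hP] at h3 ⊢
    have h4 : Nat.card P * Nat.card P ≤ Nat.card P * (2 * Nat.card (P ⊓ P' : Subgroup G)) := by
      linarith [h3]
    have h5 := Nat.le_of_mul_le_mul_left h4 Nat.card_pos
    omega
  have hCle : Nat.card (P ⊓ P' : Subgroup G) ≤ Nat.card C := Subgroup.card_le_of_le hPPC
  have hW4 : Nat.card W ≤ 4 := by
    have : Nat.card C * Nat.card W ≤ Nat.card C * 4 := by omega
    exact Nat.le_of_mul_le_mul_left this Nat.card_pos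
  have hWx : ∀ w ∈ W, x * w * x⁻¹ ∈ W := by
    rintro _ ⟨d, rfl⟩
    refine ⟨⟨x * (d : G) * x⁻¹, (mem_normalizer_iff.1 hxN d).1 d.2⟩, ?_⟩
    show x * (x * (d : G) * x⁻¹) * x⁻¹ * (x * (d : G) * x⁻¹)⁻¹ = x * (x * (d : G) * x⁻¹ * (d : G)⁻¹) * x⁻¹
    group
  have hfpf : ∀ w ∈ W, x * w * x⁻¹ = w → w = 1 := fun w hw e =>
    hinter w hw ((hCmem w).2 ⟨hWD hw, mul_inv_eq_iff_eq_mul.1 e⟩)
  have hWp : IsPGroup 2 W := h.isPGroup_D.to_le hWD
  obtain ⟨wk, hwk⟩ := hWp.exists_card_eq
  obtain ⟨d₁, hd₁, hd₁x⟩ := h.x_not_comm hxp hxo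
  have hW1 : 1 < Nat.card W := by
    haveI : Nontrivial W := ⟨⟨θ ⟨d₁, hd₁⟩, ⟨_, rfl⟩⟩, 1, fun e => hd₁x (by
      have e' : x * d₁ * x⁻¹ * d₁⁻¹ = 1 := congrArg Subtype.val e
      rw [mul_inv_eq_one, mul_inv_eq_iff_eq_mul] at e'
      exact e')⟩
    exact Finite.one_lt_card
  have hWc : Nat.card W = 4 := by
    have : wk = 1 ∨ wk = 2 := by
      rw [hwk] at hW4 hW1
      have h2 : wk ≤ 2 := (Nat.pow_le_pow_iff_right one_lt_two).1 (show 2 ^ wk ≤ 2 ^ 2 by omega)
      rcases Nat.eq_zero_or_pos wk with h0 | h0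
      · rw [h0] at hW1; omega
      · omega
    rcases this with e | e
    · exfalso
      rw [e, pow_one] at hwk
      obtain ⟨⟨w, hw⟩, hw1, huniq⟩ := (Nat.card_eq_two_iff' (1 : W)).1 hwk
      have hne : x * w * x⁻¹ ≠ 1 := fun e1 => hw1 (Subtype.ext (conj_eq_one_iff.1 e1))
      have := huniq ⟨_, hWx w hw⟩ (fun e1 => hne (congrArg Subtype.val e1))
      exact hw1 (Subtype.ext (hfpf w hw (congrArg Subtype.val this)))
    · rw [hwk, e]; rfl
  have hsq : ∀ w ∈ W, w * w = 1 := by
    intro w hw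
    by_contra hne
    have ho : orderOf w = 4 := by
      have h4 : orderOf w ∣ 2 ^ 2 := by
        rw [show (2 : ℕ) ^ 2 = Nat.card W from hWc.symm]; exact Subgroup.orderOf_dvd_natCard W hw
      obtain ⟨i, hi, he⟩ := (Nat.dvd_prime_pow Nat.prime_two).1 h4
      interval_cases i
      · exact absurd (by rw [(orderOf_eq_one_iff.1 (by simpa using he) : w = 1), one_mul]) hne
      · exact absurd (by rw [← sq, ← (show orderOf w = 2 by simpa using he), pow_orderOf_eq_one]) hne
      · simpa using he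
    have hgen : zpowers w = W := eq_of_le_of_card_ge (zpowers_le.2 hw) (by
      rw [Nat.card_zpowers, ho, hWc])
    have hm := hWx w hw
    rw [← hgen] at hm
    obtain ⟨k, hk⟩ := mem_zpowers_iff.1 hm
    have h4 : w ^ 4 = 1 := ho ▸ pow_orderOf_eq_one w
    have hodd : k % 2 = 1 := by
      by_contra hev
      obtain ⟨j, rfl⟩ : ∃ j, k = 2 * j := ⟨k / 2, by omega⟩
      have h0 : (w ^ (2 * j)) ^ 2 = 1 := by
        rw [← zpow_natCast, ← zpow_mul, show 2 * j * ((2 : ℕ) : ℤ) = ((4 : ℕ) : ℤ) * j by push_cast; ring,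
          zpow_mul, zpow_natCast, h4, one_zpow]
      rw [hk, conj_pow, conj_eq_one_iff, sq] at h0
      exact hne h0
    refine hne (hfpf (w * w) (mul_mem hw hw) ?_)
    rw [← conj_mul, ← hk, ← zpow_add, ← sq, ← zpow_natCast]
    obtain ⟨j, rfl⟩ : ∃ j, k = 2 * j + 1 := ⟨k / 2, by omega⟩
    rw [show 2 * j + 1 + (2 * j + 1) = ((4 : ℕ) : ℤ) * j + ((2 : ℕ) : ℤ) by push_cast; ring, zpow_add,
      zpow_mul, zpow_natCast, h4, one_zpow, one_mul]
  have hsW : ∀ w ∈ W, s * w * s⁻¹ ∈ W := by
    rintro _ ⟨d, rfl⟩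
    obtain ⟨d0, hd0', hd0e⟩ : ∃ d0 ∈ D, s * x * s⁻¹ = d0 * x⁻¹ :=
      ⟨s * x * s⁻¹ * x, hd0, by group⟩
    have he : s * (d : G) * s⁻¹ ∈ D := (mem_normalizer_iff.1 hsN d).1 d.2
    have hm : x⁻¹ * (s * (d : G) * s⁻¹) * x ∈ D := by
      have := (mem_normalizer_iff.1 (inv_mem hxN) _).1 he
      rwa [inv_inv] at this
    refine ⟨⟨_, inv_mem hm⟩, ?_⟩
    show x * (x⁻¹ * (s * (d : G) * s⁻¹) * x)⁻¹ * x⁻¹ * (x⁻¹ * (s * (d : G) * s⁻¹) * x)⁻¹⁻¹ =
      s * (x * (d : G) * x⁻¹ * (d : G)⁻¹) * s⁻¹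
    calc x * (x⁻¹ * (s * (d : G) * s⁻¹) * x)⁻¹ * x⁻¹ * (x⁻¹ * (s * (d : G) * s⁻¹) * x)⁻¹⁻¹
        = (s * (d : G) * s⁻¹)⁻¹ * (x⁻¹ * (s * (d : G) * s⁻¹) * x) := by group
      _ = (x⁻¹ * (s * (d : G) * s⁻¹) * x) * (s * (d : G) * s⁻¹)⁻¹ := hab _ (inv_mem he) _ hm
      _ = d0 * (x⁻¹ * (s * (d : G) * s⁻¹) * x) * d0⁻¹ * (s * (d : G) * s⁻¹)⁻¹ := by
          rw [hab d0 hd0' _ hm, mul_inv_cancel_right]
      _ = (d0 * x⁻¹) * (s * (d : G) * s⁻¹) * (d0 * x⁻¹)⁻¹ * (s * (d : G) * s⁻¹)⁻¹ := by group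
      _ = _ := by rw [← hd0e]; group
  have hCP : C ≤ P := by
    have e : P ⊓ P' = C := eq_of_le_of_card_ge hPPC (by
      rw [hWc] at hcard
      omega)
    rw [← e]; exact inf_le_left
  have hnotall : ∃ w ∈ W, s * w * s⁻¹ ≠ w := by
    by_contra hall
    push Not at hall
    refine hsD (h.toLoc.centric (mem_centralizer_iff.2 fun d hd => ?_))
    have hsC : ∀ c ∈ C, Commute s c := fun c hc => hsP c (hCP hc)
    have hsW' : ∀ w ∈ W, Commute s w := fun w hw => mul_inv_eq_iff_eq_mul.1 (hall w hw)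
    have hdis : W ⊓ C = ⊥ := by
      rw [eq_bot_iff]; exact fun w hw => mem_bot.2 (hinter w hw.1 hw.2)
    have hsup : W ⊔ C = D := by
      refine eq_of_le_of_card_ge (sup_le hWD fun c hc => ((hCmem c).1 hc).1) ?_
      have h1 := CfsgLib.Coprime.card_sup_mul_card_inf (H := W) (N := C)
        (fun p hp => centralizer_le_normalizer _ (mem_centralizer_iff.2 fun q hq =>
          hab q ((hCmem q).1 hq).1 p (hWD hp)))
      rw [hdis, card_bot, mul_one] at h1
      rw [h1, ← hcard, mul_comm]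
    have : D ≤ centralizer ({s} : Set G) := hsup ▸ sup_le
      (fun w hw => mem_centralizer_singleton_iff.2 (hsW' w hw).eq.symm)
      (fun c hc => mem_centralizer_singleton_iff.2 (hsC c hc).eq.symm)
    exact mem_centralizer_singleton_iff.1 (this hd)
  obtain ⟨z0, hz0W, hz0ne, hz0s⟩ : ∃ z ∈ W, z ≠ 1 ∧ s * z * s⁻¹ = z := by
    obtain ⟨w, hw, hwne⟩ := hnotall
    refine ⟨w * (s * w * s⁻¹), mul_mem hw (hsW w hw), fun e => hwne ?_, ?_⟩
    · exact (inv_eq_of_mul_eq_one_right e).symm.trans (inv_eq_of_mul_eq_one_right (hsq w hw))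
    · have hs2 : Commute (s * s) w := by
        have hsT2 : s * s ∈ D := by
          have hi : (D.subgroupOf T).index = 2 := by
            have h1 := (D.subgroupOf T).card_mul_index
            rw [Nat.card_congr (subgroupOfEquivOfLe h.toLoc.le_T).toEquiv, h.card_T, mul_comm 2] at h1
            exact Nat.eq_of_mul_eq_mul_left Nat.card_pos h1
          exact mem_subgroupOf.1 ((mul_self_mem_of_index_two hi ⟨s, hsT⟩))
        exact hab _ hsT2 w (hWD hw)
      calc s * (w * (s * w * s⁻¹)) * s⁻¹ = s * w * s⁻¹ * ((s * s) * w * (s * s)⁻¹) := by group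
        _ = s * w * s⁻¹ * w := by rw [hs2.eq, mul_inv_cancel_right]
        _ = _ := hab _ (hWD (hsW w hw)) _ (hWD hw)
  set u := x * z0 * x⁻¹ with hu
  have huW := hWx z0 hz0W
  have hune : u ≠ 1 := fun e => hz0ne (conj_eq_one_iff.1 e)
  have huz : u ≠ z0 := fun e => hz0ne (hfpf z0 hz0W e)
  have hWeq : ∀ w ∈ W, w = 1 ∨ w = u ∨ w = z0 ∨ w = u * z0 := by
    intro w hw
    by_contra hne
    push Not at hne
    haveI := Fintype.ofFinite W
    classical
    have huz1 : u * z0 ≠ 1 := fun e => huz (by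
      rw [eq_inv_of_mul_eq_one_left e, inv_eq_of_mul_eq_one_right (hsq z0 hz0W)])
    let a₁ : W := ⟨1, one_mem _⟩
    let a₂ : W := ⟨u, huW⟩
    let a₃ : W := ⟨z0, hz0W⟩
    let a₄ : W := ⟨u * z0, mul_mem huW hz0W⟩
    let a₅ : W := ⟨w, hw⟩
    have h5 : ({a₁, a₂, a₃, a₄, a₅} : Finset W).card = 5 := by
      have e12 : a₁ ≠ a₂ := fun e => hune (congrArg Subtype.val e).symm
      have e13 : a₁ ≠ a₃ := fun e => hz0ne (congrArg Subtype.val e).symm
      have e14 : a₁ ≠ a₄ := fun e => huz1 (congrArg Subtype.val e).symm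
      have e15 : a₁ ≠ a₅ := fun e => hne.1 (congrArg Subtype.val e).symm
      have e23 : a₂ ≠ a₃ := fun e => huz (congrArg Subtype.val e)
      have e24 : a₂ ≠ a₄ := fun e => hz0ne (left_eq_mul.1 (congrArg Subtype.val e))
      have e25 : a₂ ≠ a₅ := fun e => hne.2.1 (congrArg Subtype.val e).symm
      have e34 : a₃ ≠ a₄ := fun e => hune (right_eq_mul.1 (congrArg Subtype.val e))
      have e35 : a₃ ≠ a₅ := fun e => hne.2.2.1 (congrArg Subtype.val e).symm
      have e45 : a₄ ≠ a₅ := fun e => hne.2.2.2 (congrArg Subtype.val e).symm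
      simp [e12, e13, e14, e15, e23, e24, e25, e34, e35, e45]
    have := Finset.card_le_univ ({a₁, a₂, a₃, a₄, a₅} : Finset W)
    rw [h5, ← Nat.card_eq_fintype_card, hWc] at this
    omega
  refine ⟨C, W, x, u, z0, hCP, fun c hc => ((hCmem c).1 hc).2.eq, hxN, hxo, ?_, hWD, hsq, huW, hz0W,
    hinter, hune, hz0ne, huz, rfl, hz0s, ?_, by rw [← hcard, hWc, mul_comm], hWeq, ?_⟩
  · rintro rfl
    simp at hxp
    exact Nat.not_prime_one hxp
  · obtain ⟨w, hw, hwne⟩ := hnotall
    have hsu : s * u * s⁻¹ ≠ u := by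
      intro e
      refine hwne ?_
      rcases hWeq w hw with rfl | rfl | rfl | rfl
      · group
      · exact e
      · exact hz0s
      · rw [← conj_mul, e, hz0s]
    rcases hWeq _ (hsW u huW) with e | e | e | e
    · exact absurd (conj_eq_one_iff.1 e) hune
    · exact absurd e hsu
    · refine absurd ?_ huz
      exact mul_left_cancel (mul_right_cancel (e.trans hz0s.symm))
    · exact e
  · intro d hd
    have hdis : W ⊓ C = ⊥ := by
      rw [eq_bot_iff]; exact fun w hw => mem_bot.2 (hinter w hw.1 hw.2)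
    have hnorm : W ≤ normalizer (C : Set G) := fun p hp => centralizer_le_normalizer _
      (mem_centralizer_iff.2 fun q hq => hab q ((hCmem q).1 hq).1 p (hWD hp))
    have hsup : W ⊔ C = D := by
      refine eq_of_le_of_card_ge (sup_le hWD fun c hc => ((hCmem c).1 hc).1) ?_
      have h1 := CfsgLib.Coprime.card_sup_mul_card_inf (H := W) (N := C) hnorm
      rw [hdis, card_bot, mul_one] at h1
      rw [h1, ← hcard, mul_comm]
    rw [← hsup] at hd
    have hd' : d ∈ ((W : Set G) * (C : Set G)) := by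
      rw [← coe_mul_of_left_le_normalizer_right W C hnorm]; exact hd
    obtain ⟨w, hw, c, hc, he⟩ := hd'
    exact ⟨w, hw, c, hc, he.symm⟩

/-- An abelian `D` has the shape of `Par`. -/
theorem shape : ShapeStmt.{u} := by
  intro G _ _ S D T h hab
  classical
  haveI : Fact (Nat.Prime 2) := ⟨Nat.prime_two⟩
  obtain ⟨g, hgS, hgT, hg2, hgN⟩ := h.toLoc.exists_g
  set D' := D.map (MulAut.conj g).toMonoidHom with hD'
  have hD'T : D' ≤ T := by
    rintro _ ⟨d, hd, rfl⟩
    exact (mem_normalizer_iff.1 hgN d).1 (h.toLoc.le_T hd)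
  have hcard' : Nat.card D' = Nat.card D := card_map_of_injective (MulAut.conj g).injective
  have hab' : ∀ a ∈ D', ∀ b ∈ D', a * b = b * a := by
    rintro _ ⟨a, ha, rfl⟩ _ ⟨b, hb, rfl⟩
    show MulAut.conj g a * MulAut.conj g b = MulAut.conj g b * MulAut.conj g a
    rw [← map_mul, hab a ha b hb, map_mul]
  have hne : ¬ D' ≤ D := by
    intro hle
    have he : D' = D := eq_of_le_of_card_ge hle hcard'.ge
    refine hgT (h.toLoc.mem_T hgS ?_)
    rw [mem_normalizer_iff]
    intro d
    refine ⟨fun hd => hle (mem_map_of_mem _ hd), fun hd => ?_⟩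
    rw [← he] at hd
    obtain ⟨d', hd', e⟩ := hd
    rwa [← (MulAut.conj g).injective e]
  have hDidx : (D.subgroupOf T).index = 2 := by
    have h1 := (D.subgroupOf T).card_mul_index
    rw [Nat.card_congr (subgroupOfEquivOfLe h.toLoc.le_T).toEquiv, h.card_T, mul_comm 2] at h1
    exact Nat.eq_of_mul_eq_mul_left Nat.card_pos h1
  have hmul : ∀ t ∈ T, ∀ t' ∈ T, t ∉ D → t' ∉ D → t * t' ∈ D := by
    intro t ht t' ht' hn hn'
    exact mem_subgroupOf.1 ((mul_mem_iff_of_index_two hDidx (a := ⟨t, ht⟩) (b := ⟨t', ht'⟩)).2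
      (iff_of_false hn hn'))
  have hnormD : D' ≤ normalizer (D : Set G) := hD'T.trans h.toLoc.T_le
  have hP : 2 * Nat.card (D ⊓ D' : Subgroup G) = Nat.card D := by
    have h1 := CfsgLib.Coprime.card_sup_mul_card_inf (H := D') (N := D) hnormD
    have hsup : D' ⊔ D = T := by
      refine le_antisymm (sup_le hD'T h.toLoc.le_T) fun t ht => ?_
      obtain ⟨s, hs, hsD⟩ := SetLike.not_le_iff_exists.1 hne
      by_cases htD : t ∈ D
      · exact mem_sup_right htD
      · have := mul_mem (mem_sup_left (T := D) (inv_mem hs))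
          (mem_sup_right (S := D') (hmul s (hD'T hs) t ht hsD htD))
        rwa [inv_mul_cancel_left] at this
    rw [hsup, h.card_T, hcard', inf_comm] at h1
    have h2 : Nat.card D * (2 * Nat.card (D ⊓ D' : Subgroup G)) = Nat.card D * Nat.card D := by
      linarith [h1]
    exact Nat.eq_of_mul_eq_mul_left Nat.card_pos h2
  -- an involution of `D'` outside `D`
  obtain ⟨s, hs, hsD, hs2⟩ : ∃ s ∈ D', s ∉ D ∧ orderOf s = 2 := by
    obtain ⟨s₀, hs₀, hs₀D⟩ := SetLike.not_le_iff_exists.1 hne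
    obtain ⟨C, W, x, u, z0, hsp⟩ := h.exists_split hab hD'T hab' hP hs₀ hs₀D
    by_contra hno
    push Not at hno
    have hu2 : orderOf u = 2 := orderOf_eq_prime (by rw [sq]; exact hsp.W_sq u hsp.u_mem) hsp.u_ne
    have key : ∀ a ∈ D', a * a = 1 → a ∈ D := by
      intro a ha ha2
      by_contra haD
      refine hno a ha haD (orderOf_eq_prime (by rw [sq]; exact ha2) ?_)
      rintro rfl
      exact haD (one_mem _)
    -- conjugation maps the involutions of `D` onto those of `D'`
    let I : Set G := {a | a ∈ D ∧ a * a = 1}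
    let J : Set G := {a | a ∈ D' ∧ a * a = 1}
    have hJI : J ⊆ I := fun a ha => ⟨key a ha.1 ha.2, ha.2⟩
    have hIJ : I.ncard ≤ J.ncard := by
      refine Set.ncard_le_ncard_of_injOn (fun a => MulAut.conj g a) (fun a ha => ⟨mem_map_of_mem _ ha.1,
        by rw [← map_mul, ha.2, map_one]⟩) ((MulAut.conj g).injective.injOn) (Set.toFinite _)
    have hJ : J = I := Set.eq_of_subset_of_ncard_le hJI hIJ (Set.toFinite _)
    have huI : u ∈ J := by rw [hJ]; exact ⟨hsp.W_le hsp.u_mem, hsp.W_sq u hsp.u_mem⟩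
    have hc : s₀ * u * s₀⁻¹ = u := by
      rw [hab' s₀ hs₀ u huI.1, mul_inv_cancel_right]
    rw [hsp.s_u] at hc
    exact hsp.z0_ne (mul_eq_left.1 hc)
  obtain ⟨C, W, x, u, z0, hsp⟩ := h.exists_split hab hD'T hab' hP hs hsD
  have hsT : s ∈ T := hD'T hs
  have hz0D := hsp.W_le hsp.z0_mem
  have huD := hsp.W_le hsp.u_mem
  have hss : s * s = 1 := by rw [← sq, ← hs2, pow_orderOf_eq_one]
  have hCD : C ≤ D := hsp.le_C.trans inf_le_left
  have hCs : ∀ c ∈ C, s * c = c * s := fun c hc => hab' s hs c (hsp.le_C hc).2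
  have hz0eq : z0 = u * s * (u * s) := by
    have h1 : s * u * s = u * z0 := by rw [← hsp.s_u, inv_eq_of_mul_eq_one_right hss]
    calc z0 = u * u * z0 := by rw [hsp.W_sq u hsp.u_mem, one_mul]
      _ = u * (s * u * s) := by rw [h1, mul_assoc]
      _ = _ := by group
  have huC : u ∉ C := fun hc => hsp.u_ne (hsp.inter u hsp.u_mem hc)
  have hz0C : z0 ∉ C := fun hc => hsp.z0_ne (hsp.inter z0 hsp.z0_mem hc)
  have huzC : u * z0 ∉ C := fun hc => hsp.uz0_ne (by
    have := hsp.inter _ (mul_mem hsp.u_mem hsp.z0_mem) hc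
    rw [eq_inv_of_mul_eq_one_left this, inv_eq_of_mul_eq_one_right (hsp.W_sq z0 hsp.z0_mem)])
  have hdec : ∀ d ∈ D, ∃ c ∈ C, d = c ∨ d = u * c ∨ d = z0 * c ∨ d = u * z0 * c := by
    intro d hd
    obtain ⟨w, hw, c, hc, rfl⟩ := hsp.decomp d hd
    refine ⟨c, hc, ?_⟩
    rcases hsp.W_eq w hw with rfl | rfl | rfl | rfl <;> simp
  have hTeq : ∀ t ∈ T, t ∈ D ∨ s * t ∈ D := fun t ht => by
    by_cases htD : t ∈ D
    · exact Or.inl htD
    · exact Or.inr (hmul s hsT t ht hsD htD)
  have hcentu : ∀ c ∈ C, ∀ a ∈ (S : Subgroup G), a * (u * c) = u * c * a → a ∈ D := by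
    intro c hc a ha hac
    set X := (S : Subgroup G) ⊓ centralizer ({u * c} : Set G) with hX
    have hDX : D ≤ X := fun d hd =>
      ⟨h.toLoc.D_le_S hd, mem_centralizer_singleton_iff.2 (hab d hd _ (mul_mem huD (hCD hc)))⟩
    by_contra haD
    have hlt : D.subgroupOf X < ⊤ := by
      rw [lt_top_iff_ne_top, Ne, subgroupOf_eq_top]
      exact fun hle => haD (hle ⟨ha, mem_centralizer_singleton_iff.2 hac⟩)
    haveI := ((S.isPGroup'.to_le (inf_le_left : X ≤ (S : Subgroup G)))).isNilpotent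
    obtain ⟨b, hbN, hbD⟩ := SetLike.exists_of_lt (normalizerCondition_of_isNilpotent _ hlt)
    have hbn : (b : G) ∈ normalizer (D : Set G) := by
      refine mem_normalizer_iff.2 fun d => ⟨fun hd => ?_, fun hd => ?_⟩
      · exact (mem_normalizer_iff.1 hbN ⟨d, hDX hd⟩).1 hd
      · have hdX : d ∈ X := by
          have := mul_mem (mul_mem (inv_mem b.2) (hDX hd)) b.2
          rwa [show (b : G)⁻¹ * ((b : G) * d * (b : G)⁻¹) * b = d by group] at this
        exact (mem_normalizer_iff.1 hbN ⟨d, hdX⟩).2 hd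
    rcases hTeq _ (h.toLoc.mem_T b.2.1 hbn) with hb | hb
    · exact hbD hb
    · have h1 := mem_centralizer_singleton_iff.1 b.2.2
      have h2 := hab _ hb (u * c) (mul_mem huD (hCD hc))
      have h3 : s * (u * c) = u * c * s := by
        refine mul_right_cancel (b := (b : G)) ?_
        rw [mul_assoc, ← h1, ← mul_assoc, h2, mul_assoc (u * c)]
      have h4 : s * u * s⁻¹ = u := by
        rw [mul_inv_eq_iff_eq_mul]
        refine mul_right_cancel (b := c) ?_
        rw [mul_assoc, h3, mul_assoc, ← hCs c hc, mul_assoc]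
      rw [hsp.s_u] at h4
      exact hsp.z0_ne (mul_eq_left.1 h4)
  have hconju : ∀ a ∈ (S : Subgroup G), a * u * a⁻¹ ∈ D →
      a * u * a⁻¹ = u ∨ a * u * a⁻¹ = u * z0 := by
    intro a ha hau
    have hle : D.map (MulAut.conj a⁻¹).toMonoidHom ≤ D := by
      rintro _ ⟨d, hd, rfl⟩
      show a⁻¹ * d * a⁻¹⁻¹ ∈ D
      rw [inv_inv]
      refine hcentu 1 (one_mem _) _ (mul_mem (mul_mem (inv_mem ha) (h.toLoc.D_le_S hd)) ha) ?_
      rw [mul_one]
      calc a⁻¹ * d * a * u = a⁻¹ * (d * (a * u * a⁻¹)) * a := by group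
        _ = a⁻¹ * (a * u * a⁻¹ * d) * a := by rw [hab d hd _ hau]
        _ = _ := by group
    have he : D.map (MulAut.conj a⁻¹).toMonoidHom = D :=
      eq_of_le_of_card_ge hle (card_map_of_injective (MulAut.conj a⁻¹).injective).ge
    have hain : a⁻¹ ∈ normalizer (D : Set G) := by
      refine mem_normalizer_iff.2 fun d => ⟨fun hd => hle (mem_map_of_mem _ hd), fun hd => ?_⟩
      rw [← he] at hd
      obtain ⟨d', hd', e⟩ := hd
      rwa [← (MulAut.conj a⁻¹).injective e]
    have haT : a ∈ T := h.toLoc.mem_T ha (by simpa using inv_mem hain)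
    rcases hTeq a haT with haD | haD
    · exact Or.inl (by rw [hab a haD u huD, mul_inv_cancel_right])
    · right
      obtain ⟨d, hd, rfl⟩ : ∃ d ∈ D, a = s * d := ⟨s * a, haD, by rw [← mul_assoc, hss, one_mul]⟩
      rw [show s * d * u * (s * d)⁻¹ = s * (d * u * d⁻¹) * s⁻¹ by group, hab d hd u huD,
        mul_inv_cancel_right, hsp.s_u]
  obtain ⟨ck, hck⟩ := (h.isPGroup_D.to_le hCD).exists_card_eq
  have hCcard : Nat.card C = 1 ∨ Nat.card C = 2 ∨ Nat.card C = 4 := by
    have hle := h.card_D_le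
    rw [hsp.card_D, hck] at hle
    have hk3 : ck ≤ 3 := (Nat.pow_le_pow_iff_right one_lt_two).1 (show 2 ^ ck ≤ 2 ^ 3 by omega)
    interval_cases ck
    · simp [hck]
    · simp [hck]
    · simp [hck]
    exfalso
    set P := D ⊓ D' with hPdef
    have hD32 : Nat.card D = 32 := by rw [hsp.card_D, hck]; norm_num
    -- `P` is central in `T`
    have hPT : ∀ p ∈ P, ∀ t ∈ T, t * p = p * t := by
      intro p hp t ht
      rcases hTeq t ht with htD | htD
      · exact hab t htD p hp.1
      · have h1 := hab _ htD p hp.1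
        have h2 := hab' s hs p hp.2
        calc t * p = s * (s * t * p) := by rw [← mul_assoc, ← mul_assoc, hss, one_mul]
          _ = s * (p * (s * t)) := by rw [h1]
          _ = p * s * (s * t) := by rw [← mul_assoc s p, h2]
          _ = _ := by rw [mul_assoc, ← mul_assoc s s, hss, one_mul]
    have hgP : ∀ p ∈ P, g * p * g⁻¹ ∈ P := by
      rintro p ⟨hp1, hp2⟩
      refine ⟨?_, mem_map_of_mem _ hp1⟩
      obtain ⟨d, hd, rfl⟩ := hp2
      show g * (g * d * g⁻¹) * g⁻¹ ∈ D
      rw [show g * (g * d * g⁻¹) * g⁻¹ = g * g * d * (g * g)⁻¹ by group]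
      exact (mem_normalizer_iff.1 (h.toLoc.T_le hg2) d).1 hd
    have hgg : ∀ p ∈ P, g * (g * p * g⁻¹) * g⁻¹ = p := fun p hp => by
      rw [show g * (g * p * g⁻¹) * g⁻¹ = g * g * p * (g * g)⁻¹ by group, hPT p hp _ hg2,
        mul_inv_cancel_right]
    have hz0P : z0 ∈ P := by
      refine ⟨hz0D, ?_⟩
      by_contra hzD'
      -- `s` fixes `z₀`, so `z₀` commutes with `D'`
      have hsup : D' ≤ centralizer ({z0} : Set G) := fun d hd => by
        refine mem_centralizer_singleton_iff.2 ?_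
        have hdd : s * d ∈ D ∨ d ∈ D := (hTeq d (hD'T hd)).symm
        rcases hdd with hd' | hd'
        · have hszs : Commute s z0 := mul_inv_eq_iff_eq_mul.1 hsp.s_z0
          have h1 := hab _ hd' z0 hz0D
          calc d * z0 = s * (s * d * z0) := by rw [← mul_assoc, ← mul_assoc, hss, one_mul]
            _ = s * (z0 * (s * d)) := by rw [h1]
            _ = z0 * s * (s * d) := by rw [← mul_assoc s z0, hszs.eq]
            _ = _ := by rw [mul_assoc, ← mul_assoc s s, hss, one_mul]
        · exact hab d hd' z0 hz0D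
      have hcz : ∀ d ∈ D', z0 * d = d * z0 := fun d hd =>
        (mem_centralizer_singleton_iff.1 (hsup hd)).symm
      have hz' : g⁻¹ * z0 * g ∈ centralizer (D : Set G) := mem_centralizer_iff.2 fun d hd => by
        have := hcz (g * d * g⁻¹) (mem_map_of_mem _ hd)
        calc d * (g⁻¹ * z0 * g) = g⁻¹ * (g * d * g⁻¹ * z0) * g := by group
          _ = g⁻¹ * (z0 * (g * d * g⁻¹)) * g := by rw [this]
          _ = g⁻¹ * z0 * g * d := by group
      exact hzD' ⟨_, h.toLoc.centric hz', show g * (g⁻¹ * z0 * g) * g⁻¹ = z0 by group⟩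
    -- commutators in `T`
    have hsd : ∀ d ∈ D, s * d * s⁻¹ = d ∨ s * d * s⁻¹ = d * z0 := by
      intro d hd
      obtain ⟨c, hc, e⟩ := hdec d hd
      have hcfix : s * c * s⁻¹ = c := by rw [hCs c hc, mul_inv_cancel_right]
      rcases e with e | e | e | e <;> rw [e]
      · exact Or.inl hcfix
      · right
        rw [← conj_mul, hsp.s_u, hcfix, mul_assoc, hab z0 hz0D c (hCD hc), ← mul_assoc]
      · left; rw [← conj_mul, hsp.s_z0, hcfix]
      · right
        rw [← conj_mul, ← conj_mul, hsp.s_u, hsp.s_z0, hcfix]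
        rw [mul_assoc (u * z0) z0 c, hab z0 hz0D c (hCD hc), ← mul_assoc]
    have hgz0 : g * z0 * g⁻¹ = z0 := by
      set a := g * u * g⁻¹ with ha
      set b := g * s * g⁻¹ with hb
      have haT : a ∈ T := (mem_normalizer_iff.1 hgN u).1 (h.toLoc.le_T huD)
      have hbT : b ∈ T := (mem_normalizer_iff.1 hgN s).1 hsT
      have hab1 : g * z0 * g⁻¹ = a * b * (a * b) := by rw [hz0eq, ha, hb]; group
      have ha2 : a * a = 1 := by rw [ha, conj_mul, hsp.W_sq u hsp.u_mem]; group
      have hb2 : b * b = 1 := by rw [hb, conj_mul, hss]; group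
      have hne1 : a * b * (a * b) ≠ 1 := by
        rw [← hab1]; intro e; exact hsp.z0_ne (conj_eq_one_iff.1 e)
      have hz0T : ∀ t ∈ T, t * z0 = z0 * t := fun t ht => hPT z0 hz0P t ht
      have hz2 := hsp.W_sq z0 hsp.z0_mem
      -- each of the two elements is `d` or `s d`
      have hcomm : ∀ p ∈ T, ∀ q ∈ T, p * q = q * p ∨ p * q = q * p * z0 := by
        intro p hp q hq
        have hsds : ∀ d ∈ D, s * d = d * s ∨ s * d = d * s * z0 := fun d hd => by
          rcases hsd d hd with e | e <;> rw [mul_inv_eq_iff_eq_mul] at e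
          · exact Or.inl e
          · exact Or.inr (by rw [e, mul_assoc, ← hz0T s hsT, ← mul_assoc])
        have hds : ∀ d ∈ D, d * s = s * d ∨ d * s = s * d * z0 := fun d hd => by
          rcases hsds d hd with e | e
          · exact Or.inl e.symm
          · exact Or.inr (by rw [e, mul_assoc (d * s), hz2, mul_one])
        have hform : ∀ t ∈ T, t ∈ D ∨ ∃ d ∈ D, t = s * d := fun t ht => (hTeq t ht).imp id
          fun hd => ⟨s * t, hd, by rw [← mul_assoc, hss, one_mul]⟩
        rcases hform p hp with hp' | ⟨d, hd, rfl⟩ <;> rcases hform q hq with hq' | ⟨e', he', rfl⟩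
        · exact Or.inl (hab p hp' q hq')
        · rcases hds p hp' with e | e
          · left; rw [← mul_assoc, e, mul_assoc s p, hab p hp' e' he', ← mul_assoc]
          · right
            rw [← mul_assoc, e, mul_assoc (s * p) z0 e', ← hab e' he' z0 hz0D, ← mul_assoc,
              mul_assoc s p, hab p hp' e' he', ← mul_assoc]
        · rcases hsds q hq' with e | e
          · left; rw [mul_assoc, hab d hd q hq', ← mul_assoc, e, mul_assoc]
          · right
            rw [mul_assoc, hab d hd q hq', ← mul_assoc, e, mul_assoc (q * s) z0 d,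
              hab z0 hz0D d hd, ← mul_assoc, mul_assoc q s d]
        · rcases hds d hd with e | e <;> rcases hds e' he' with e2 | e2
          · left
            calc s * d * (s * e') = s * (d * s) * e' := by group
              _ = d * e' := by rw [e, ← mul_assoc s s, hss, one_mul]
              _ = e' * d := hab d hd e' he'
              _ = s * (e' * s) * d := by rw [e2, ← mul_assoc s s, hss, one_mul]
              _ = _ := by group
          · right
            have h1 : e' * d = s * (e' * s) * d * z0 := by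
              rw [e2, ← mul_assoc s (s * e') z0, ← mul_assoc s s, hss, one_mul, mul_assoc e' z0 d,
                hab z0 hz0D d hd, ← mul_assoc, mul_assoc (e' * d), hz2, mul_one]
            calc s * d * (s * e') = s * (d * s) * e' := by group
              _ = d * e' := by rw [e, ← mul_assoc s s, hss, one_mul]
              _ = e' * d := hab d hd e' he'
              _ = s * (e' * s) * d * z0 := h1
              _ = _ := by group
          · right
            calc s * d * (s * e') = s * (d * s) * e' := by group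
              _ = d * z0 * e' := by rw [e, ← mul_assoc s (s * d) z0, ← mul_assoc s s, hss, one_mul]
              _ = d * e' * z0 := by rw [mul_assoc d, hab z0 hz0D e' he', ← mul_assoc]
              _ = e' * d * z0 := by rw [hab d hd e' he']
              _ = s * (e' * s) * d * z0 := by rw [e2, ← mul_assoc s s, hss, one_mul]
              _ = _ := by group
          · left
            calc s * d * (s * e') = s * (d * s) * e' := by group
              _ = d * z0 * e' := by rw [e, ← mul_assoc s (s * d) z0, ← mul_assoc s s, hss, one_mul]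
              _ = e' * z0 * d := by
                  rw [mul_assoc, hab z0 hz0D e' he', ← mul_assoc, hab d hd e' he', mul_assoc e',
                    hab d hd z0 hz0D, ← mul_assoc]
              _ = s * (e' * s) * d := by rw [e2, ← mul_assoc s (s * e') z0, ← mul_assoc s s, hss, one_mul]
              _ = _ := by group
      rcases hcomm a haT b hbT with e | e
      · exfalso
        apply hne1
        calc a * b * (a * b) = a * b * (b * a) := by rw [e]
          _ = a * (b * b) * a := by group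
          _ = 1 := by rw [hb2, mul_one, ha2]
      · rw [hab1]
        calc a * b * (a * b) = b * a * z0 * (a * b) := by nth_rw 1 [e]
          _ = b * a * (z0 * a) * b := by group
          _ = b * a * (a * z0) * b := by rw [hz0T a haT]
          _ = b * (a * a) * (z0 * b) := by group
          _ = b * (b * z0) := by rw [ha2, mul_one, hz0T b hbT]
          _ = _ := by rw [← mul_assoc, hb2, one_mul]
    -- a fixed element of `C`
    obtain ⟨c, hc, hc1, hcg⟩ : ∃ c ∈ C, c ≠ 1 ∧ g * c * g⁻¹ = c := by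
      have hP16 : Nat.card P = 16 := by omega
      have hCP : C ≤ P := hsp.le_C
      have hsqC : ∀ p ∈ P, p * p ∈ C := by
        intro p hp
        obtain ⟨w, hw, c, hc, rfl⟩ := hsp.decomp p hp.1
        rw [show w * c * (w * c) = w * (c * w) * c by group, hab c (hCD hc) w (hsp.W_le hw),
          show w * (w * c) * c = w * w * (c * c) by group, hsp.W_sq w hw, one_mul]
        exact mul_mem hc hc
      by_contra hno
      push Not at hno
      have hinvl : ∀ p ∈ P, g * p * g⁻¹ = p⁻¹ → p * p = 1 := by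
        intro p hp he
        by_contra hne
        have hqC := hsqC p hp
        obtain ⟨j, hj⟩ := (h.isPGroup_D.to_le hCD) ⟨p * p, hqC⟩
        have hj' : (p * p) ^ (2 ^ j) = 1 := by simpa using congrArg Subtype.val hj
        obtain ⟨i, -, hi⟩ := (Nat.dvd_prime_pow Nat.prime_two).1 (orderOf_dvd_of_pow_eq_one hj')
        obtain ⟨i, rfl⟩ : ∃ i', i = i' + 1 := Nat.exists_eq_succ_of_ne_zero fun h0 => hne (by
          rw [h0, pow_zero, orderOf_eq_one_iff] at hi; exact hi)
        set r := (p * p) ^ (2 ^ i) with hr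
        have hr2 : r * r = 1 := by
          rw [hr, ← pow_add, ← two_mul, ← pow_succ', ← hi, pow_orderOf_eq_one]
        have hr1 : r ≠ 1 := fun e => by
          have := orderOf_dvd_of_pow_eq_one e
          rw [hi, Nat.pow_dvd_pow_iff_le_right one_lt_two] at this
          omega
        refine hno r (pow_mem hqC _) hr1 ?_
        rw [hr, ← conj_pow, ← conj_mul, he, ← mul_inv_rev, inv_pow, ← hr]
        exact inv_eq_of_mul_eq_one_right hr2
      let φ : P →* G :=
        { toFun := fun p => (p : G) * (g * (p : G) * g⁻¹)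
          map_one' := by simp
          map_mul' := fun p q => by
            have h1 : (q : G) * (g * (p : G) * g⁻¹) = g * (p : G) * g⁻¹ * q :=
              hab _ q.2.1 _ (hgP _ p.2).1
            calc (p : G) * q * (g * ((p : G) * q) * g⁻¹)
                = (p : G) * ((q : G) * (g * (p : G) * g⁻¹)) * (g * (q : G) * g⁻¹) := by group
              _ = (p : G) * ((g * (p : G) * g⁻¹) * q) * (g * (q : G) * g⁻¹) := by rw [h1]
              _ = _ := by group }
      -- the fixed elements
      let F : Subgroup G := P ⊓ centralizer ({g} : Set G)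
      have hFC : F ⊓ C = ⊥ := by
        rw [eq_bot_iff]
        rintro r ⟨⟨-, hr⟩, hrC⟩
        rw [mem_bot]
        by_contra hr1
        refine hno r hrC hr1 ?_
        rw [← mem_centralizer_singleton_iff.1 hr, mul_inv_cancel_right]
      have hF2 : Nat.card F ≤ 2 := by
        have h1 := CfsgLib.Coprime.card_sup_mul_card_inf (H := F) (N := C)
          (fun p hp => centralizer_le_normalizer _ (mem_centralizer_iff.2 fun q hq =>
            hab q (hCD hq) p hp.1.1))
        rw [hFC, card_bot, mul_one, hck] at h1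
        have h2 := Subgroup.card_le_of_le (sup_le (inf_le_left : F ≤ P) hCP)
        rw [h1, hP16] at h2
        omega
      have hrange : φ.range ≤ F := by
        rintro _ ⟨p, rfl⟩
        refine ⟨mul_mem p.2 (hgP _ p.2), mem_centralizer_singleton_iff.2 ?_⟩
        show (p : G) * (g * (p : G) * g⁻¹) * g = g * ((p : G) * (g * (p : G) * g⁻¹))
        symm
        rw [← mul_inv_eq_iff_eq_mul]
        rw [show g * ((p : G) * (g * (p : G) * g⁻¹)) * g⁻¹ =
          g * (p : G) * g⁻¹ * (g * (g * (p : G) * g⁻¹) * g⁻¹) by group, hgg _ p.2]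
        exact hab _ (hgP _ p.2).1 _ p.2.1
      have hker : φ.ker.map P.subtype ≤ F := by
        rintro _ ⟨p, hp, rfl⟩
        have e : g * (p : G) * g⁻¹ = (p : G)⁻¹ := eq_inv_of_mul_eq_one_right hp
        refine ⟨p.2, mem_centralizer_singleton_iff.2 ?_⟩
        have h2 := hinvl _ p.2 e
        rw [inv_eq_of_mul_eq_one_right h2, mul_inv_eq_iff_eq_mul] at e
        exact e.symm
      have h1 := Subgroup.card_le_of_le hrange
      have h2 := Subgroup.card_le_of_le hker
      rw [card_map_of_injective P.subtype_injective] at h2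
      have h3 := φ.ker.card_mul_index
      rw [index_ker, hP16] at h3
      have := Nat.mul_le_mul (h2.trans hF2) (h1.trans hF2)
      omega
    refine not_good_of_odd hsp.x_odd hsp.x_ne (hsp.C_x c hc)
      (h.toLoc.eight.good_central (h.toLoc.D_le_S (hCD hc)) hc1 fun a ha => ?_)
    by_cases haT : a ∈ T
    · exact hPT c (hsp.le_C hc) a haT
    · have hT64 : Nat.card T = 64 := by rw [h.card_T, hD32]
      have hidx : (T.subgroupOf (S : Subgroup G)).index = 2 := by
        have h1 := (T.subgroupOf (S : Subgroup G)).card_mul_index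
        rw [Nat.card_congr (subgroupOfEquivOfLe h.toLoc.le_S).toEquiv, hT64,
          h.toLoc.eight.card_syl S] at h1
        omega
      have hga : g * a ∈ T := mem_subgroupOf.1 ((mul_mem_iff_of_index_two hidx
        (a := ⟨g, hgS⟩) (b := ⟨a, ha⟩)).2 (iff_of_false hgT haT))
      have h1 := hPT c (hsp.le_C hc) _ hga
      rw [mul_inv_eq_iff_eq_mul] at hcg
      refine mul_left_cancel (a := g) ?_
      rw [← mul_assoc, h1, ← mul_assoc, ← hcg, ← mul_assoc]
  exact ⟨C, x, u, s, z0,
    { toInv := h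
      comm := hab
      le_C := hCD
      C_x := hsp.C_x
      C_s := hCs
      x_mem := hsp.x_mem
      x_odd := hsp.x_odd
      u_mem := huD
      u_two := orderOf_eq_prime (by rw [sq]; exact hsp.W_sq u hsp.u_mem) hsp.u_ne
      s_mem := hsT
      s_notMem := hsD
      s_two := hs2
      z0_mem := hz0D
      z0_two := orderOf_eq_prime (by rw [sq]; exact hsp.W_sq z0 hsp.z0_mem) hsp.z0_ne
      z0_eq := hz0eq
      conj_x := hsp.conj_x
      card_D := hsp.card_D
      decomp := hdec
      u_notMem := huC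
      z0_notMem := hz0C
      uz0_notMem := huzC
      T_eq := hTeq
      card_C := hCcard
      cent_u := hcentu
      conj_u := hconju }⟩

end CfsgLib.ChainEight
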