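import Cfsg.Agent.Lib.ChainEight.Defs
import Cfsg.Agent.Lib.Involutions.ExtraspecialTransfer

/-!
# The transfer arguments for simple groups of chain length eight
-/

set_option autoImplicit false
set_option linter.unusedSectionVars false

namespace CfsgLib.ChainEight

open Subgroup

universe u

variable {G : Type u} [Group G] [Finite G]

/-- The sign character of a subgroup of index two in a Sylow subgroup. -/
theorem exists_sign (S : Sylow 2 G) {M : Subgroup G} (hM : M.relIndex (S : Subgroup G) = 2) :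
    ∃ χ : ↥(S : Subgroup G) →* ℤˣ, ∀ a, χ a = 1 ↔ (a : G) ∈ M := by
  classical
  refine ⟨
    { toFun := fun a => if (a : G) ∈ M then 1 else -1
      map_one' := by simp [one_mem]
      map_mul' := fun a b => ?_ }, fun a => ?_⟩
  · have h : ((a * b : ↥(S : Subgroup G)) : G) ∈ M ↔ ((a : G) ∈ M ↔ (b : G) ∈ M) :=
      mul_mem_iff_of_index_two (H := M.subgroupOf (S : Subgroup G)) hM
    by_cases ha : (a : G) ∈ M <;> by_cases hb : (b : G) ∈ M <;> simp_all
  · by_cases ha : (a : G) ∈ M <;> simp [ha]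

/-- Conjugation inside the Sylow subgroup preserves a subgroup of index two. -/
theorem conj_mem_of_relIndex_two (S : Sylow 2 G) {M : Subgroup G}
    (hM : M.relIndex (S : Subgroup G) = 2) (hle : M ≤ (S : Subgroup G)) {a m : G}
    (ha : a ∈ (S : Subgroup G)) (hm : m ∈ M) : a * m * a⁻¹ ∈ M := by
  have hn : (M.subgroupOf (S : Subgroup G)).Normal := normal_of_index_eq_two hM
  exact hn.conj_mem ⟨m, hle hm⟩ hm ⟨a, ha⟩

/-- A simple non-abelian group is generated by its elements of odd order. -/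
theorem pResidual_eq_top (hs : IsSimpleGroup G) (hnab : ∃ a b : G, a * b ≠ b * a) :
    Cfsg.pResidual 2 G = ⊤ := by
  have hn : (Cfsg.pResidual 2 G).Normal := by
    refine Subgroup.Normal.mk fun x hx g => ?_
    have hle : (Cfsg.pResidual 2 G).map (MulAut.conj g).toMonoidHom ≤ Cfsg.pResidual 2 G := by
      rw [map_le_iff_le_comap]
      refine (closure_le _).2 fun y hy => ?_
      refine subset_closure ?_
      show Nat.Coprime (orderOf ((MulAut.conj g) y)) 2
      rw [(MulAut.conj g).orderOf_eq]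
      exact hy
    exact hle ⟨x, hx, rfl⟩
  refine ((hs.eq_bot_or_eq_top_of_normal _ hn)).resolve_left fun hbot => ?_
  haveI : Fact (Nat.Prime 2) := ⟨Nat.prime_two⟩
  have h2 : IsPGroup 2 G := by
    intro x
    obtain ⟨j, m, hodd, he⟩ := Nat.exists_eq_two_pow_mul_odd (orderOf_pos x).ne'
    refine ⟨j, ?_⟩
    have ho : orderOf (x ^ 2 ^ j) = m := by
      rw [orderOf_pow' _ (by positivity), he, Nat.gcd_eq_right (Dvd.intro m rfl),
        Nat.mul_div_cancel_left _ (by positivity)]
    have hmem : x ^ 2 ^ j ∈ Cfsg.pResidual 2 G :=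
      subset_closure (show Nat.Coprime _ 2 from ho ▸ hodd.coprime_two_right)
    rwa [hbot, mem_bot] at hmem
  haveI : Nontrivial G := hs.toNontrivial
  haveI := h2.center_nontrivial
  obtain ⟨a, b, hab⟩ := hnab
  have hc : center G = ⊤ := (hs.eq_bot_or_eq_top_of_normal _ inferInstance).resolve_left
    ((Subgroup.nontrivial_iff_ne_bot _).1 inferInstance)
  exact hab (mem_center_iff.1 (hc ▸ mem_top b : b ∈ center G) a)

/-- Thompson's transfer lemma with an extremal conjugate. -/
theorem extremal : ExtremalStmt.{u} := by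
  intro G _ _ hs hnab S M hMS hM c hcS hc hcM
  haveI : Fact (Nat.Prime 2) := ⟨Nat.prime_two⟩
  obtain ⟨χ, hχ⟩ := exists_sign S hM
  let P0 : Sylow 2 (centralizer ({c} : Set G)) := default
  set R : Subgroup G := (P0 : Subgroup (centralizer ({c} : Set G))).map (Subgroup.subtype _) with hR
  obtain ⟨g, h, h1, h2⟩ := Involutions.ExtraTransfer.exists_extremal_ker (pResidual_eq_top hs hnab)
    S χ hc R (P0.isPGroup'.map _) (map_subtype_le _)
  refine ⟨g⁻¹ * c * g, (hχ _).1 h1, isConj_iff.2 ⟨g⁻¹, by rw [inv_inv]⟩, fun P hP hPc => ?_⟩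
  -- the subgroup is not larger than the Sylow subgroup of the centralizer
  obtain ⟨Q, hQ⟩ := (hP.comap_subtype (K := centralizer ({c} : Set G))).exists_le_sylow
  have hcard : Nat.card P ≤ Nat.card R := by
    rw [← Nat.card_congr (subgroupOfEquivOfLe hPc).toEquiv, hR,
      card_map_of_injective (subtype_injective _)]
    refine (card_le_of_le hQ).trans ?_
    rw [Q.card_eq_multiplicity, P0.card_eq_multiplicity]
  refine hcard.trans ?_
  have hmap : R.map (MulAut.conj g⁻¹).toMonoidHom ≤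
      (S : Subgroup G) ⊓ centralizer ({g⁻¹ * c * g} : Set G) := by
    rintro _ ⟨r, hr, rfl⟩
    refine ⟨?_, mem_centralizer_singleton_iff.2 ?_⟩
    · show g⁻¹ * r * g⁻¹⁻¹ ∈ (S : Subgroup G)
      rw [inv_inv]
      exact h2 r hr
    · show g⁻¹ * r * g⁻¹⁻¹ * (g⁻¹ * c * g) = g⁻¹ * c * g * (g⁻¹ * r * g⁻¹⁻¹)
      have hrc : r * c = c * r := mem_centralizer_singleton_iff.1 (map_subtype_le _ hr)
      calc g⁻¹ * r * g⁻¹⁻¹ * (g⁻¹ * c * g) = g⁻¹ * (r * c) * g := by group
        _ = g⁻¹ * (c * r) * g := by rw [hrc]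
        _ = _ := by group
  exact le_of_eq_of_le (Nat.card_congr (R.equivMapOfInjective _ (MulAut.conj g⁻¹).injective).toEquiv)
    (card_le_of_le hmap)

/-- An involution of the cyclic group of an element. -/
theorem orderOf_pow_two_pow {x : G} {k : ℕ} (h : orderOf x = 2 ^ (k + 1)) :
    orderOf (x ^ 2 ^ k) = 2 := by
  rw [orderOf_pow' _ (by positivity), h,
    Nat.gcd_eq_right (pow_dvd_pow 2 (by omega)), pow_succ,
    Nat.mul_div_cancel_left _ (by positivity)]

/-- The transfer argument. -/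
theorem transfer : TransferStmt.{u} := by
  intro G _ _ S R M c z0 e D
  classical
  haveI : Fact (Nat.Prime 2) := ⟨Nat.prime_two⟩
  obtain ⟨χ, hχ⟩ := exists_sign S D.M_index
  -- an element outside of least order
  have hne : ∃ h ∈ (S : Subgroup G), h ∉ M := by
    by_contra hall
    push Not at hall
    have := D.M_index
    rw [relIndex_eq_one.2 hall] at this
    omega
  obtain ⟨h, ⟨hS, hM⟩, hmin⟩ : ∃ h, (h ∈ (S : Subgroup G) ∧ h ∉ M) ∧
      ∀ h', h' ∈ (S : Subgroup G) ∧ h' ∉ M → orderOf h ≤ orderOf h' := by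
    obtain ⟨a, ha, ha'⟩ := hne
    have hex : ∃ n, ∃ x, (x ∈ (S : Subgroup G) ∧ x ∉ M) ∧ orderOf x = n := ⟨_, a, ⟨ha, ha'⟩, rfl⟩
    obtain ⟨x, hx, hn⟩ := Nat.find_spec hex
    exact ⟨x, hx, fun y hy => hn ▸ Nat.find_min' hex ⟨y, hy, rfl⟩⟩
  have hz0ne : z0 ≠ 1 := fun h0 => by
    have := D.z0_two
    rw [h0, orderOf_one] at this
    omega
  have hzS : z0 ∈ (S : Subgroup G) := D.R_le D.z0_mem
  have hcz : centralizer ({z0} : Set G) = (S : Subgroup G) :=
    D.eight.cent S z0 hzS hz0ne D.z0_central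
  have hgood : Good z0 := by
    unfold Good
    rw [hcz]
    exact S.isPGroup'
  have hconjgood : ∀ g : G, Good (g * z0 * g⁻¹) := by
    intro g
    unfold Good
    intro ⟨a, ha⟩
    have hm : g⁻¹ * a * g ∈ centralizer ({z0} : Set G) := by
      rw [mem_centralizer_singleton_iff]
      calc g⁻¹ * a * g * z0 = g⁻¹ * (a * (g * z0 * g⁻¹)) * g := by group
        _ = g⁻¹ * (g * z0 * g⁻¹ * a) * g := by rw [mem_centralizer_singleton_iff.1 ha]
        _ = _ := by group
    obtain ⟨i, hi⟩ := hgood ⟨_, hm⟩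
    refine ⟨i, Subtype.ext ?_⟩
    have h2 : (g⁻¹ * a * g) ^ 2 ^ i = 1 := by simpa using congrArg Subtype.val hi
    have h3 : g⁻¹ * a ^ 2 ^ i * g = 1 := by
      have e1 := conj_pow (i := 2 ^ i) (a := g⁻¹) (b := a)
      rw [inv_inv] at e1
      rw [← e1, h2]
    show a ^ 2 ^ i = 1
    calc a ^ 2 ^ i = g * (g⁻¹ * a ^ 2 ^ i * g) * g⁻¹ := by group
      _ = 1 := by rw [h3]; group
  obtain ⟨n, hn⟩ : ∃ n, orderOf h = 2 ^ n := by
    obtain ⟨i, hi⟩ := S.isPGroup' ⟨h, hS⟩
    obtain ⟨j, -, hj⟩ := (Nat.dvd_prime_pow Nat.prime_two).1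
      (orderOf_dvd_of_pow_eq_one (show h ^ 2 ^ i = 1 by simpa using congrArg Subtype.val hi))
    exact ⟨j, hj⟩
  obtain ⟨r, hr, hhr⟩ := D.not_M h hS hM
  have hen : e < n := by
    by_contra hle
    push Not at hle
    have h1 : h ^ 2 ^ e = 1 := by
      rw [← orderOf_dvd_iff_pow_eq_one, hn]; exact pow_dvd_pow 2 hle
    rw [h1] at hhr
    exact D.c_notMem (eq_inv_of_mul_eq_one_left hhr.symm ▸ inv_mem hr)
  obtain ⟨j, rfl⟩ : ∃ j, n = e + j + 1 := ⟨n - e - 1, by omega⟩
  have hinvol : orderOf (h ^ 2 ^ (e + j)) = 2 := orderOf_pow_two_pow hn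
  -- no conjugate of the element in the Sylow subgroup lies in the kernel
  have hfix : ∀ g : G, g⁻¹ * h * g ∈ (S : Subgroup G) → g⁻¹ * h * g ∉ M := by
    intro g _ hgM
    set m := g⁻¹ * h * g with hm
    have hmk : ∀ i : ℕ, m ^ i = g⁻¹ * h ^ i * g := fun i => by
      have e1 := conj_pow (i := i) (a := g⁻¹) (b := h)
      rwa [inv_inv] at e1
    have hmR : m ^ 2 ^ (e + j) ∈ R := by
      rw [pow_add, pow_mul]; exact pow_mem (D.in_M m hgM) _
    have hmz : m ^ 2 ^ (e + j) = z0 := by
      refine (D.R_invol _ hmR ?_).resolve_left fun h1 => ?_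
      · rw [hmk]
        calc g⁻¹ * h ^ 2 ^ (e + j) * g * (g⁻¹ * h ^ 2 ^ (e + j) * g)
            = g⁻¹ * (h ^ 2 ^ (e + j)) ^ 2 * g := by rw [sq]; group
          _ = 1 := by
            have hsq := pow_orderOf_eq_one (h ^ 2 ^ (e + j))
            rw [hinvol] at hsq
            rw [hsq]; group
      · rw [hmk] at h1
        have h3 : h ^ 2 ^ (e + j) = 1 := by
          calc h ^ 2 ^ (e + j) = g * (g⁻¹ * h ^ 2 ^ (e + j) * g) * g⁻¹ := by group
            _ = 1 := by rw [h1]; group
        rw [h3, orderOf_one] at hinvol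
        omega
    have hhz : h ^ 2 ^ (e + j) = g * z0 * g⁻¹ := by rw [← hmz, hmk]; group
    rcases Nat.eq_zero_or_pos j with rfl | hj
    · rw [add_zero] at hhz hinvol
      rw [hhr] at hhz hinvol
      have hr2 : r * r = 1 := by
        have h4 : (c * r) ^ 2 = 1 := hinvol ▸ pow_orderOf_eq_one _
        have h5 : c ^ 2 = 1 := D.c_two ▸ pow_orderOf_eq_one _
        rw [(show Commute c r from D.c_comm r hr).mul_pow, h5, one_mul, sq] at h4
        exact h4
      rcases D.R_invol r hr hr2 with rfl | rfl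
      · rw [mul_one] at hhz
        exact D.bad (hhz ▸ hconjgood g)
      · exact D.bad' (hhz ▸ hconjgood g)
    · obtain ⟨i, rfl⟩ : ∃ i, j = i + 1 := ⟨j - 1, by omega⟩
      have h5 : h ^ 2 ^ (e + (i + 1)) = r ^ 2 ^ (i + 1) := by
        rw [pow_add, pow_mul, hhr, (show Commute c r from D.c_comm r hr).mul_pow, pow_succ 2 i,
          mul_comm (2 ^ i) 2, pow_mul c, ← D.c_two, pow_orderOf_eq_one, one_pow, one_mul]
      have h6 : h ^ 2 ^ (e + (i + 1)) = z0 := by
        refine (D.R_invol _ (h5 ▸ pow_mem hr _) ?_).resolve_left fun h1 => ?_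
        · have hsq := pow_orderOf_eq_one (h ^ 2 ^ (e + (i + 1)))
          rw [hinvol, sq] at hsq
          exact hsq
        · rw [h1, orderOf_one] at hinvol; omega
      rw [h6] at hhz
      have hgS : g ∈ (S : Subgroup G) := by
        rw [← hcz, mem_centralizer_singleton_iff]
        exact (eq_mul_inv_iff_mul_eq.1 hhz).symm
      refine hM ?_
      have h7 := conj_mem_of_relIndex_two S D.M_index D.M_le hgS hgM
      rwa [hm, show g * (g⁻¹ * h * g) * g⁻¹ = h by group] at h7
  -- the transfer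
  have := Fintype.ofFinite (G ⧸ (S : Subgroup G))
  have hV : MonoidHom.transfer χ h = 1 := by
    have hs := D.eight.simple
    rcases hs.eq_bot_or_eq_top_of_normal (MonoidHom.transfer χ).ker inferInstance with hb | ht
    · obtain ⟨a, b, hab⟩ := D.eight.nonab
      exact absurd ((MonoidHom.ker_eq_bot_iff _).1 hb (by rw [map_mul, map_mul, mul_comm])) hab
    · exact MonoidHom.mem_ker.1 (ht ▸ mem_top h)
  rw [CfsgLib.Transfer.transfer_eq_prod_fixedVal χ h] at hV
  swap
  · intro i hi hid g hg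
    refine (hχ _).2 ?_
    by_contra hnM
    have h8 := hmin _ ⟨hg, hnM⟩
    have h9 : orderOf (g⁻¹ * h ^ i * g) = orderOf h / i := by
      have e2 := (MulAut.conj g⁻¹).orderOf_eq (h ^ i)
      rw [MulAut.conj_apply, inv_inv] at e2
      rw [e2, orderOf_pow_of_dvd (by omega) hid]
    rw [h9] at h8
    have := Nat.div_lt_self (orderOf_pos h) hi
    omega
  have hterm : ∀ q : G ⧸ (S : Subgroup G), CfsgLib.Transfer.fixedVal χ h q =
      if h • q = q then -1 else 1 := by
    intro q
    split_ifs with hq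
    · obtain ⟨g, rfl⟩ := QuotientGroup.mk_surjective q
      have hg := (CfsgLib.Transfer.mem_iff_smul_eq h g).2 hq
      rw [CfsgLib.Transfer.fixedVal_of_mem χ h hg]
      exact (Int.units_eq_one_or _).resolve_left fun h1 => hfix g hg ((hχ _).1 h1)
    · exact CfsgLib.Transfer.fixedVal_of_ne χ h hq
  rw [Finset.prod_congr rfl (fun q _ => hterm q), Finset.prod_ite, Finset.prod_const,
    Finset.prod_const_one, mul_one, neg_one_pow_eq_one_iff_even (by decide)] at hV
  have hP : IsPGroup 2 (zpowers h) := S.isPGroup'.to_le (zpowers_le.2 hS)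
  have h10 := hP.card_modEq_card_fixedPoints (G ⧸ (S : Subgroup G))
  have h11 : Nat.card (MulAction.fixedPoints (zpowers h) (G ⧸ (S : Subgroup G))) =
      (Finset.univ.filter fun q : G ⧸ (S : Subgroup G) => h • q = q).card := by
    rw [← Fintype.card_subtype, ← Nat.card_eq_fintype_card]
    refine Nat.card_congr (Equiv.subtypeEquivRight fun q => ?_)
    constructor
    · exact fun hq => hq ⟨h, mem_zpowers h⟩
    · intro hq y
      have : h ∈ MulAction.stabilizer G q := hq
      exact (zpowers_le.2 this) y.2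
  rw [h11, ← index_eq_card] at h10
  exact S.not_dvd_index (Nat.modEq_zero_iff_dvd.1 (h10.trans (Nat.modEq_zero_iff_dvd.2 (even_iff_two_dvd.1 hV))))

end CfsgLib.ChainEight
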