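import Cfsg.Agent.Lib.ChainEight.Basic
import Cfsg.Agent.Lib.PGroups.MaximalClassTwo

/-!
# Chain length eight: the case of a factor of order two

The class of `u` in a Sylow 2-subgroup fills a coset of the commutator subgroup, which is therefore
cyclic of order 16 and centralized by `c`; the transfer finishes both possible quotients.
-/

set_option autoImplicit false

namespace CfsgLib.ChainEight

open Subgroup

universe u

variable {W : Type u} [Group W] [Finite W]

/-- The class of an element with a small centralizer inside the coset of the commutator subgroup. -/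
theorem class_full (hW : Nat.card W = 128) {D : Subgroup W} (hD : Nat.card D = 8) {w : W}
    (hw : w * w = 1) (hcw : ∀ a, a * w = w * a → a ∈ D) :
    16 ≤ Nat.card (commutator W) ∧
      (Nat.card (commutator W) = 16 → ∀ t ∈ commutator W, ∃ a, a * w * a⁻¹ = w * t) := by
  have hinv : w⁻¹ = w := inv_eq_of_mul_eq_one_right hw
  let f : W ⧸ D → commutator W := fun p =>
    ⟨w * (p.out * w * p.out⁻¹), by
      rw [commutator_def]
      have := commutator_mem_commutator (mem_top w⁻¹) (mem_top p.out)
      simpa [commutatorElement_def, hinv, mul_assoc] using this⟩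
  have hinj : Function.Injective f := fun p q e => by
    have e1 : p.out * w * p.out⁻¹ = q.out * w * q.out⁻¹ := mul_left_cancel (congrArg Subtype.val e)
    rw [← QuotientGroup.out_eq' p, ← QuotientGroup.out_eq' q, QuotientGroup.eq]
    apply hcw
    calc p.out⁻¹ * q.out * w = p.out⁻¹ * (q.out * w * q.out⁻¹) * q.out := by group
      _ = p.out⁻¹ * (p.out * w * p.out⁻¹) * q.out := by rw [e1]
      _ = w * (p.out⁻¹ * q.out) := by group
  have hc : Nat.card (W ⧸ D) = 16 := by
    have := card_eq_card_quotient_mul_card_subgroup D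
    rw [hW, hD] at this
    omega
  refine ⟨hc ▸ Nat.card_le_card_of_injective f hinj, fun h16 t ht => ?_⟩
  obtain ⟨p, hp⟩ :=
    ((Nat.bijective_iff_injective_and_card f).2 ⟨hinj, hc.trans h16.symm⟩).2 ⟨t, ht⟩
  refine ⟨p.out, ?_⟩
  rw [← (show w * (p.out * w * p.out⁻¹) = t from congrArg Subtype.val hp), ← mul_assoc w w, hw,
    one_mul]

omit [Finite W] in
theorem ab_eq {a b : W} (h : Abelianization.of a = Abelianization.of b) :
    a⁻¹ * b ∈ commutator W := QuotientGroup.eq.1 h

omit [Finite W] in
theorem ab_one {a : W} (h : Abelianization.of a = 1) : a ∈ commutator W :=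
  (QuotientGroup.eq_one_iff a).1 h

omit [Finite W] in
theorem ab_mem {a : W} (h : a ∈ commutator W) : Abelianization.of a = 1 :=
  (QuotientGroup.eq_one_iff a).2 h

theorem four_inj {A : Type u} [CommGroup A] {x y : A} (hx : x ≠ 1) (hy : y ≠ 1) (hxy : x ≠ y)
    (hxy1 : x * y ≠ 1) : Function.Injective ![1, x, y, x * y] := by
  intro i j h
  fin_cases i <;> fin_cases j <;> first
    | rfl
    | (exfalso; revert h; simp [hx, hy, hxy, hxy1, hx.symm, hy.symm, hxy.symm, hxy1.symm])

/-- The structure of the Sylow 2-subgroup. -/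
theorem two_shape (hW : Nat.card W = 128) {D : Subgroup W} (hD : Nat.card D = 8)
    (hDc : ∀ a ∈ D, ∀ b ∈ D, a * b = b * a) (hD2 : ∀ a ∈ D, a * a = 1) {p c z0 : W}
    (hp : p ∈ D) (hcD : c ∈ D) (hp1 : p ≠ 1) (hpz : p ≠ z0) (hc1 : c ≠ 1) (hcz : c ≠ z0)
    (hpc1 : p * c ≠ 1) (hpcz : p * c ≠ z0) (hcp : ∀ a, a * p = p * a → a ∈ D)
    (hcpc : ∀ a, a * (p * c) = p * c * a → a ∈ D)
    (hconj : ∀ a, a * p * a⁻¹ ∈ D → a * p * a⁻¹ = p ∨ a * p * a⁻¹ = p * z0)
    (hz : z0 ∈ commutator W) (hz1 : z0 ≠ 1) (hz2 : z0 * z0 = 1)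
    (hncen : ∃ a, a * c ≠ c * a) :
    Nat.card (commutator W) = 16 ∧ (∀ t ∈ commutator W, ∃ a, a * p * a⁻¹ = p * t) ∧
      (∀ t ∈ commutator W, c * t = t * c) ∧
      (∀ t ∈ commutator W, t * t = 1 → t = 1 ∨ t = z0) ∧ (∀ a, a * z0 = z0 * a) ∧
      p ∉ commutator W ∧ c ∉ commutator W ∧ p * c ∉ commutator W ∧
      Nat.card (centralizer ({c} : Set W)) = 64 := by
  have hpp := hD2 p hp
  have hpcD : p * c ∈ D := mul_mem hp hcD
  have hP : IsPGroup 2 W := IsPGroup.of_card (n := 7) hW
  obtain ⟨h16, hfull⟩ := class_full hW hD hpp hcp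
  obtain ⟨-, hfull'⟩ := class_full hW hD (hD2 _ hpcD) hcpc
  have hna : ¬ IsMulCommutative W := fun hcm => by
    have hDtop : D = ⊤ := eq_top_iff.2 fun a _ => hcp a (hcm.is_comm.comm a p)
    rw [hDtop, card_top, hW] at hD
    omega
  have hK : Nat.card (commutator W) = 16 := by
    have h4 := PGroups.sq_le_index_commutator hP hna
    have hmul := card_mul_index (commutator W)
    rw [hW] at hmul
    have hle : Nat.card (commutator W) ≤ 32 := by nlinarith
    have hdvd : Nat.card (commutator W) ∣ 128 := hW ▸ Subgroup.card_subgroup_dvd_card _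
    obtain h | h : Nat.card (commutator W) = 16 ∨ Nat.card (commutator W) = 32 := by
      generalize Nat.card (commutator W) = k at h16 hle hdvd ⊢
      interval_cases k <;> omega
    · exact h
    exfalso
    have hi : (commutator W).index = 4 := by rw [h] at hmul; omega
    obtain ⟨g, hg⟩ := PGroups.exists_orderOf_eq_of_maximalClass (n := 7) (by norm_num) hW
      (PGroups.maximalClass_of_index_commutator (n := 7) hW hi)
    have hZ2 : (zpowers g).index = 2 := by
      have h1 := card_mul_index (zpowers g)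
      rw [Nat.card_zpowers, hg, hW] at h1
      norm_num at h1
      omega
    haveI := normal_of_index_eq_two hZ2
    have hrel : (zpowers g).relIndex D ∣ 2 := hZ2 ▸ relIndex_dvd_index_of_normal _ _
    have hE := card_mul_index ((zpowers g).subgroupOf D)
    rw [← relIndex, hD] at hE
    haveI : IsCyclic (zpowers g) := inferInstance
    haveI : IsCyclic ((zpowers g).subgroupOf D) := by
      let ι : ((zpowers g).subgroupOf D) →* zpowers g :=
        { toFun := fun a => ⟨((a : D) : W), a.2⟩
          map_one' := rfl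
          map_mul' := fun _ _ => rfl }
      exact isCyclic_of_injective ι fun a b e => Subtype.ext (Subtype.ext (congrArg
        (fun q : zpowers g => (q : W)) e))
    obtain ⟨a, ha⟩ := IsCyclic.exists_generator (α := (zpowers g).subgroupOf D)
    have hord : orderOf a ≤ 2 := orderOf_le_of_pow_eq_one two_pos (by
      rw [sq]
      exact Subtype.ext (Subtype.ext (hD2 _ (a : D).2)))
    rw [orderOf_eq_card_of_forall_mem_zpowers ha] at hord
    have := Nat.le_of_dvd two_pos hrel
    nlinarith
  have hinvp : ∀ t ∈ commutator W, p * t * p = t⁻¹ := by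
    intro t ht
    obtain ⟨a, ha⟩ := hfull hK t ht
    have h1 : p * t * (p * t) = 1 := by
      rw [← ha]
      calc a * p * a⁻¹ * (a * p * a⁻¹) = a * (p * p) * a⁻¹ := by group
        _ = 1 := by rw [hpp]; group
    exact eq_inv_of_mul_eq_one_left (by rw [mul_assoc p t p] at *; simpa [mul_assoc] using h1)
  have hinvpc : ∀ t ∈ commutator W, p * c * t * (p * c) = t⁻¹ := by
    intro t ht
    obtain ⟨a, ha⟩ := hfull' hK t ht
    have h1 : p * c * t * (p * c * t) = 1 := by
      rw [← ha]
      calc a * (p * c) * a⁻¹ * (a * (p * c) * a⁻¹) = a * (p * c * (p * c)) * a⁻¹ := by group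
        _ = 1 := by rw [hD2 _ hpcD]; group
    exact eq_inv_of_mul_eq_one_left (by simpa [mul_assoc] using h1)
  have hpcc : p * c = c * p := hDc p hp c hcD
  have hcc := hD2 c hcD
  have hct : ∀ t ∈ commutator W, c * t = t * c := by
    intro t ht
    have h1 : p * (c * t * c) * p = p * t * p := by
      rw [hinvp t ht, ← hinvpc t ht]
      conv_rhs => arg 2; rw [hpcc]
      group
    have h2 : c * t * c = t := mul_left_cancel (mul_right_cancel h1)
    calc c * t = c * t * (c * c) := by rw [hcc, mul_one]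
      _ = (c * t * c) * c := by group
      _ = t * c := by rw [h2]
  have hKD : ∀ t ∈ commutator W, t ∈ D → t = 1 ∨ t = z0 := by
    intro t ht htD
    obtain ⟨a, ha⟩ := hfull hK t ht
    rcases hconj a (ha ▸ mul_mem hp htD) with h | h <;> rw [ha] at h
    · exact Or.inl (mul_eq_left.1 h)
    · exact Or.inr (mul_left_cancel h)
  have hinvol : ∀ t ∈ commutator W, t * t = 1 → t = 1 ∨ t = z0 := by
    intro t ht ht2
    refine hKD t ht (hcp t ?_)
    have h1 := hinvp t ht
    rw [inv_eq_of_mul_eq_one_right ht2] at h1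
    calc t * p = p * t * p * p := by rw [h1]
      _ = p * t := by rw [mul_assoc, hpp, mul_one]
  have hzc : ∀ a, a * z0 = z0 * a := by
    intro a
    have hm : a * z0 * a⁻¹ ∈ commutator W :=
      (inferInstance : (commutator W).Normal).conj_mem _ hz a
    have h2 : a * z0 * a⁻¹ * (a * z0 * a⁻¹) = 1 := by
      calc a * z0 * a⁻¹ * (a * z0 * a⁻¹) = a * (z0 * z0) * a⁻¹ := by group
        _ = 1 := by rw [hz2]; group
    rcases hinvol _ hm h2 with h | h
    · exact absurd (conj_eq_one_iff.1 h) hz1
    · exact mul_inv_eq_iff_eq_mul.1 h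
  have hpK : p ∉ commutator W := fun h => by rcases hKD p h hp with h | h <;> contradiction
  have hcK : c ∉ commutator W := fun h => by rcases hKD c h hcD with h | h <;> contradiction
  have hpcK : p * c ∉ commutator W := fun h => by
    rcases hKD _ h hpcD with h | h <;> contradiction
  refine ⟨hK, hfull hK, hct, hinvol, hzc, hpK, hcK, hpcK, ?_⟩
  set Cc := centralizer ({c} : Set W) with hCc
  have hKc : commutator W ≤ Cc := fun t ht => mem_centralizer_singleton_iff.2 (hct t ht).symm
  have hpC : p ∈ Cc := mem_centralizer_singleton_iff.2 hpcc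
  have hcC : c ∈ Cc := mem_centralizer_singleton_iff.2 rfl
  have hdvd : Nat.card Cc ∣ 128 := hW ▸ Subgroup.card_subgroup_dvd_card _
  have hne : Nat.card Cc ≠ 128 := by
    intro h
    obtain ⟨a, ha⟩ := hncen
    have htop : Cc = ⊤ := eq_top_of_card_eq _ (h.trans hW.symm)
    exact ha (mem_centralizer_singleton_iff.1 (htop ▸ mem_top a : a ∈ Cc))
  have hge : 4 ≤ (commutator W).relIndex Cc := by
    let g : Fin 4 → Cc ⧸ (commutator W).subgroupOf Cc := fun i =>
      QuotientGroup.mk (![1, ⟨p, hpC⟩, ⟨c, hcC⟩, ⟨p, hpC⟩ * ⟨c, hcC⟩] i)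
    have hg : Function.Injective g := by
      intro i j h
      have h1 := QuotientGroup.eq.1 h
      rw [mem_subgroupOf] at h1
      have hab := ab_mem h1
      simp only [Subgroup.coe_mul, InvMemClass.coe_inv, map_mul, map_inv, inv_mul_eq_one] at hab
      have hv : ∀ i : Fin 4, Abelianization.of
          ((![1, ⟨p, hpC⟩, ⟨c, hcC⟩, ⟨p, hpC⟩ * ⟨c, hcC⟩] i : Cc) : W) =
          ![1, Abelianization.of p, Abelianization.of c,
            Abelianization.of p * Abelianization.of c] i := fun i => by fin_cases i <;> simp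
      rw [hv, hv] at hab
      have e1 : Abelianization.of p ≠ (1 : Abelianization W) := fun e => hpK (ab_one e)
      have e2 : Abelianization.of c ≠ (1 : Abelianization W) := fun e => hcK (ab_one e)
      have e3 : Abelianization.of p * Abelianization.of c ≠ (1 : Abelianization W) := fun e =>
        hpcK (ab_one (by rw [map_mul]; exact e))
      have e4 : Abelianization.of p ≠ (Abelianization.of c : Abelianization W) := fun e =>
        hpcK (by
          have := ab_eq e
          rwa [inv_eq_of_mul_eq_one_right hpp] at this)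
      exact four_inj e1 e2 e4 e3 hab
    have := Nat.card_le_card_of_injective g hg
    rw [Nat.card_fin] at this
    exact this
  have hmul := card_mul_index ((commutator W).subgroupOf Cc)
  rw [Nat.card_congr (subgroupOfEquivOfLe hKc).toEquiv, hK, ← relIndex] at hmul
  have h64 : 64 ≤ Nat.card Cc := by nlinarith
  have h128 : Nat.card Cc ≤ 128 := Nat.le_of_dvd (by norm_num) hdvd
  generalize Nat.card Cc = k at hdvd hne h64 h128 ⊢
  obtain ⟨i, hi, rfl⟩ := (Nat.dvd_prime_pow Nat.prime_two).1 (show k ∣ 2 ^ 7 from hdvd)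
  interval_cases i <;> omega

omit [Finite W] in
/-- The subgroup of index two above a four group of the commutator quotient. -/
theorem exists_four {a b : W} (ha : Abelianization.of a * Abelianization.of a = 1)
    (hb : Abelianization.of b * Abelianization.of b = 1) :
    ∃ M : Subgroup W, ∀ h, h ∈ M ↔ Abelianization.of h = 1 ∨
      Abelianization.of h = Abelianization.of a ∨ Abelianization.of h = Abelianization.of b ∨
      Abelianization.of h = Abelianization.of a * Abelianization.of b := by
  set x := Abelianization.of a with hx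
  set y := Abelianization.of b with hy
  let F : Subgroup (Abelianization W) :=
    { carrier := {h | h = 1 ∨ h = x ∨ h = y ∨ h = x * y}
      one_mem' := Or.inl rfl
      mul_mem' := by
        have ha' : ∀ q, x * (x * q) = q := fun q => by rw [← mul_assoc, ha, one_mul]
        have hb' : ∀ q, y * (y * q) = q := fun q => by rw [← mul_assoc, hb, one_mul]
        rintro p q (rfl | rfl | rfl | rfl) (rfl | rfl | rfl | rfl) <;>
          simp [ha, hb, ha', hb', mul_comm, mul_left_comm, mul_assoc]
      inv_mem' := by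
        rintro p (rfl | rfl | rfl | rfl) <;>
          simp [inv_eq_of_mul_eq_one_right ha, inv_eq_of_mul_eq_one_right hb, mul_comm] }
  exact ⟨F.comap Abelianization.of, fun h => Iff.rfl⟩

/-- Such a subgroup contains four cosets. -/
theorem card_four {a b : W} {M : Subgroup W} (hM : ∀ h, h ∈ M ↔ Abelianization.of h = 1 ∨
      Abelianization.of h = Abelianization.of a ∨ Abelianization.of h = Abelianization.of b ∨
      Abelianization.of h = Abelianization.of a * Abelianization.of b)
    (ha : Abelianization.of a ≠ 1) (hb : Abelianization.of b ≠ 1)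
    (hab : Abelianization.of a ≠ Abelianization.of b)
    (hab1 : Abelianization.of a * Abelianization.of b ≠ 1) :
    4 * Nat.card (commutator W) ≤ Nat.card M := by
  have hv : ∀ i : Fin 4, Abelianization.of (![1, a, b, a * b] i) =
      ![1, Abelianization.of a, Abelianization.of b,
        Abelianization.of a * Abelianization.of b] i := fun i => by fin_cases i <;> simp
  let g : Fin 4 × commutator W → M := fun q =>
    ⟨![1, a, b, a * b] q.1 * q.2, by
      rw [hM, map_mul, show Abelianization.of (q.2 : W) = 1 from ab_mem q.2.2, mul_one, hv]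
      generalize q.1 = i
      fin_cases i <;> simp⟩
  have hg : Function.Injective g := by
    rintro ⟨i, k⟩ ⟨j, l⟩ e
    have e' : ![1, a, b, a * b] i * (k : W) = ![1, a, b, a * b] j * l := congrArg Subtype.val e
    have e'' := congrArg (Abelianization.of (G := W)) e'
    rw [map_mul, map_mul, show Abelianization.of (k : W) = 1 from ab_mem k.2,
      show Abelianization.of (l : W) = 1 from ab_mem l.2, mul_one, mul_one, hv, hv] at e''
    have hij := four_inj ha hb hab hab1 e''
    subst hij
    exact Prod.ext rfl (Subtype.ext (mul_left_cancel e'))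
  have := Nat.card_le_card_of_injective g hg
  rwa [Nat.card_prod, Nat.card_fin] at this

end CfsgLib.ChainEight

namespace CfsgLib.ChainEight

open Subgroup

universe v

/-- `|C| = 2` is impossible. -/
theorem two : TransferStmt.{v} → ExtremalStmt.{v} → TwoStmt.{v} := by
  intro htr hex G _ _ S D T C x p s z0 hP hC
  have hDS : D ≤ (S : Subgroup G) := hP.D_le_S
  obtain ⟨c, hcC, hc1⟩ : ∃ c ∈ C, c ≠ 1 := by
    by_contra! h
    rw [(eq_bot_iff_forall C).2 h, card_bot] at hC
    omega
  have hCelt : ∀ a ∈ C, a = 1 ∨ a = c := by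
    intro a ha
    rw [Nat.card_eq_two_iff' (⟨1, one_mem C⟩ : C)] at hC
    obtain ⟨y, -, hy⟩ := hC
    by_contra! h
    have e1 := hy ⟨a, ha⟩ (fun e => h.1 (congrArg Subtype.val e))
    have e2 := hy ⟨c, hcC⟩ (fun e => hc1 (congrArg Subtype.val e))
    exact h.2 (congrArg Subtype.val (e1.trans e2.symm))
  have hcD : c ∈ D := hP.le_C hcC
  have hcc : c * c = 1 := by
    rcases hCelt _ (mul_mem hcC hcC) with h | h
    · exact h
    · exact absurd (mul_eq_left.1 h) hc1
  have hpp : p * p = 1 := by rw [← sq, ← hP.u_two, pow_orderOf_eq_one]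
  have hss : s * s = 1 := by rw [← sq, ← hP.s_two, pow_orderOf_eq_one]
  have hzz : z0 * z0 = 1 := by rw [← sq, ← hP.z0_two, pow_orderOf_eq_one]
  have hD2 : ∀ a ∈ D, a * a = 1 := by
    have key : ∀ a ∈ D, ∀ b ∈ D, a * a = 1 → b * b = 1 → a * b * (a * b) = 1 := by
      intro a ha b hb h1 h2
      calc a * b * (a * b) = a * (b * a) * b := by group
        _ = a * (a * b) * b := by rw [hP.comm b hb a ha]
        _ = a * a * (b * b) := by group
        _ = 1 := by rw [h1, h2, one_mul]
    intro a ha
    obtain ⟨e, heC, he⟩ := hP.decomp a ha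
    have hee : e * e = 1 := by rcases hCelt e heC with rfl | rfl; exacts [one_mul 1, hcc]
    have heD := hP.le_C heC
    rcases he with rfl | rfl | rfl | rfl
    · exact hee
    · exact key _ hP.u_mem _ heD hpp hee
    · exact key _ hP.z0_mem _ heD hzz hee
    · exact key _ (mul_mem hP.u_mem hP.z0_mem) _ heD (key _ hP.u_mem _ hP.z0_mem hpp hzz) hee
  -- facts in `G`
  have hpz : p * z0 ∉ C := hP.uz0_notMem
  have hp1 : p ≠ 1 := fun e => hP.u_notMem (e ▸ one_mem C)
  have hz1 : z0 ≠ 1 := fun e => hP.z0_notMem (e ▸ one_mem C)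
  have hp_z : p ≠ z0 := fun e => hpz (by rw [e, hzz]; exact one_mem C)
  have hcz : c ≠ z0 := fun e => hP.z0_notMem (e ▸ hcC)
  have hpc1 : p * c ≠ 1 := fun e => hP.u_notMem (by
    rw [eq_inv_of_mul_eq_one_left e]; exact inv_mem hcC)
  have hpcz : p * c ≠ z0 := fun e => hpz (by rw [← e, ← mul_assoc, hpp, one_mul]; exact hcC)
  have hcbad : ¬ Good c := hP.bad hcC
  -- pass to `S`
  have hW : Nat.card ↥(S : Subgroup G) = 128 := hP.eight.card_syl S
  set D' := D.subgroupOf (S : Subgroup G) with hD'
  have hcardD : Nat.card D' = 8 := by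
    rw [hD', Nat.card_congr (subgroupOfEquivOfLe hDS).toEquiv, hP.card_D, hC]
  let p' : ↥(S : Subgroup G) := ⟨p, hDS hP.u_mem⟩
  let c' : ↥(S : Subgroup G) := ⟨c, hDS hcD⟩
  let z' : ↥(S : Subgroup G) := ⟨z0, hDS hP.z0_mem⟩
  let s' : ↥(S : Subgroup G) := ⟨s, hP.le_S hP.s_mem⟩
  have hzK : z' ∈ commutator ↥(S : Subgroup G) := by
    have h := commutator_mem_commutator (mem_top p') (mem_top s')
    rw [← commutator_def] at h
    convert h using 1
    apply Subtype.ext
    show z0 = p * s * p⁻¹ * s⁻¹
    rw [inv_eq_of_mul_eq_one_right hpp, inv_eq_of_mul_eq_one_right hss, hP.z0_eq, ← mul_assoc]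
  have hncen : ∃ a : ↥(S : Subgroup G), a * c' ≠ c' * a := by
    by_contra! h
    exact hcbad (hP.eight.good_central (hDS hcD) hc1 fun a ha => congrArg Subtype.val (h ⟨a, ha⟩))
  obtain ⟨hK, hfull, hct, hinvol, hzc, hpK, hcK, hpcK, hCc⟩ := two_shape hW hcardD
    (fun a ha b hb => Subtype.ext (hP.comm _ ha _ hb)) (fun a ha => Subtype.ext (hD2 _ ha))
    (show p' ∈ D' from hP.u_mem) (show c' ∈ D' from hcD)
    (fun e => hp1 (congrArg Subtype.val e)) (fun e => hp_z (congrArg Subtype.val e) : p' ≠ z')
    (fun e => hc1 (congrArg Subtype.val e)) (fun e => hcz (congrArg Subtype.val e))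
    (fun e => hpc1 (congrArg Subtype.val e)) (fun e => hpcz (congrArg Subtype.val e))
    (fun a ha => hP.cent_u 1 (one_mem C) a a.2 (by
      rw [mul_one]; exact congrArg Subtype.val ha))
    (fun a ha => hP.cent_u c hcC a a.2 (congrArg Subtype.val ha))
    (fun a ha => (hP.conj_u a a.2 ha).imp Subtype.ext Subtype.ext)
    hzK (fun e => hz1 (congrArg Subtype.val e)) (Subtype.ext hzz) hncen
  set Cc := centralizer ({c'} : Set ↥(S : Subgroup G)) with hCcdef
  have memCc : ∀ a : ↥(S : Subgroup G), a ∈ Cc ↔ a * c' = c' * a := fun a => mem_centralizer_singleton_iff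
  have hCi : Cc.index = 2 := by
    have := card_mul_index Cc
    rw [hCc, hW] at this
    omega
  have hKCc : commutator ↥(S : Subgroup G) ≤ Cc := fun t ht => (memCc t).2 (hct t ht).symm
  have hDCc : ∀ a ∈ D', a ∈ Cc := fun a ha => (memCc a).2 (Subtype.ext (hP.comm _ ha _ hcD))
  have zcen : ∀ a ∈ (S : Subgroup G), a * z0 = z0 * a := fun a ha =>
    congrArg Subtype.val (hzc ⟨a, ha⟩)
  have hzgood : Good z0 := hP.eight.good_central (hDS hP.z0_mem) hz1 zcen
  have hpgood : Good p := hP.conj_x ▸ hzgood.conj x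
  -- `c` and `c z0` are conjugate
  obtain ⟨a, haC⟩ : ∃ a : ↥(S : Subgroup G), a ∉ Cc := by
    obtain ⟨a, ha⟩ := hncen
    exact ⟨a, fun h => ha ((memCc a).1 h)⟩
  have hac : a * c' * a⁻¹ = c' * z' := by
    set t := c' * (a * c' * a⁻¹) with ht
    have hc2 : c' * c' = 1 := Subtype.ext hcc
    have htK : t ∈ commutator ↥(S : Subgroup G) := by
      have h := commutator_mem_commutator (mem_top c') (mem_top a)
      rw [← commutator_def, commutatorElement_def, inv_eq_of_mul_eq_one_right hc2] at h
      simpa [ht, mul_assoc] using h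
    have e : a * c' * a⁻¹ = c' * t := by rw [ht, ← mul_assoc c' c', hc2, one_mul]
    have h2 : t * t = 1 := by
      calc t * t = c' * c' * (t * t) := by rw [hc2, one_mul]
        _ = c' * (c' * t) * t := by group
        _ = c' * (t * c') * t := by rw [hct t htK]
        _ = (c' * t) * (c' * t) := by group
        _ = a * (c' * c') * a⁻¹ := by rw [← e]; group
        _ = 1 := by rw [hc2]; group
    rcases hinvol t htK h2 with h | h
    · exact absurd ((memCc a).2 (mul_inv_eq_iff_eq_mul.1 (by rw [e, h, mul_one]))) haC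
    · rw [e, h]
  have hbad' : ¬ Good (c * z0) := fun h => by
    apply hcbad
    have h1 : (a : G) * c * (a : G)⁻¹ = c * z0 := congrArg Subtype.val hac
    have := h.conj (a : G)⁻¹
    rw [← h1] at this
    simpa [mul_assoc] using this
  set φ : ↥(S : Subgroup G) →* Abelianization ↥(S : Subgroup G) := Abelianization.of with hφ
  have hc2' : φ c' * φ c' = 1 := by
    rw [← map_mul, show c' * c' = 1 from Subtype.ext hcc, map_one]
  have hp2' : φ p' * φ p' = 1 := by
    rw [← map_mul, show p' * p' = 1 from Subtype.ext hpp, map_one]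
  -- the four group in the quotient
  obtain ⟨N, hN⟩ := exists_four (a := p') (b := c') hp2' hc2'
  have hNCc : ∀ h : ↥(S : Subgroup G), h ∈ Cc ↔ h ∈ N := by
    have hle : N ≤ Cc := by
      intro h hh
      have hpC : p' ∈ Cc := hDCc _ hP.u_mem
      have hcC' : c' ∈ Cc := hDCc _ hcD
      have key : ∀ w ∈ Cc, φ h = φ w → h ∈ Cc := fun w hw e => by
        have := mul_mem hw (inv_mem (hKCc (ab_eq e)))
        rwa [mul_inv_rev, inv_inv, mul_inv_cancel_left] at this
      rcases (hN h).1 hh with e | e | e | e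
      · exact key 1 (one_mem _) (by rw [map_one]; exact e)
      · exact key _ hpC e
      · exact key _ hcC' e
      · exact key _ (mul_mem hpC hcC') (by rw [map_mul]; exact e)
    have e3 : φ p' * φ c' ≠ 1 := fun e => hpcK (ab_one (by rw [map_mul]; exact e))
    have h64 : 64 ≤ Nat.card N := by
      have := card_four hN (fun e => hpK (ab_one e)) (fun e => hcK (ab_one e))
        (fun e => e3 (by rw [show φ p' = φ c' from e, hc2'])) e3
      rwa [hK] at this
    intro h
    rw [Subgroup.eq_of_le_of_card_ge hle (by rw [hCc]; exact h64)]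
  have hsqCc : ∀ h ∈ Cc, φ h * φ h = 1 := by
    intro h hh
    rcases (hN h).1 ((hNCc h).1 hh) with e | e | e | e <;> rw [e]
    · rw [one_mul]
    · exact hp2'
    · exact hc2'
    · rw [mul_mul_mul_comm, hp2', hc2', one_mul]
  have hsq : ∀ h, h ∉ Cc → φ h * φ h = φ a * φ a := by
    intro h hh
    have hm : a⁻¹ * h ∈ Cc := by
      rw [mul_mem_iff_of_index_two hCi, inv_mem_iff]
      tauto
    have := hsqCc _ hm
    rw [map_mul, map_inv, mul_mul_mul_comm, ← mul_inv, inv_mul_eq_one] at this
    exact this.symm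
  -- no element outside has square of the image of `p` or `p c`
  have hnp : ∀ w : ↥(S : Subgroup G), φ w = φ p' ∨ φ w = φ p' * φ c' → φ a * φ a ≠ φ w := by
    intro w hw e
    obtain ⟨v, hvD, hvcen, hvfull, hve⟩ : ∃ v ∈ D', (∀ b : ↥(S : Subgroup G), b * v = v * b → b ∈ D') ∧
        (∀ t ∈ commutator ↥(S : Subgroup G), ∃ b, b * v * b⁻¹ = v * t) ∧ φ v = φ w := by
      rcases hw with h | h
      · exact ⟨p', hP.u_mem, fun b hb => hP.cent_u 1 (one_mem C) b b.2
          (by rw [mul_one]; exact congrArg Subtype.val hb), hfull, h.symm⟩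
      · refine ⟨p' * c', mul_mem hP.u_mem hcD, fun b hb => hP.cent_u c hcC b b.2
          (congrArg Subtype.val hb), ?_, by rw [map_mul, h]⟩
        exact (class_full hW hcardD (Subtype.ext (hD2 _ (mul_mem hP.u_mem hcD)))
          (fun b hb => hP.cent_u c hcC b b.2 (congrArg Subtype.val hb))).2 hK
    have h1 : v⁻¹ * (a * a) ∈ commutator ↥(S : Subgroup G) := ab_eq (by rw [map_mul]; exact hve.trans e.symm)
    obtain ⟨b, hb⟩ := hvfull _ h1
    rw [mul_inv_cancel_left] at hb
    have h2 : b⁻¹ * a * b * v = v * (b⁻¹ * a * b) := by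
      have hv : v = b⁻¹ * (a * a) * b := by rw [← hb]; group
      rw [hv]; group
    have h3 := hDCc _ (hvcen _ h2)
    apply haC
    have h4 : φ a = φ (b⁻¹ * a * b) := by rw [map_mul, map_mul, map_inv]; simp [mul_comm]
    have := mul_mem h3 (inv_mem (hKCc (ab_eq h4)))
    rwa [mul_inv_rev, inv_inv, mul_inv_cancel_left] at this
  have ha2 : a * a ∈ Cc := by rw [mul_mem_iff_of_index_two hCi]
  have hcases := (hN _).1 ((hNCc _).1 ha2)
  rw [map_mul] at hcases
  have hcWord : orderOf c = 2 := orderOf_eq_prime (by rw [sq, hcc]) hc1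
  rcases hcases with e | e | e | e
  rotate_left
  · exact hnp p' (Or.inl rfl) e
  · -- transfer data
    refine htr G S ((commutator ↥(S : Subgroup G)).map (S : Subgroup G).subtype)
      ((S : Subgroup G) ⊓ centralizer ({c} : Set G)) c z0 1 ?_
    refine ⟨hP.eight, map_subtype_le _, ⟨z', hzK, rfl⟩, hP.z0_two, zcen, ?_, hDS hcD, hcWord, ?_,
      ?_, hcbad, hbad', inf_le_left, ?_, ?_, ?_⟩
    · rintro r ⟨r', hr', rfl⟩ hr
      exact (hinvol r' hr' (Subtype.ext hr)).imp (congrArg Subtype.val) (congrArg Subtype.val)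
    · rintro ⟨r', hr', hr⟩
      exact hcK ((Subtype.ext hr : r' = c') ▸ hr')
    · rintro r ⟨r', hr', rfl⟩
      exact congrArg Subtype.val (hct r' hr')
    · have heq : ((S : Subgroup G) ⊓ centralizer ({c} : Set G)).subgroupOf (S : Subgroup G) = Cc := by
        ext b
        rw [mem_subgroupOf, Subgroup.mem_inf, mem_centralizer_singleton_iff, memCc]
        exact ⟨fun h => Subtype.ext h.2, fun h => ⟨b.2, congrArg Subtype.val h⟩⟩
      rw [relIndex, heq, hCi]
    · rintro m ⟨hmS, hmc⟩
      have hm : (⟨m, hmS⟩ : ↥(S : Subgroup G)) ∈ Cc :=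
        (memCc _).2 (Subtype.ext (mem_centralizer_singleton_iff.1 hmc))
      refine ⟨(⟨m, hmS⟩ : ↥(S : Subgroup G)) ^ 2, ab_one ?_, by simp⟩
      rw [map_pow, sq]; exact hsqCc _ hm
    · intro h hhS hhM
      have hh : (⟨h, hhS⟩ : ↥(S : Subgroup G)) ∉ Cc := fun hm => hhM ⟨hhS,
        mem_centralizer_singleton_iff.2 (congrArg Subtype.val ((memCc _).1 hm))⟩
      set h' : ↥(S : Subgroup G) := ⟨h, hhS⟩
      have hmem : c'⁻¹ * (h' * h') ∈ commutator ↥(S : Subgroup G) :=
        ab_eq (by rw [map_mul]; exact ((hsq h' hh).trans e).symm)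
      refine ⟨_, ⟨_, hmem, rfl⟩, ?_⟩
      simp only [pow_one, Subgroup.coe_subtype, Subgroup.coe_mul, InvMemClass.coe_inv, c', h']
      rw [mul_inv_cancel_left, sq]
  · exact hnp (p' * c') (Or.inr (map_mul _ _ _)) (e.trans (map_mul _ _ _).symm)
  -- the quotient is elementary
  obtain ⟨M, hM⟩ := exists_four (a := p') (b := a) hp2' e
  have hMc : c' ∉ M := fun h => by
    rcases (hM _).1 h with h | h | h | h
    · exact hcK (ab_one h)
    · exact hpcK (ab_one (by rw [map_mul, ← h, hc2']))
    · exact haC ((hNCc a).2 ((hN a).2 (Or.inr (Or.inr (Or.inl h.symm)))))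
    · refine haC ((hNCc a).2 ((hN a).2 (Or.inr (Or.inr (Or.inr ?_)))))
      rw [show φ p' * φ c' = φ p' * (φ p' * φ a) from congrArg _ h, ← mul_assoc, hp2', one_mul]
  have hMi : M.index = 2 := by
    have ea : ∀ w ∈ Cc, φ a ≠ φ w := fun w hw h => haC (by
      have := mul_mem hw (inv_mem (hKCc (ab_eq h)))
      rwa [mul_inv_rev, inv_inv, mul_inv_cancel_left] at this)
    have h4 := card_four hM (fun e => hpK (ab_one e)) (by simpa using ea 1 (one_mem _))
      (ea _ (hDCc _ hP.u_mem)).symm (fun h => ea _ (hDCc _ hP.u_mem) (by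
        calc φ a = φ p' * (φ p' * φ a) := by rw [← mul_assoc, hp2', one_mul]
          _ = φ p' := by rw [h, mul_one]))
    rw [hK] at h4
    have hmul := card_mul_index M
    rw [hW] at hmul
    have h1 : M.index ≠ 1 := fun h => hMc (index_eq_one.1 h ▸ mem_top _)
    have h0 := M.index_ne_zero_of_finite
    have : M.index ≤ 2 := by nlinarith
    omega
  obtain ⟨i, hiM, hci, hext⟩ := hex G hP.eight.simple hP.eight.nonab S
    (M.map (S : Subgroup G).subtype) (map_subtype_le _)
    (by
      rw [relIndex, show (M.map (S : Subgroup G).subtype).subgroupOf (S : Subgroup G) = M from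
        comap_map_eq_self_of_injective (subtype_injective _) M, hMi])
    c (hDS hcD) hcWord (by rintro ⟨q, hq, e⟩; exact hMc ((Subtype.ext e : q = c') ▸ hq))
  obtain ⟨i', hi'M, rfl⟩ := hiM
  obtain ⟨g, hg⟩ := isConj_iff.1 hci
  have hibad : ¬ Good (i' : G) := fun h => hcbad (by
    have := h.conj g⁻¹
    rw [show ((i' : G)) = g * c * g⁻¹ from hg.symm] at this
    simpa [mul_assoc] using this)
  have hii : i' * i' = 1 := Subtype.ext (by
    show (i' : G) * i' = 1
    rw [show ((i' : G)) = g * c * g⁻¹ from hg.symm]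
    calc g * c * g⁻¹ * (g * c * g⁻¹) = g * (c * c) * g⁻¹ := by group
      _ = 1 := by rw [hcc]; group)
  have hi1 : (i' : G) ≠ 1 := by
    rw [show ((i' : G)) = g * c * g⁻¹ from hg.symm]
    exact fun h => hc1 (conj_eq_one_iff.1 h)
  have h64 : 64 ≤ Nat.card (centralizer ({i'} : Set ↥(S : Subgroup G))) := by
    have hPC : Nat.card ((S : Subgroup G) ⊓ centralizer ({c} : Set G) : Subgroup G) = 64 := by
      rw [← hCc]
      exact Nat.card_congr
        { toFun := fun b => ⟨⟨b, b.2.1⟩, (memCc _).2 (Subtype.ext (mem_centralizer_singleton_iff.1 b.2.2))⟩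
          invFun := fun b => ⟨((b : ↥(S : Subgroup G)) : G), (b : ↥(S : Subgroup G)).2,
            mem_centralizer_singleton_iff.2 (congrArg Subtype.val ((memCc _).1 b.2))⟩
          left_inv := fun _ => rfl
          right_inv := fun _ => rfl }
    have hle := hext _ (S.isPGroup'.to_le inf_le_left) inf_le_right
    rw [hPC] at hle
    refine hle.trans (Nat.card_le_card_of_injective (fun b => ⟨⟨b, b.2.1⟩,
      mem_centralizer_singleton_iff.2 (Subtype.ext (mem_centralizer_singleton_iff.1 b.2.2))⟩) ?_)
    intro b b' h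
    exact Subtype.ext (congrArg (fun q : centralizer ({i'} : Set ↥(S : Subgroup G)) => ((q : ↥(S : Subgroup G)) : G)) h)
  rcases (hM i').1 hi'M with h | h | h | h
  · rcases hinvol i' (ab_one h) hii with h' | h'
    · exact hi1 (congrArg Subtype.val h')
    · exact hibad ((congrArg Subtype.val h' : (i' : G) = z0) ▸ hzgood)
  · obtain ⟨b, hb⟩ := hfull _ (ab_eq h.symm)
    rw [mul_inv_cancel_left] at hb
    exact hibad ((congrArg Subtype.val hb.symm : (i' : G) = b * p * (b : G)⁻¹) ▸ hpgood.conj (b : G))
  all_goals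
    have hiC : i' ∉ Cc := fun hm => haC (by
      first
        | (have := mul_mem hm (hKCc (ab_eq h)); simpa [mul_assoc] using this)
        | (have h' : φ i' = φ (p' * a) := by rw [map_mul]; exact h
           have := mul_mem hm (hKCc (ab_eq h'))
           rw [mul_inv_cancel_left, mul_mem_iff_of_index_two hCi] at this
           exact this.1 (hDCc _ hP.u_mem)))
    set Ci := centralizer ({i'} : Set ↥(S : Subgroup G))
    have memCi : ∀ b : ↥(S : Subgroup G), b ∈ Ci ↔ b * i' = i' * b := fun b => mem_centralizer_singleton_iff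
    have hidx : Ci.index ≤ 2 := by
      have := card_mul_index Ci
      rw [hW] at this
      nlinarith
    have htwo : p' ∈ Ci ∨ c' ∈ Ci ∨ p' * c' ∈ Ci := by
      rcases Nat.lt_or_ge Ci.index 2 with hlt | hge2
      · have h1 : Ci.index = 1 := by have := Ci.index_ne_zero_of_finite; omega
        rw [index_eq_one] at h1
        exact Or.inl (h1 ▸ mem_top _)
      · rw [mul_mem_iff_of_index_two (le_antisymm hidx hge2)]; tauto
    rcases htwo with hm | hm | hm
    · exact hiC (hDCc _ (hP.cent_u 1 (one_mem C) _ i'.2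
        (by rw [mul_one]; exact congrArg Subtype.val ((memCi _).1 hm).symm)))
    · exact hiC ((memCc _).2 ((memCi _).1 hm).symm)
    · exact hiC (hDCc _ (hP.cent_u c hcC _ i'.2 (congrArg Subtype.val ((memCi _).1 hm).symm)))

end CfsgLib.ChainEight
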